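import Groth.Agent.LefEssSurj.LeffPunct
import Groth.Agent.PurePair.Open
import Groth.Agent.PureExtend.Main
import Groth.Agent.FormAlg.CIPic

/-!
Descent of purity along flat local maps and passage of purity to a quotient by an element.
-/

universe u

open CategoryTheory CategoryTheory.Limits AlgebraicGeometry TopologicalSpace Opposite
open Groth.Agent.FormAlg

set_option autoImplicit false
set_option maxHeartbeats 1000000
set_option backward.isDefEq.respectTransparency false
set_option backward.isDefEq.respectTransparency.types false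
set_option linter.style.haveILetI false

noncomputable section

namespace Groth.Agent.LefEssSurj

/-- Restriction along equal morphisms, factorised. -/
def restrictComp {X Y Z : Scheme.{u}} (f : X ⟶ Y) (g : Y ⟶ Z) (h : X ⟶ Z) (w : f ≫ g = h) :
    FEt.restrict h ≅ FEt.restrict g ⋙ FEt.restrict f :=
  MorphismProperty.Over.pullbackComp f g _ w.symm

theorem restrict_isEquivalence_of_isIso {X Y : Scheme.{u}} (f : X ⟶ Y) [IsIso f] :
    (FEt.restrict f).IsEquivalence := by
  haveI : Surjective f := inferInstance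
  exact Groth.Agent.S0238.result f

theorem essSurj_of_square {X Y X' Y' : Scheme.{u}} (j : X ⟶ Y) (j' : X' ⟶ Y') (a : X' ⟶ X) (b : Y' ⟶ Y)
    [IsIso a] [IsIso b] (w : a ≫ j = j' ≫ b) [(FEt.restrict j').EssSurj] : (FEt.restrict j).EssSurj := by
  haveI := restrict_isEquivalence_of_isIso a
  haveI := restrict_isEquivalence_of_isIso b
  let e : FEt.restrict j ⋙ FEt.restrict a ≅ FEt.restrict b ⋙ FEt.restrict j' :=
    (restrictComp a j _ rfl).symm ≪≫ restrictComp j' b _ w.symm
  refine ⟨fun E => ?_⟩
  let F := (FEt.restrict j').objPreimage ((FEt.restrict a).obj E)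
  let G := (FEt.restrict b).objPreimage F
  exact ⟨G, ⟨(FEt.restrict a).preimageIso (e.app G ≪≫
    (FEt.restrict j').mapIso ((FEt.restrict b).objObjPreimageIso F) ≪≫
    (FEt.restrict j').objObjPreimageIso _)⟩⟩

/-- Purity is invariant under isomorphisms. -/
theorem purityHolds_congr {A B : Type u} [CommRing A] [IsLocalRing A] [CommRing B] [IsLocalRing B] (e : A ≃+* B)
    (h : FEt.PurityHolds B) : FEt.PurityHolds A := by
  let b := Spec.map (CommRingCat.ofHom e.toRingHom)
  haveI : IsIso b := by
    haveI : IsIso (CommRingCat.ofHom e.toRingHom) := e.toCommRingCatIso.isIso_hom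
    infer_instance
  haveI : IsLocalHom e.toRingHom := IsLocalHom.of_surjective _ e.surjective
  have hpre : b ⁻¹ᵁ FEt.puncturedSpec A = FEt.puncturedSpec B := preimage_punctured _ (by
    rw [IsLocalRing.map_maximalIdeal_of_surjective e.toRingHom e.surjective]; exact Ideal.le_radical)
  haveI : (FEt.restrict (FEt.puncturedSpec B).ι).EssSurj := h
  exact essSurj_of_square (FEt.puncturedSpec A).ι (FEt.puncturedSpec B).ι
    ((Scheme.isoOfEq _ hpre.symm).hom ≫ b ∣_ FEt.puncturedSpec A) b
    (by rw [Category.assoc, morphismRestrict_ι, Scheme.isoOfEq_hom_ι_assoc])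

/-- Purity descends along flat local maps when the depth is at least two. -/
theorem purityHolds_of_flat {A B : Type u} [CommRing A] [IsNoetherianRing A] [IsLocalRing A]
    [CommRing B] [IsLocalRing B] (φ : A →+* B) [IsLocalHom φ] (hflat : φ.Flat)
    (hrad : IsLocalRing.maximalIdeal B ≤ ((IsLocalRing.maximalIdeal A).map φ).radical)
    (hd : (2 : ℕ∞) ≤ LocCoh.depth A A) (h : FEt.PurityHolds B) : FEt.PurityHolds A := by
  let g := Spec.map (CommRingCat.ofHom φ)
  let U := FEt.puncturedSpec A
  haveI : NoetherianSpace (Spec (CommRingCat.of A)) := inferInstanceAs (NoetherianSpace (PrimeSpectrum A))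
  haveI : QuasiCompact U.ι := inferInstance
  haveI : Flat g := Flat.SpecMap_iff.2 hflat
  haveI : Surjective g := by
    letI := φ.toAlgebra
    haveI : Module.Flat A B := hflat
    haveI : IsLocalHom (algebraMap A B) := ‹IsLocalHom φ›
    haveI : Module.FaithfullyFlat A B := Module.FaithfullyFlat.of_flat_of_isLocalHom
    exact ⟨fun p => PrimeSpectrum.comap_surjective_of_faithfullyFlat (A := A) (B := B) p⟩
  have hj : ∀ V : (Spec (CommRingCat.of A)).Opens, IsAffineOpen V → Function.Bijective (U.ι.app V) :=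
    PurePair.bijective_app_of_depth U.ι fun x hx => by
      obtain rfl : x = IsLocalRing.closedPoint A := not_not.1 fun hne => hx ⟨⟨x, hne⟩, rfl⟩
      exact hd.trans_eq (Purity.depth_stalk_closedPoint A).symm
  haveI : (FEt.restrict (g ⁻¹ᵁ U).ι).EssSurj := by
    rw [show g ⁻¹ᵁ U = FEt.puncturedSpec B from preimage_punctured φ hrad]
    exact h
  exact PurePair.essSurj_restrict_of_descent U.ι hj (g ⁻¹ᵁ U).ι (g ∣_ U) g (isPullback_morphismRestrict g U).flip

/-- Purity passes to the quotient by an element along which the punctured spectrum satisfies the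
effective Lefschetz condition. -/
theorem purityHolds_quotient {A : Type u} [CommRing A] [IsNoetherianRing A] [IsLocalRing A] {f : A}
    (hf : f ∈ IsLocalRing.maximalIdeal A) [IsLocalRing (A ⧸ Ideal.span {f})]
    (hL : LefX.LeffCond (↑(FEt.puncturedSpec A) : Scheme.{u}) (divisorIdeal (FEt.puncturedSpec A) f))
    (hp : ∀ (q : Ideal A) [q.IsPrime], f ∉ q → (∀ q' : Ideal A, q'.IsPrime → q ≤ q' → f ∉ q' → q' = q) →
      ringKrullDim (A ⧸ q) = 1 → FEt.PurityHolds (Localization.AtPrime q))
    (hA : FEt.PurityHolds A) : FEt.PurityHolds (A ⧸ Ideal.span {f}) := by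
  let P := FEt.puncturedSpec A
  let Q := FEt.puncturedSpec (A ⧸ Ideal.span {f})
  let S : Spec (CommRingCat.of (A ⧸ Ideal.span {f})) ⟶ Spec (CommRingCat.of A) :=
    Spec.map (CommRingCat.ofHom (Ideal.Quotient.mk (Ideal.span {f})))
  haveI : IsClosedImmersion S := IsClosedImmersion.spec_of_surjective _ Ideal.Quotient.mk_surjective
  let g := S ∣_ P
  haveI : IsClosedImmersion g :=
    MorphismProperty.of_isPullback (P := @IsClosedImmersion) (isPullback_morphismRestrict S P).flip inferInstance
  let 𝓓 := divisorIdeal P f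
  have hker : g.ker = 𝓓.subschemeι.ker := by
    rw [Scheme.IdealSheafData.ker_subschemeι]
    refine Scheme.IdealSheafData.ext (funext fun V => ?_)
    rw [divisorIdeal_ideal, Scheme.Hom.ker_apply,
      W7Alg.ker_app_baseChange (Ideal.Quotient.mk (Ideal.span {f})) Ideal.Quotient.mk_surjective
        (isPullback_morphismRestrict S P) V, Ideal.mk_ker, Ideal.map_span, Set.image_singleton]
  let ν := IsClosedImmersion.lift g 𝓓.subschemeι hker.le
  let θ := IsClosedImmersion.lift 𝓓.subschemeι g hker.ge
  have hν : ν ≫ g = 𝓓.subschemeι := IsClosedImmersion.lift_fac _ _ _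
  haveI : IsIso ν := ⟨θ, by
    rw [← cancel_mono 𝓓.subschemeι, Category.assoc, IsClosedImmersion.lift_fac, hν, Category.id_comp], by
    rw [← cancel_mono g, Category.assoc, hν, IsClosedImmersion.lift_fac, Category.id_comp]⟩
  haveI : IsLocalHom (Ideal.Quotient.mk (Ideal.span {f})) := IsLocalHom.of_surjective _ Ideal.Quotient.mk_surjective
  have hpre : S ⁻¹ᵁ P = Q := preimage_punctured _ (by
    rw [IsLocalRing.map_maximalIdeal_of_surjective _ Ideal.Quotient.mk_surjective]; exact Ideal.le_radical)
  let r : 𝓓.subscheme ⟶ (Q : Scheme.{u}) := ν ≫ (Scheme.isoOfEq _ hpre).hom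
  haveI := restrict_isEquivalence_of_isIso r
  haveI : NoetherianSpace (Spec (CommRingCat.of A)) := inferInstanceAs (NoetherianSpace (PrimeSpectrum A))
  haveI : IsNoetherian (P : Scheme.{u}) := by
    haveI : CompactSpace (P : Scheme.{u}) := by
      haveI : NoetherianSpace (P : Scheme.{u}) := P.ι.isOpenEmbedding.isInducing.noetherianSpace
      infer_instance
    exact ⟨⟩
  refine ⟨fun E => ?_⟩
  obtain ⟨U, R', hU, hR'⟩ := exists_extension 𝓓 hL ((FEt.restrict r).obj E)
  haveI : (FEt.restrict U.ι).EssSurj := PureExtend.essSurj_restrict U fun x hx => by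
    obtain ⟨e⟩ := nonempty_stalk_equiv P x
    refine purityHolds_congr e (hp _ (fun hfx => hx (hU (mem_support_divisorIdeal P f x hfx))) ?_ ?_)
    · intro q' hq' hle hfq'
      rcases eq_or_eq_of_meet _ ⟨q', hq'⟩ hle f hf (fun r' hr' hfr' => not_not.1 fun hne =>
        hx (((Topology.IsInducing.subtypeVal.specializes_iff).1
          ((PrimeSpectrum.le_iff_specializes _ _).1 hr')).mem_open U.isOpen
          (hU (mem_support_divisorIdeal P f (⟨r', hne⟩ : (P : Scheme.{u})) hfr')))) with e | e
      · exact congrArg PrimeSpectrum.asIdeal e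
      · exact absurd (by rw [show q' = IsLocalRing.maximalIdeal A from congrArg PrimeSpectrum.asIdeal e]; exact hf) hfq'
    · refine ringKrullDim_quotient_eq_one _ x.2 fun q hq => eq_or_eq_of_meet _ _ hq f hf fun r' hr' hfr' =>
        not_not.1 fun hne => hx (((Topology.IsInducing.subtypeVal.specializes_iff).1
          ((PrimeSpectrum.le_iff_specializes _ _).1 hr')).mem_open U.isOpen
          (hU (mem_support_divisorIdeal P f (⟨r', hne⟩ : (P : Scheme.{u})) hfr')))
  haveI : (FEt.restrict P.ι).EssSurj := hA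
  let T := (FEt.restrict U.ι).objPreimage R'
  let F := (FEt.restrict P.ι).objPreimage T
  have hrange : Set.range 𝓓.subschemeι ⊆ Set.range U.ι := by
    rw [Scheme.IdealSheafData.range_subschemeι, U.range_ι]
    exact hU
  let i := IsOpenImmersion.lift U.ι 𝓓.subschemeι hrange
  have hi : i ≫ U.ι = 𝓓.subschemeι := IsOpenImmersion.lift_fac _ _ _
  obtain ⟨η⟩ := hR' i hi
  have hw : (r ≫ Q.ι) ≫ S = 𝓓.subschemeι ≫ P.ι := by
    rw [← hν]
    simp only [r, g, Category.assoc, morphismRestrict_ι, Scheme.isoOfEq_hom_ι_assoc]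
  refine ⟨(FEt.restrict S).obj F, ⟨(FEt.restrict r).preimageIso ?_⟩⟩
  exact ((restrictComp r Q.ι _ rfl).app _).symm ≪≫ ((restrictComp (r ≫ Q.ι) S _ rfl).app F).symm ≪≫
    (restrictComp 𝓓.subschemeι P.ι _ hw.symm).app F ≪≫
    (FEt.restrict 𝓓.subschemeι).mapIso ((FEt.restrict P.ι).objObjPreimageIso T) ≪≫
    (restrictComp i U.ι _ hi).app T ≪≫ (FEt.restrict i).mapIso ((FEt.restrict U.ι).objObjPreimageIso R') ≪≫ η

end Groth.Agent.LefEssSurj
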