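import Groth.Agent.LefEssSurj.System
import Groth.Agent.RelSpecUP.Basic
import Groth.Agent.FittLib.Comap
import Mathlib.AlgebraicGeometry.IdealSheaf.Functorial

/-!
The relative spectrum of the algebraised system, and its reductions.
-/

universe u

open CategoryTheory CategoryTheory.Limits AlgebraicGeometry TopologicalSpace Opposite
open AlgebraicGeometry.Scheme AlgebraicGeometry.Scheme.AffineZariskiSite

set_option autoImplicit false
set_option backward.isDefEq.respectTransparency false
set_option backward.isDefEq.respectTransparency.types false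
set_option linter.style.haveILetI false

noncomputable section

namespace Groth.Agent.LefEssSurj

open Groth.Agent.QC Groth.Agent.LefFEt

variable {X : Scheme.{u}}

/-- A closed immersion whose ideal is the inverse image of `I` is a base change of `V(I)`. -/
theorem isPullback_of_ker_eq_comap {Z Y : Scheme.{u}} (π : Y ⟶ X) (k : Z ⟶ Y) [IsClosedImmersion k]
    (I : X.IdealSheafData) (h : k.ker = I.comap π) (r : Z ⟶ I.subscheme) (hr : r ≫ I.subschemeι = k ≫ π) :
    IsPullback k r π I.subschemeι := by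
  have hsq : k ≫ π = r ≫ I.subschemeι := hr.symm
  let c : Z ⟶ pullback π I.subschemeι := pullback.lift k r hsq
  have hker : k.ker ≤ (pullback.fst π I.subschemeι).ker := h.le
  let d : pullback π I.subschemeι ⟶ Z := IsClosedImmersion.lift k (pullback.fst _ _) hker
  have hd : d ≫ k = pullback.fst _ _ := IsClosedImmersion.lift_fac _ _ _
  refine IsPullback.of_iso_pullback ⟨hsq⟩ ⟨c, d, ?_, ?_⟩ (pullback.lift_fst _ _ _) (pullback.lift_snd _ _ _)
  · rw [← cancel_mono k, Category.assoc, hd, pullback.lift_fst, Category.id_comp]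
  · rw [← cancel_mono (pullback.fst π I.subschemeι), Category.assoc, pullback.lift_fst, hd, Category.id_comp]

lemma cong_mulS {E : X.Modules} (A : AlgData E) (I : X.IdealSheafData) (U : X.affineOpens)
    (c a : Γ(E, U.1)) (h : Cong I U a) : Cong I U (A.mulS c a) := by
  refine Submodule.smul_induction_on h (fun r hr w _ => ?_) (fun y w hy hw => ?_)
  · rw [A.mulS_comm, A.smul_mulS]
    exact Submodule.smul_mem_smul hr Submodule.mem_top
  · show Cong I U _
    rw [A.mulS_add]
    exact add_mem hy hw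

namespace AlgSys

variable {J : X.IdealSheafData} {E : X.Modules} (S : AlgSys J E) (A : AlgData E) (hE : Coh.IsQCoh E)
  (hm : ∀ (n : ℕ) (U : X.Opens) (a b : Γ(E, U)),
      (S.θ n).app U (A.μ.app U (TMul.tm a b)) = mulA (S.q n) ((S.θ n).app U a) ((S.θ n).app U b))
  (h1 : ∀ (n : ℕ) (U : X.Opens), (S.θ n).app U (res E le_top A.one) = unitA (S.q n) U)

/-- The reduction as a ring map. -/
def red (n : ℕ) (U : X.Opens) : A.Sec U →+* Γ(S.T n, (S.q n) ⁻¹ᵁ U) where
  toFun a := (S.θ n).app U (show Γ(E, U) from a)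
  map_one' := h1 n U
  map_zero' := map_zero ((S.θ n).app U).hom
  map_add' := map_add ((S.θ n).app U).hom
  map_mul' a b := hm n U a b

include hE hm h1 in
/-- The morphism of the reduction into the cover. -/
theorem exists_toSpec (n : ℕ) : ∃ k : S.T n ⟶ A.spec hE, k ≫ A.π hE = S.q n ∧
    ∀ (U : X.affineOpens) (hle : (S.q n) ⁻¹ᵁ U.1 ≤ k ⁻¹ᵁ (A.π hE ⁻¹ᵁ U.1)) (z : Γ(A.spec hE, A.π hE ⁻¹ᵁ U.1)),
      k.appLE _ _ hle z = S.red A hm h1 n U.1 ((A.secIso hE U).hom z) := by
  let ℱ' : Sheaf (Opens.grothendieckTopology X) CommRingCat.{u} :=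
    (TopCat.Sheaf.pushforward CommRingCat.{u} (S.q n).base).obj (S.T n).sheaf
  let α : (toOpensFunctor X).op ⋙ AffAlg.alg (A.π hE) ⟶ (toOpensFunctor X).op ⋙ ℱ'.obj :=
    { app := fun U => (A.secIso hE ⟨U.unop.1, U.unop.2⟩).hom ≫
        CommRingCat.ofHom (S.red A hm h1 n U.unop.1)
      naturality := fun U V i => by
        ext z
        have hn := congrArg (fun g => CommRingCat.Hom.hom g z)
          (SymAlg.glObj_naturality (A.coequifibered hE) (U := V.unop) (V := U.unop) (leOfHom i.unop))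
        refine (congrArg (S.red A hm h1 n V.unop.1) hn).trans ?_
        exact (app_res (S.θ n) _ _).symm }
  let E' := Functor.IsCoverDense.restrictHomEquivHom (G := toOpensFunctor X)
    (K := Opens.grothendieckTopology X) (ℱ := AffAlg.alg (A.π hE)) (ℱ' := ℱ')
  let ω : AffAlg.alg (A.π hE) ⟶ AffAlg.alg (S.q n) := E' α
  have hω : ∀ U : X.AffineZariskiSite, ω.app (op U.1) = α.app (op U) := fun U =>
    congrArg (fun t : (toOpensFunctor X).op ⋙ AffAlg.alg (A.π hE) ⟶ _ => t.app (op U)) (E'.symm_apply_apply α)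
  have hc : (A.π hE).c ≫ ω = (S.q n).c := by
    apply (Functor.IsCoverDense.restrictHomEquivHom (G := toOpensFunctor X)
      (K := Opens.grothendieckTopology X) (ℱ := X.presheaf) (ℱ' := ℱ')).symm.injective
    ext U : 2
    obtain ⟨U⟩ := U
    change (A.π hE).c.app (op U.1) ≫ ω.app (op U.1) = (S.q n).c.app (op U.1)
    rw [hω]
    ext r
    change S.red A hm h1 n U.1 (((A.π hE).app U.1 ≫ (A.secIso hE ⟨U.1, U.2⟩).hom) r) = (S.q n).app U.1 r
    refine (congrArg (S.red A hm h1 n U.1)
      (congrArg (fun g => CommRingCat.Hom.hom g r) (A.app_secIso hE ⟨U.1, U.2⟩))).trans ?_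
    change (S.θ n).app U.1 (r • (show Γ(E, U.1) from (1 : A.Sec U.1))) = _
    rw [TMul.app_smul]
    refine (congrArg (r • ·) (h1 n U.1)).trans ?_
    exact _root_.mul_one (show Γ(S.T n, (S.q n) ⁻¹ᵁ U.1) from (S.q n).app U.1 r)
  obtain ⟨⟨k, hk⟩, hkω⟩ := (Groth.Agent.S3569.result (A.π hE) (S.q n)).2 ⟨ω, hc⟩
  refine ⟨k, hk, fun U hle z => ?_⟩
  have h2 : (AffAlg.algHom (A.π hE) (S.q n) k hk).app (op U.1) = ω.app (op U.1) :=
    congrArg (fun t => t.app (op U.1)) (congrArg Subtype.val hkω)
  rw [RelSpecUP.algHom_app, hω ⟨U.1, U.2⟩] at h2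
  exact congrArg (fun g => CommRingCat.Hom.hom g z) h2

include hm h1 in
theorem exists_closed [∀ n, IsAffineHom (S.q n)] (n : ℕ) : ∃ k : S.T n ⟶ A.spec hE,
    k ≫ A.π hE = S.q n ∧ IsClosedImmersion k ∧ k.ker = (J ^ (n + 1)).comap (A.π hE) := by
  obtain ⟨k, hk, hsec⟩ := S.exists_toSpec A hE hm h1 n
  have hpre : ∀ U : X.affineOpens, k ⁻¹ᵁ (A.π hE ⁻¹ᵁ U.1) = (S.q n) ⁻¹ᵁ U.1 := fun U => by
    rw [← Scheme.Hom.comp_preimage, hk]
  let P : X.affineOpens → (A.spec hE).affineOpens := fun U => ⟨A.π hE ⁻¹ᵁ U.1, U.2.preimage (A.π hE)⟩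
  have hP : ⨆ U, (P U).1 = ⊤ := by
    refine top_le_iff.1 fun x _ => ?_
    obtain ⟨U, hU, -⟩ := KosExt.exists_affine_le (O := ⊤) (x := A.π hE x) trivial
    exact Opens.mem_iSup.mpr ⟨U, hU⟩
  have happ : ∀ (U : X.affineOpens) (z : Γ(A.spec hE, A.π hE ⁻¹ᵁ U.1)),
      (S.T n).presheaf.map (eqToHom (hpre U).symm).op (k.app (A.π hE ⁻¹ᵁ U.1) z) =
        S.red A hm h1 n U.1 ((A.secIso hE U).hom z) := fun U z => by
    rw [← hsec U (hpre U).ge z]
    rfl
  haveI haff : IsAffineHom k := by
    haveI : IsAffineHom (k ≫ A.π hE) := hk.symm ▸ (inferInstance : IsAffineHom (S.q n))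
    exact IsAffineHom.of_comp k (A.π hE)
  have hsurj : ∀ U : X.affineOpens, Function.Surjective (k.app (A.π hE ⁻¹ᵁ U.1)) := fun U t => by
    obtain ⟨a, ha⟩ := S.surj n U ((S.T n).presheaf.map (eqToHom (hpre U).symm).op t)
    refine ⟨(A.secIso hE U).inv a, ?_⟩
    apply ((ConcreteCategory.bijective_of_isIso ((S.T n).presheaf.map (eqToHom (hpre U).symm).op))).1
    rw [happ, ← ConcreteCategory.comp_apply, Iso.inv_hom_id]
    exact ha
  haveI : IsClosedImmersion k := by
    refine (IsZariskiLocalAtTarget.iff_of_iSup_eq_top (P := @IsClosedImmersion) (fun U => (P U).1) hP).mpr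
      fun U => ?_
    haveI : IsAffine (P U).1.toScheme := (P U).2
    haveI : IsAffine (k ⁻¹ᵁ (P U).1).toScheme := (P U).2.preimage k
    refine IsClosedImmersion.of_surjective_of_isAffine _ ?_
    rw [morphismRestrict_appTop]
    simp only [CommRingCat.hom_comp, RingHom.coe_comp]
    refine (ConcreteCategory.bijective_of_isIso _).2.comp ?_
    have key : ∀ V : (A.spec hE).Opens, V = (P U).1 → Function.Surjective (k.app V) := by
      rintro V rfl
      exact hsurj U
    exact key _ (P U).1.ι_image_top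
  refine ⟨k, hk, inferInstance, Scheme.IdealSheafData.ext_of_iSup_eq_top P hP fun U => ?_⟩
  rw [Scheme.Hom.ker_apply, FittLib.comap_ideal (A.π hE) _ U.2 (P U).2 le_rfl, ← Scheme.Hom.app_eq_appLE]
  ext z
  rw [RingHom.mem_ker]
  have hz : k.app (P U).1 z = 0 ↔ Cong (J ^ (n + 1)) U (show Γ(E, U.1) from (A.secIso hE U).hom z) := by
    rw [← S.ker n U, ← map_eq_zero_iff _
      (ConcreteCategory.bijective_of_isIso ((S.T n).presheaf.map (eqToHom (hpre U).symm).op)).1, happ]
    rfl
  refine hz.trans ⟨fun h => ?_, fun h => ?_⟩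
  · have : ∀ a : Γ(E, U.1), Cong (J ^ (n + 1)) U a →
        (A.secIso hE U).inv (show A.Sec U.1 from a) ∈ ((J ^ (n + 1)).ideal U).map ((A.π hE).app U.1).hom := by
      intro a ha
      refine Submodule.smul_induction_on ha (fun r hr w _ => ?_) (fun y w hy hw => ?_)
      · have h3 : (A.secIso hE U).inv (show A.Sec U.1 from r • w) =
            (A.π hE).app U.1 r * (A.secIso hE U).inv (show A.Sec U.1 from w) := by
          rw [show (show A.Sec U.1 from r • w) = A.str U.1 r * (show A.Sec U.1 from w) from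
            (A.str_mul U.1 r w).symm, map_mul]
          congr 1
          have h4 := congrArg (fun g => CommRingCat.Hom.hom g r) (A.app_secIso hE U)
          change (A.secIso hE U).hom ((A.π hE).app U.1 r) = A.str U.1 r at h4
          rw [← h4, ← ConcreteCategory.comp_apply, Iso.hom_inv_id]
          rfl
        rw [h3]
        exact Ideal.mul_mem_right _ _ (Ideal.mem_map_of_mem _ hr)
      · exact (map_add (A.secIso hE U).inv.hom (show A.Sec U.1 from y) (show A.Sec U.1 from w)).symm ▸ add_mem hy hw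
    have h5 := this _ h
    rwa [← ConcreteCategory.comp_apply, Iso.hom_inv_id] at h5
  · refine Submodule.span_induction (p := fun w _ => Cong (J ^ (n + 1)) U
      (show Γ(E, U.1) from (A.secIso hE U).hom w)) ?_ ?_ ?_ ?_ h
    · rintro _ ⟨r, hr, rfl⟩
      have h4 := congrArg (fun g => CommRingCat.Hom.hom g r) (A.app_secIso hE U)
      change (A.secIso hE U).hom ((A.π hE).app U.1 r) = A.str U.1 r at h4
      rw [h4]
      exact Submodule.smul_mem_smul hr Submodule.mem_top
    · exact (map_zero (A.secIso hE U).hom.hom).symm ▸ zero_mem _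
    · intro x y _ _ hx hy
      exact (map_add (A.secIso hE U).hom.hom x y).symm ▸ add_mem hx hy
    · intro c x _ hx
      change Cong (J ^ (n + 1)) U (show Γ(E, U.1) from (A.secIso hE U).hom (c * x))
      rw [map_mul]
      exact cong_mulS A _ U _ _ hx

end AlgSys

end Groth.Agent.LefEssSurj
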