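import Groth.Agent.LefEssSurj.LeffPunct
import Groth.Agent.FormAlg.ModSysTower
import Groth.Agent.FormAlg.FreeFin

/-!
The algebra of formal functions of a system of finite étale covers of the thickenings of `t = 0` is finite when
the first two local cohomology modules of `A/t` are.
-/

universe u

open CategoryTheory CategoryTheory.Limits AlgebraicGeometry TopologicalSpace Opposite
open Groth.Agent.FormAlg Groth.Agent.QC Groth.Agent.LefFEt

set_option autoImplicit false
set_option maxHeartbeats 400000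
set_option backward.isDefEq.respectTransparency false
set_option backward.isDefEq.respectTransparency.types false
set_option linter.style.haveILetI false

noncomputable section

namespace Groth.Agent.LefEssSurj

/-- Global sections of a direct image of functions as functions. -/
def ev {X Z T : Scheme.{u}} (p : T ⟶ Z) (j : Z ⟶ X) :
    Γ((Scheme.Modules.pushforward j).obj (alg p), ⊤) ≃+ Γ(T, ⊤) where
  toFun s := s
  invFun s := s
  left_inv _ := rfl
  right_inv _ := rfl
  map_add' _ _ := rfl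

/-- Scalars act on global sections of a direct image of functions by multiplication. -/
theorem smulMod_app_top {A : Type u} [CommRing A] {X Z T : Scheme.{u}} [X.Over (Spec (CommRingCat.of A))]
    (p : T ⟶ Z) (j : Z ⟶ X) (a : A) (z : Γ((Scheme.Modules.pushforward j).obj (alg p), ⊤)) :
    ev p j ((Formal.smulMod A ((Scheme.Modules.pushforward j).obj (alg p)) a).app ⊤ z) =
      (p ≫ j).appTop (Coh.toGlobal (X ↘ Spec (CommRingCat.of A)) a) * ev p j z := by
  show p.appTop (j.appTop (X.presheaf.map (homOfLE (le_top : (⊤ : X.Opens) ≤ ⊤)).op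
    (Coh.toGlobal (X ↘ Spec (CommRingCat.of A)) a))) * ev p j z = _
  rw [show (homOfLE (le_top : (⊤ : X.Opens) ≤ ⊤)).op = 𝟙 (op ⊤) from Subsingleton.elim _ _,
    CategoryTheory.Functor.map_id]
  rfl

/-- The adjoint of a composite of an inverse comparison, a counit and a map, on sections. -/
theorem app_pullSect_chain {Z Z' X : Scheme.{u}} (ι : Z ⟶ Z') (j' : Z' ⟶ X) (j : Z ⟶ X) (w : ι ≫ j' = j)
    (N' : Z'.Modules) (N : Z.Modules) (g : N' ⟶ (Scheme.Modules.pushforward ι).obj N)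
    (e : (Scheme.Modules.pullback ι).obj N' ⟶ N)
    (he : e = ((Scheme.Modules.pullbackPushforwardAdjunction ι).homEquiv N' N).symm g)
    (Θ : (Scheme.Modules.pullback ι).obj ((Scheme.Modules.pullback j').obj ((Scheme.Modules.pushforward j').obj N')) ≅
      (Scheme.Modules.pullback j).obj ((Scheme.Modules.pushforward j').obj N'))
    (hΘ : Θ = (Scheme.Modules.pullbackComp ι j').app _ ≪≫ (Scheme.Modules.pullbackCongr w).app _)
    (ψ₀ : (Scheme.Modules.pushforward j').obj N' ⟶ (Scheme.Modules.pushforward j).obj N)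
    (hφ : ((Scheme.Modules.pullbackPushforwardAdjunction j).homEquiv _ N).symm ψ₀ = Θ.inv ≫ (Scheme.Modules.pullback ι).map
      ((Scheme.Modules.pullbackPushforwardAdjunction j').counit.app N') ≫ e)
    (W : X.Opens) (s : Γ((Scheme.Modules.pushforward j').obj N', W)) :
    N.presheaf.map (eqToHom (show ι ⁻¹ᵁ (j' ⁻¹ᵁ W) = j ⁻¹ᵁ W by rw [← Scheme.Hom.comp_preimage, w])).op
        (show Γ(N, j ⁻¹ᵁ W) from ψ₀.app W s) =
      g.app (j' ⁻¹ᵁ W) (show Γ(N', j' ⁻¹ᵁ W) from s) := by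
  have hpre : ι ⁻¹ᵁ (j' ⁻¹ᵁ W) = j ⁻¹ᵁ W := by rw [← Scheme.Hom.comp_preimage, w]
  set φ := ((Scheme.Modules.pullbackPushforwardAdjunction j).homEquiv ((Scheme.Modules.pushforward j').obj N') N).symm ψ₀
    with hφdef
  let M := (Scheme.Modules.pushforward j').obj N'
  let P := (Scheme.Modules.pullback j').obj M
  let ε : P ⟶ N' := (Scheme.Modules.pullbackPushforwardAdjunction j').counit.app N'
  have h2 : ε.app (j' ⁻¹ᵁ W) (OmegaSh.pullSect j' M W s) = (show Γ(N', j' ⁻¹ᵁ W) from s) :=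
    congrArg (fun φ : M ⟶ M => φ.app W s)
      ((Scheme.Modules.pullbackPushforwardAdjunction j').right_triangle_components N')
  have hbij : Function.Bijective (((Scheme.Modules.pullback j).obj M).presheaf.map (eqToHom hpre).op) :=
    ConcreteCategory.bijective_of_isIso _
  have h := trans_pullSect ι j' j w M Θ hΘ W hpre s
  set ψ : (Scheme.Modules.pullback ι).obj P ⟶ N := (Scheme.Modules.pullback ι).map ε ≫ e with hψ
  have hφ' : Θ.hom ≫ φ = ψ := by rw [hφ, Iso.hom_inv_id_assoc]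
  have key : φ.app (ι ⁻¹ᵁ (j' ⁻¹ᵁ W)) (((Scheme.Modules.pullback j).obj M).presheaf.map (eqToHom hpre).op
      (OmegaSh.pullSect j M W s)) = g.app (j' ⁻¹ᵁ W) (show Γ(N', j' ⁻¹ᵁ W) from s) := by
    rw [← h, ← ConcreteCategory.comp_apply, ← Scheme.Modules.Hom.comp_app, hφ', hψ, Scheme.Modules.Hom.comp_app,
      ConcreteCategory.comp_apply]
    refine (congrArg (e.app _) ((QC.app_pullSect ι ε (j' ⁻¹ᵁ W) _).trans
      (congrArg (OmegaSh.pullSect ι N' (j' ⁻¹ᵁ W)) h2))).trans ?_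
    subst he
    exact adjoint_pullSect ι g (j' ⁻¹ᵁ W) _
  have hnat : N.presheaf.map (eqToHom hpre).op (φ.app (j ⁻¹ᵁ W) (OmegaSh.pullSect j M W s)) =
      φ.app (ι ⁻¹ᵁ (j' ⁻¹ᵁ W)) (((Scheme.Modules.pullback j).obj M).presheaf.map (eqToHom hpre).op
        (OmegaSh.pullSect j M W s)) :=
    (congr(($(φ.mapPresheaf.naturality (eqToHom hpre).op)) (OmegaSh.pullSect j M W s))).symm
  exact (congrArg (N.presheaf.map (eqToHom hpre).op) (adjoint_pullSect j ψ₀ W s).symm).trans (hnat.trans key)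

/-- The transition map of direct images of functions, on global sections. -/
theorem app_top_chain {Z Z' X T T' : Scheme.{u}} (ι : Z ⟶ Z') (j' : Z' ⟶ X) (j : Z ⟶ X) (w : ι ≫ j' = j)
    (p' : T' ⟶ Z') (p : T ⟶ Z) (i : T ⟶ T') (sq : i ≫ p' = p ≫ ι)
    (e : (Scheme.Modules.pullback ι).obj (alg p') ⟶ alg p)
    (he : e = ((Scheme.Modules.pullbackPushforwardAdjunction ι).homEquiv (alg p') (alg p)).symm
      (algMap (q := p ≫ ι) i sq ≫ (Scheme.Modules.pushforwardComp p ι).inv.app _))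
    (Θ : (Scheme.Modules.pullback ι).obj ((Scheme.Modules.pullback j').obj ((Scheme.Modules.pushforward j').obj
        (alg p'))) ≅ (Scheme.Modules.pullback j).obj ((Scheme.Modules.pushforward j').obj (alg p')))
    (hΘ : Θ = (Scheme.Modules.pullbackComp ι j').app _ ≪≫ (Scheme.Modules.pullbackCongr w).app _)
    (ψ₀ : (Scheme.Modules.pushforward j').obj (alg p') ⟶ (Scheme.Modules.pushforward j).obj (alg p))
    (hφ : ((Scheme.Modules.pullbackPushforwardAdjunction j).homEquiv _ _).symm ψ₀ = Θ.inv ≫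
      (Scheme.Modules.pullback ι).map
        ((Scheme.Modules.pullbackPushforwardAdjunction j').counit.app (alg p')) ≫ e)
    (s : Γ((Scheme.Modules.pushforward j').obj (alg p'), ⊤)) :
    ev p j (ψ₀.app ⊤ s) = i.appTop (ev p' j' s) := by
  have h := app_pullSect_chain ι j' j w (alg p') (alg p) _ e he Θ hΘ ψ₀ hφ ⊤ s
  have hid : ∀ (W : Z.Opens) (h : W = W) (z : Γ(alg p, W)), (alg p).presheaf.map (eqToHom h).op z = z :=
    fun W h z => by
      rw [eqToHom_refl, op_id, CategoryTheory.Functor.map_id]; rfl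
  refine (hid _ _ _).symm.trans (h.trans ?_)
  show i.appLE ⊤ ⊤ le_top (ev p' j' s) = _
  rw [Scheme.Hom.appTop, Scheme.Hom.app_eq_appLE]
  rfl

section Natural

variable {A : Type u} [CommRing A] {X : Scheme.{u}} [X.Over (Spec (CommRingCat.of A))]
  (s : ∀ F : X.Modules, Coh.HH X F 0 ≃+ Γ(F, ⊤))
  (hs : ∀ (F G : X.Modules) (φ : F ⟶ G) (x : Coh.HH X F 0),
    s G (CohFinite.hhMap A φ 0 x) = φ.app ⊤ (s F x))

include hs in
theorem hh_smul {Z T : Scheme.{u}} (p : T ⟶ Z) (j : Z ⟶ X) (a : A)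
    (x : Coh.HH X ((Scheme.Modules.pushforward j).obj (alg p)) 0) :
    (s _).trans (ev p j) (a • x) =
      (p ≫ j).appTop (Coh.toGlobal (X ↘ Spec (CommRingCat.of A)) a) * (s _).trans (ev p j) x := by
  rw [← hhMap_smulMod (X := X) (F := (Scheme.Modules.pushforward j).obj (alg p)) a 0 x, AddEquiv.trans_apply, hs,
    smulMod_app_top, AddEquiv.trans_apply]

include hs in
theorem hh_natural {Z Z' T T' : Scheme.{u}} (ι : Z ⟶ Z') (j' : Z' ⟶ X) (j : Z ⟶ X) (w : ι ≫ j' = j)
    (p' : T' ⟶ Z') (p : T ⟶ Z) (i : T ⟶ T') (sq : i ≫ p' = p ≫ ι)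
    (e : (Scheme.Modules.pullback ι).obj (alg p') ⟶ alg p)
    (he : e = ((Scheme.Modules.pullbackPushforwardAdjunction ι).homEquiv (alg p') (alg p)).symm
      (algMap (q := p ≫ ι) i sq ≫ (Scheme.Modules.pushforwardComp p ι).inv.app _))
    (Θ : (Scheme.Modules.pullback ι).obj ((Scheme.Modules.pullback j').obj ((Scheme.Modules.pushforward j').obj
        (alg p'))) ≅ (Scheme.Modules.pullback j).obj ((Scheme.Modules.pushforward j').obj (alg p')))
    (hΘ : Θ = (Scheme.Modules.pullbackComp ι j').app _ ≪≫ (Scheme.Modules.pullbackCongr w).app _)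
    (ψ₀ : (Scheme.Modules.pushforward j').obj (alg p') ⟶ (Scheme.Modules.pushforward j).obj (alg p))
    (hφ : ((Scheme.Modules.pullbackPushforwardAdjunction j).homEquiv _ _).symm ψ₀ = Θ.inv ≫
      (Scheme.Modules.pullback ι).map
        ((Scheme.Modules.pullbackPushforwardAdjunction j').counit.app (alg p')) ≫ e)
    (x : Coh.HH X ((Scheme.Modules.pushforward j').obj (alg p')) 0) :
    (s _).trans (ev p j) (CohFinite.hhMap A ψ₀ 0 x) = i.appTop ((s _).trans (ev p' j') x) := by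
  rw [AddEquiv.trans_apply, hs]
  exact app_top_chain ι j' j w p' p i sq e he Θ hΘ ψ₀ hφ _

end Natural

/-- Transport of degree zero cohomology along equalities of modules. -/
theorem equiv_transfer {A : Type u} [CommRing A] {X : Scheme.{u}} [X.Over (Spec (CommRingCat.of A))]
    (M N : ℕ → X.Modules) (hNM : ∀ n, N n = M n) (tN : ∀ n, N (n + 1) ⟶ N n) (tM : ∀ n, M (n + 1) ⟶ M n)
    (hnat : ∀ n, tN n ≫ eqToHom (hNM n) = eqToHom (hNM (n + 1)) ≫ tM n) (Ts : ℕ → Scheme.{u})
    (i : ∀ n, Ts n ⟶ Ts (n + 1)) (φ : ∀ n, A →+* Γ(Ts n, ⊤))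
    (hex : ∃ e : ∀ n, Coh.HH X (M n) 0 ≃+ Γ(Ts n, ⊤), (∀ n (a : A) x, e n (a • x) = φ n a * e n x) ∧
      ∀ n x, e n (CohFinite.hhMap A (tM n) 0 x) = (i n).appTop (e (n + 1) x)) :
    ∃ e' : ∀ n, Coh.HH X (N n) 0 ≃+ Γ(Ts n, ⊤), (∀ n (a : A) x, e' n (a • x) = φ n a * e' n x) ∧
      ∀ n x, e' n (CohFinite.hhMap A (tN n) 0 x) = (i n).appTop (e' (n + 1) x) := by
  obtain rfl : N = M := funext hNM
  obtain ⟨e, h, h'⟩ := hex
  refine ⟨e, h, fun n x => ?_⟩
  have hn := hnat n
  rw [eqToHom_refl, eqToHom_refl, Category.comp_id, Category.id_comp] at hn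
  rw [hn]
  exact h' n x

namespace EtSys

variable {A : Type u} [CommRing A] {U : (Spec (CommRingCat.of A)).Opens} {t : A}
  (S : EtSys (divisorIdeal U t))

/-- The rings of functions of the system. -/
def funSys : ℕᵒᵖ ⥤ CommRingCat.{u} :=
  Functor.ofOpSequence (X := fun n => Γ(S.T n, ⊤)) (fun n => (S.i n).appTop)

/-- The restriction of functions. -/
def down {a b : ℕ} (h : a ≤ b) : Γ(S.T b, ⊤) →+* Γ(S.T a, ⊤) := (S.funSys.map (homOfLE h).op).hom

theorem down_succ (n : ℕ) (y : Γ(S.T (n + 1), ⊤)) : S.down (Nat.le_succ n) y = (S.i n).appTop y :=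
  congrArg (fun g => CommRingCat.Hom.hom g y)
    (Functor.ofOpSequence_map_homOfLE_succ (X := fun n => Γ(S.T n, ⊤)) (fun n => (S.i n).appTop) n)

theorem down_self (n : ℕ) (y : Γ(S.T n, ⊤)) : S.down le_rfl y = y :=
  congrArg (fun g => CommRingCat.Hom.hom g y) (S.funSys.map_id (op n))

theorem down_comp {a b c : ℕ} (h : a ≤ b) (h' : b ≤ c) (y : Γ(S.T c, ⊤)) :
    S.down h (S.down h' y) = S.down (h.trans h') y :=
  (congrArg (fun g => CommRingCat.Hom.hom g y) (S.funSys.map_comp (homOfLE h').op (homOfLE h).op)).symm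

/-- The scalars. -/
def strA (n : ℕ) : A →+* Γ(S.T n, ⊤) :=
  (S.q n).appTop.hom.comp (Coh.toGlobal ((↑U : Scheme.{u}) ↘ Spec (CommRingCat.of A)))

theorem strA_res (n : ℕ) (a : A) : (S.i n).appTop (S.strA (n + 1) a) = S.strA n a := by
  show ((S.q (n + 1)).appTop ≫ (S.i n).appTop) _ = (S.q n).appTop _
  rw [← Scheme.Hom.comp_appTop, S.w_q]

/-- The compatible families of functions. -/
def formalFun : Subring (∀ n, Γ(S.T n, ⊤)) where
  carrier := {y | ∀ n, (S.i n).appTop (y (n + 1)) = y n}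
  one_mem' n := map_one (S.i n).appTop.hom
  zero_mem' n := map_zero (S.i n).appTop.hom
  mul_mem' {a b} ha hb := fun n => (map_mul (S.i n).appTop.hom _ _).trans (congrArg₂ (· * ·) (ha n) (hb n))
  add_mem' {a b} ha hb := fun n => (map_add (S.i n).appTop.hom _ _).trans (congrArg₂ (· + ·) (ha n) (hb n))
  neg_mem' {a} ha := fun n => (map_neg (S.i n).appTop.hom _).trans (congrArg Neg.neg (ha n))

/-- The scalars. -/
def strL : A →+* S.formalFun :=
  RingHom.codRestrict (RingHom.pi S.strA) S.formalFun fun a n => S.strA_res n a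

instance : Algebra A S.formalFun := S.strL.toAlgebra

/-- The projections. -/
def πL (n : ℕ) : S.formalFun →+* Γ(S.T n, ⊤) := (Pi.evalRingHom (fun n => Γ(S.T n, ⊤)) n).comp S.formalFun.subtype

theorem πL_algebraMap (n : ℕ) (a : A) : S.πL n (algebraMap A S.formalFun a) = S.strA n a := rfl

theorem πL_succ (n : ℕ) (z : S.formalFun) : (S.i n).appTop (S.πL (n + 1) z) = S.πL n z := z.2 n

theorem πL_smul (n : ℕ) (a : A) (z : S.formalFun) : S.πL n (a • z) = S.strA n a * S.πL n z := by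
  rw [Algebra.smul_def, map_mul, πL_algebraMap]

/-- The system as a tower. -/
theorem exists_tower [IsNoetherianRing A] (ht : t ∈ nonZeroDivisors A) :
    ∃ T : Tower (↑U : Scheme.{u}) t, T.G = sysFun S.modSys ∧
      Formal2.IsFinLocFreeMod (Ideal.span {t}) 1 (T.obj 0) := by
  have h𝓘 : ∀ V : (↑U : Scheme.{u}).affineOpens, (divisorIdeal U t).ideal V =
      Ideal.span {W7Cech.secRing A V.1 t} := fun V => divisorIdeal_ideal U t V
  have hcoh : S.modSys.IsCoh := fun n =>
    ⟨LocFree.isQCoh_of_isFinLocFree (S.levelwiseFinLocFree n), LocFree.isFT_of_isFinLocFree (S.levelwiseFinLocFree n)⟩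
  have hfree : ∀ n : ℕ, Formal2.IsFinLocFreeMod (Ideal.span {t}) (n + 1) ((sysFun S.modSys).obj (op n)) := fun n =>
    isFinLocFreeMod_push (FSch.completionToX (↑U : Scheme.{u}) (divisorIdeal U t) n)
      (fun V => by rw [ker_completionToX h𝓘 n V]) _ (S.levelwiseFinLocFree n)
  obtain ⟨T, hT⟩ := FormAlg.exists_tower ht _ (isCohFormal_sysFun h𝓘 S.modSys hcoh) hfree
  refine ⟨T, hT, ?_⟩
  show Formal2.IsFinLocFreeMod (Ideal.span {t}) 1 (T.G.obj (op 0))
  rw [hT]
  exact hfree 0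

/-- The direct images of the functions. -/
abbrev MM (n : ℕ) : (↑U : Scheme.{u}).Modules :=
  (Scheme.Modules.pushforward (FSch.completionToX (↑U : Scheme.{u}) (divisorIdeal U t) n)).obj (alg (S.p n))

/-- The transition maps between direct images of functions. -/
def tnM (n : ℕ) : S.MM (n + 1) ⟶ S.MM n := sysTn S.modSys n

theorem sysPull_eq (n : ℕ) : (sysPull S.modSys n).hom = (pullPullIso n (sysObj S.modSys (n + 1))).inv ≫
      (Scheme.Modules.pullback ((FSch.completionAlong (↑U : Scheme.{u}) (divisorIdeal U t)).ι n)).map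
        ((Scheme.Modules.pullbackPushforwardAdjunction (FSch.completionToX (↑U : Scheme.{u}) (divisorIdeal U t) (n + 1))).counit.app (alg (S.p (n + 1)))) ≫
      (S.modSys.e n).hom :=
  rfl

theorem sysTn_eq (n : ℕ) : ((Scheme.Modules.pullbackPushforwardAdjunction (FSch.completionToX (↑U : Scheme.{u}) (divisorIdeal U t) n)).homEquiv _ _).symm
    (S.tnM n) = (sysPull S.modSys n).hom :=
  Equiv.symm_apply_apply _ _

theorem natural_aux (s : ∀ F : (↑U : Scheme.{u}).Modules, Coh.HH (↑U : Scheme.{u}) F 0 ≃+ Γ(F, ⊤))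
    (hs : ∀ (F G : (↑U : Scheme.{u}).Modules) (φ : F ⟶ G) (x : Coh.HH (↑U : Scheme.{u}) F 0),
      s G (CohFinite.hhMap A φ 0 x) = φ.app ⊤ (s F x))
    (n : ℕ) (x : Coh.HH (↑U : Scheme.{u}) (S.MM (n + 1)) 0) (ψ : S.MM (n + 1) ⟶ S.MM n)
    (hψ : ((Scheme.Modules.pullbackPushforwardAdjunction (FSch.completionToX (↑U : Scheme.{u}) (divisorIdeal U t) n)).homEquiv _ _).symm ψ =
      (sysPull S.modSys n).hom) :
    (s (S.MM n)).trans (ev (S.p n) (FSch.completionToX (↑U : Scheme.{u}) (divisorIdeal U t) n)) (CohFinite.hhMap A ψ 0 x) =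
      (S.i n).appTop ((s (S.MM (n + 1))).trans (ev (S.p (n + 1)) (FSch.completionToX (↑U : Scheme.{u}) (divisorIdeal U t) (n + 1))) x) :=
  hh_natural s hs ((FSch.completionAlong (↑U : Scheme.{u}) (divisorIdeal U t)).ι n)
    (FSch.completionToX (↑U : Scheme.{u}) (divisorIdeal U t) (n + 1))
    (FSch.completionToX (↑U : Scheme.{u}) (divisorIdeal U t) n) (ι_completionToX n) (S.p (n + 1)) (S.p n) (S.i n) (S.cart n).w
    (S.modSys.e n).hom rfl (pullPullIso n (sysObj S.modSys (n + 1))) rfl ψ (hψ.trans (S.sysPull_eq n)) x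

/-- Degree zero cohomology as functions. -/
theorem exists_equiv : ∃ e : ∀ n : ℕ, Coh.HH (↑U : Scheme.{u}) (S.MM n) 0 ≃+ Γ(S.T n, ⊤),
    (∀ n (a : A) x, e n (a • x) = S.strA n a * e n x) ∧
      ∀ n x, e n (CohFinite.hhMap A (S.tnM n) 0 x) =
        (S.i n).appTop (e (n + 1) x) := by
  obtain ⟨s, hs⟩ : ∃ s : ∀ F : (↑U : Scheme.{u}).Modules, Coh.HH (↑U : Scheme.{u}) F 0 ≃+ Γ(F, ⊤),
      ∀ (F G : (↑U : Scheme.{u}).Modules) (φ : F ⟶ G) (x : Coh.HH (↑U : Scheme.{u}) F 0),
        s G (CohFinite.hhMap A φ 0 x) = φ.app ⊤ (s F x) :=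
    W7Rees.exists_zero_natural (X := (↑U : Scheme.{u}))
  exact ⟨fun n => (s (S.MM n)).trans (ev (S.p n) (FSch.completionToX (↑U : Scheme.{u}) (divisorIdeal U t) n)),
    fun n a x => hh_smul s hs (S.p n) (FSch.completionToX (↑U : Scheme.{u}) (divisorIdeal U t) n) a x,
    fun n x => S.natural_aux s hs n x (S.tnM n) (S.sysTn_eq n)⟩

theorem exists_obj_eq (T : Tower (↑U : Scheme.{u}) t) (hT : T.G = sysFun S.modSys) :
    ∃ h : ∀ n : ℕ, T.obj n = S.MM n, ∀ n, T.pr (Nat.le_succ n) ≫ eqToHom (h n) =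
      eqToHom (h (n + 1)) ≫ S.tnM n := by
  rcases T with ⟨G, hG, mu, tn_mu, mono_mu⟩
  subst hT
  refine ⟨fun n => rfl, fun n => ?_⟩
  refine (Category.comp_id _).trans (Eq.trans ?_ (Category.id_comp _).symm)
  exact sysFun_tn S.modSys n

theorem exists_equiv_tower (T : Tower (↑U : Scheme.{u}) t) (hT : T.G = sysFun S.modSys) :
    ∃ e : ∀ n : ℕ, Coh.HH (↑U : Scheme.{u}) (T.obj n) 0 ≃+ Γ(S.T n, ⊤),
      (∀ n (a : A) x, e n (a • x) = S.strA n a * e n x) ∧
        ∀ n x, e n (CohFinite.hhMap A (T.pr (Nat.le_succ n)) 0 x) = (S.i n).appTop (e (n + 1) x) := by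
  obtain ⟨hobj, hnat⟩ := S.exists_obj_eq T hT
  exact equiv_transfer S.MM (fun n => T.obj n) hobj (fun n => T.pr (Nat.le_succ n)) S.tnM hnat S.T S.i S.strA
    S.exists_equiv

/-- The formal functions form a finite algebra, with the expected reductions and bounded lifting. -/
theorem exists_finite [IsNoetherianRing A] (ht : t ∈ nonZeroDivisors A) [IsAdicComplete (Ideal.span {t}) A]
    {𝔞 : Ideal A} (hU : U = EGA4.openCompl A 𝔞)
    (h₁ : Module.Finite A (LocCoh.H 𝔞 1 (A ⧸ Ideal.span {t})))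
    (h₂ : Module.Finite A (LocCoh.H 𝔞 2 (A ⧸ Ideal.span {t}))) :
    Module.Finite A S.formalFun ∧
      (∀ n (z : S.formalFun), S.πL n z = 0 ↔ ∃ w : S.formalFun, t ^ (n + 1) • w = z) ∧
      ∀ n : ℕ, ∃ (m : ℕ) (h : n ≤ m), ∀ y : Γ(S.T m, ⊤), ∃ z : S.formalFun, S.πL n z = S.down h y := by
  obtain ⟨T, hT, hfree⟩ := S.exists_tower ht
  obtain ⟨e₀, he₀⟩ : ∃ e : ∀ n : ℕ, Coh.HH (↑U : Scheme.{u}) (T.obj n) 0 ≃+ Γ(S.T n, ⊤),
      (∀ n (a : A) x, e n (a • x) = S.strA n a * e n x) ∧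
        ∀ n x, e n (CohFinite.hhMap A (T.pr (Nat.le_succ n)) 0 x) = (S.i n).appTop (e (n + 1) x) := by
    exact S.exists_equiv_tower T hT
  have hfin : Module.Finite A (Coh.HH (↑U : Scheme.{u}) (T.obj 0) 0) ∧
      Module.Finite A (Coh.HH (↑U : Scheme.{u}) (T.obj 0) 1) := by
    clear e₀ he₀ hT
    subst hU
    exact finite_bottom 𝔞 t (T.hG.1 0) hfree (by rwa [pow_one]) (by rwa [pow_one])
  let Q := T.secTower
  haveI : Module.Finite A Q.Z := hfin.2
  haveI : Module.Finite A (Q.P 0) := hfin.1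
  haveI := Q.finite_L
  let e : ∀ n, Q.P n ≃+ Γ(S.T n, ⊤) := e₀
  have hsmul : ∀ n (a : A) (x : Q.P n), e n (a • x) = S.strA n a * e n x := he₀.1
  have hp : ∀ {a b : ℕ} (h : a ≤ b) (x : Q.P b), e a (Q.p h x) = S.down h (e b x) := by
    intro a b h
    induction b, h using Nat.le_induction with
    | base => intro x; rw [Q.p_self, S.down_self]
    | succ b hab ih =>
      intro x
      rw [← Q.p_comp hab (Nat.le_succ b), ih, ← S.down_comp hab (Nat.le_succ b), S.down_succ]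
      exact congrArg _ (he₀.2 b x)
  let Φ : Q.L →ₗ[A] S.formalFun :=
    { toFun := fun y => ⟨fun n => e n (Q.π n y), fun n => by rw [← S.down_succ, ← hp, Q.π_succ]⟩
      map_add' := fun y z => Subtype.ext (funext fun n => by
        show e n (Q.π n (y + z)) = e n (Q.π n y) + e n (Q.π n z)
        rw [map_add, map_add])
      map_smul' := fun a y => Subtype.ext (funext fun n => by
        show e n (Q.π n (a • y)) = S.strA n a * e n (Q.π n y)
        rw [map_smul, hsmul]) }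
  have hΦ : ∀ n y, S.πL n (Φ y) = e n (Q.π n y) := fun n y => rfl
  have hsurj : Function.Surjective Φ := fun z => by
    refine ⟨⟨fun n => (e n).symm (S.πL n z), fun n => (e n).injective ?_⟩, Subtype.ext (funext fun n => ?_)⟩
    · rw [hp, AddEquiv.apply_symm_apply, AddEquiv.apply_symm_apply, S.down_succ, S.πL_succ]
    · exact (e n).apply_symm_apply _
  refine ⟨Module.Finite.of_surjective Φ hsurj, fun n z => ⟨fun hz => ?_, ?_⟩, fun n => ?_⟩
  · obtain ⟨y, rfl⟩ := hsurj z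
    obtain ⟨w, hw⟩ := Q.exists_pow_smul_eq n y ((e n).injective ((hΦ n y).symm.trans (hz.trans (map_zero (e n)).symm)))
    exact ⟨Φ w, by rw [← map_smul, hw]⟩
  · rintro ⟨w, rfl⟩
    obtain ⟨y, rfl⟩ := hsurj w
    rw [← map_smul, hΦ, Q.π_pow_smul, map_zero]
  · obtain ⟨c, hc⟩ := Q.exists_lift
    refine ⟨c + (n + 1), by omega, fun y => ?_⟩
    obtain ⟨v, hv⟩ := hc n (by omega) ((e _).symm y)
    exact ⟨Φ v, by rw [hΦ, hv, hp, AddEquiv.apply_symm_apply]⟩

end EtSys

end Groth.Agent.LefEssSurj
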