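import Groth.Agent.LefEssSurj.LocQuot
import Groth.Agent.W7Cech.TensorSec
import Groth.Agent.FittLib.Comap

/-!
Localised presentations of sections of schemes over basic opens, and the criteria built on them.
-/

universe u

open CategoryTheory CategoryTheory.Limits AlgebraicGeometry TopologicalSpace Opposite

set_option autoImplicit false
set_option maxHeartbeats 400000
set_option backward.isDefEq.respectTransparency false
set_option backward.isDefEq.respectTransparency.types false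
set_option linter.style.haveILetI false

noncomputable section

namespace Groth.Agent.LefEssSurj

/-- Restriction of global functions. -/
abbrev resT (X : Scheme.{u}) (V : X.Opens) : Γ(X, ⊤) →+* Γ(X, V) :=
  (X.presheaf.map (homOfLE (le_top : V ≤ ⊤)).op).hom

theorem app_resT {X Y : Scheme.{u}} (f : X ⟶ Y) (V : Y.Opens) (z : Γ(Y, ⊤)) :
    f.app V (resT Y V z) = resT X (f ⁻¹ᵁ V) (f.appTop z) :=
  congrArg (fun g => CommRingCat.Hom.hom g z) (f.naturality (homOfLE (le_top : V ≤ ⊤)).op)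

theorem resT_res {X : Scheme.{u}} {V W : X.Opens} (h : W ≤ V) (z : Γ(X, ⊤)) :
    X.presheaf.map (homOfLE h).op (resT X V z) = resT X W z :=
  (congrArg (fun g => CommRingCat.Hom.hom g z) (X.presheaf.map_comp _ _)).symm

theorem isLocQuot_resT {L : Type u} [CommRing L] {T : Scheme.{u}} [CompactSpace T] [QuasiSeparatedSpace T]
    (π : L →+* Γ(T, ⊤)) (α c : L) (hc : π c = 0)
    (hs : ∀ y : Γ(T, ⊤), ∃ (j : ℕ) (z : L), π z = π α ^ j * y) (hk : ∀ z, π z = 0 → ∃ w, z = c * w)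
    (V : T.Opens) (hV : V = T.basicOpen (π α)) : IsLocQuot ((resT T V).comp π) α c := by
  subst hV
  haveI := isLocalization_basicOpen_of_qcqs (X := T) (U := ⊤) isCompact_univ isQuasiSeparated_univ (π α)
  have halg : ∀ z, algebraMap Γ(T, ⊤) Γ(T, T.basicOpen (π α)) z = resT T (T.basicOpen (π α)) z := fun z => rfl
  refine ⟨?_, by rw [RingHom.comp_apply, hc, map_zero], fun r => ?_, fun x hx => ?_⟩
  · rw [RingHom.comp_apply, ← halg]
    exact IsLocalization.Away.algebraMap_isUnit _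
  · obtain ⟨k, y, hy⟩ := IsLocalization.Away.surj (π α) r
    obtain ⟨j, z, hz⟩ := hs y
    refine ⟨j + k, z, ?_⟩
    rw [RingHom.comp_apply, RingHom.comp_apply, hz, map_mul, map_pow, ← halg, ← halg, ← hy, pow_add]
    ring
  · rw [RingHom.comp_apply, ← halg] at hx
    obtain ⟨⟨_, k, rfl⟩, hk'⟩ :=
      (IsLocalization.map_eq_zero_iff (Submonoid.powers (π α)) Γ(T, T.basicOpen (π α)) _).1 hx
    obtain ⟨w, hw⟩ := hk (α ^ k * x) (by rw [map_mul, map_pow]; exact hk')
    exact ⟨k, w, hw⟩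

/-- Composing a pure localisation with a surjection with principal kernel. -/
theorem IsLocQuot.comp {A R R' : Type u} [CommRing A] [CommRing R] [CommRing R'] {φ₀ : A →+* R} {a c : A}
    (h : IsLocQuot φ₀ a 0) (f : R →+* R') (hf : Function.Surjective f) (hker : RingHom.ker f = Ideal.span {φ₀ c}) :
    IsLocQuot (f.comp φ₀) a c := by
  refine ⟨h.isUnit.map f, ?_, fun r => ?_, fun x hx => ?_⟩
  · rw [RingHom.comp_apply, ← RingHom.mem_ker, hker]
    exact Ideal.mem_span_singleton_self _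
  · obtain ⟨z, rfl⟩ := hf r
    obtain ⟨k, x, hx⟩ := h.surj z
    exact ⟨k, x, by rw [RingHom.comp_apply, RingHom.comp_apply, hx, map_mul, map_pow]⟩
  · rw [RingHom.comp_apply, ← RingHom.mem_ker, hker] at hx
    obtain ⟨w, hw⟩ := Ideal.mem_span_singleton'.1 hx
    obtain ⟨k, v, hv⟩ := h.surj w
    obtain ⟨j, y, hy⟩ := h.ker (a ^ k * x - c * v) (by
      rw [map_sub, map_mul, map_mul, map_pow, hv, ← hw]; ring)
    refine ⟨j + k, a ^ j * v, ?_⟩
    rw [zero_mul, mul_sub, sub_eq_zero] at hy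
    rw [pow_add, mul_assoc, hy]
    ring

/-- Sections over a basic open of an affine scheme. -/
theorem isLocQuot_spec (A : Type u) [CommRing A] (a : A) :
    IsLocQuot ((resT (Spec (CommRingCat.of A)) (PrimeSpectrum.basicOpen a)).comp
      (Scheme.ΓSpecIso (CommRingCat.of A)).inv.hom) a 0 := by
  have hbij := ConcreteCategory.bijective_of_isIso (Scheme.ΓSpecIso (CommRingCat.of A)).inv
  refine isLocQuot_resT _ a 0 (map_zero _) (fun y => ?_) (fun z hz => ⟨0, ?_⟩) _ ?_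
  · obtain ⟨z, hz⟩ := hbij.2 y
    exact ⟨0, z, by rw [pow_zero, one_mul]; exact hz⟩
  · rw [mul_zero]
    exact hbij.1 (hz.trans (map_zero _).symm)
  · exact (basicOpen_eq_of_affine (R := CommRingCat.of A) a).symm

/-- Sections of an open of `Spec A` over a basic open inside it. -/
theorem isLocQuot_secRing {A : Type u} [CommRing A] (U : (Spec (CommRingCat.of A)).Opens) (a : A)
    (ha : PrimeSpectrum.basicOpen a ≤ U) :
    IsLocQuot (W7Cech.secRing A (U.ι ⁻¹ᵁ PrimeSpectrum.basicOpen a)) a 0 := by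
  haveI : IsIso (U.ι.app (PrimeSpectrum.basicOpen a)) := U.ι.isIso_app _ (by rw [U.opensRange_ι]; exact ha)
  have hbij := ConcreteCategory.bijective_of_isIso (U.ι.app (PrimeSpectrum.basicOpen a))
  have h := (isLocQuot_spec A a).comp (c := 0) (U.ι.app (PrimeSpectrum.basicOpen a)).hom hbij.2 (by
    rw [map_zero, Ideal.span_singleton_eq_bot.2 rfl]
    exact (RingHom.injective_iff_ker_eq_bot _).1 hbij.1)
  have e : W7Cech.secRing A (U.ι ⁻¹ᵁ PrimeSpectrum.basicOpen a) =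
      (U.ι.app (PrimeSpectrum.basicOpen a)).hom.comp
        ((resT (Spec (CommRingCat.of A)) (PrimeSpectrum.basicOpen a)).comp
          (Scheme.ΓSpecIso (CommRingCat.of A)).inv.hom) :=
    RingHom.ext fun x => (app_resT U.ι (PrimeSpectrum.basicOpen a) ((Scheme.ΓSpecIso (CommRingCat.of A)).inv x)).symm
  rw [e]
  exact h

/-- The presentations of a thickening and of a flat scheme over it. -/
theorem exists_truncation {A L : Type u} [CommRing A] [CommRing L] [Algebra A L] {X Z T : Scheme.{u}}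
    [X.Over (Spec (CommRingCat.of A))] (j : Z ⟶ X) [IsClosedImmersion j] (p : T ⟶ Z) [Flat p] [IsAffineHom p]
    [CompactSpace T] [QuasiSeparatedSpace T] (π : L →+* Γ(T, ⊤))
    (hπ : ∀ x : A, π (algebraMap A L x) = (p ≫ j).appTop (Coh.toGlobal (X ↘ Spec (CommRingCat.of A)) x))
    (a c : A) (Ua : X.affineOpens) (hUa : IsLocQuot (W7Cech.secRing A Ua.1) a 0)
    (hker : j.ker.ideal Ua = Ideal.span {W7Cech.secRing A Ua.1 c})
    (hV : p ⁻¹ᵁ (j ⁻¹ᵁ Ua.1) = T.basicOpen (π (algebraMap A L a)))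
    (hs : ∀ y : Γ(T, ⊤), ∃ (i : ℕ) (z : L), π z = π (algebraMap A L a) ^ i * y)
    (hk : ∀ z, π z = 0 → ∃ w, z = algebraMap A L c * w) (hc : π (algebraMap A L c) = 0) :
    ∃ (R B : Type u) (_ : CommRing R) (_ : CommRing B) (φ : A →+* R) (ρ : L →+* B) (ψ : R →+* B),
      IsLocQuot φ a c ∧ IsLocQuot ρ (algebraMap A L a) (algebraMap A L c) ∧
        ψ.comp φ = ρ.comp (algebraMap A L) ∧ ψ.Flat := by
  refine ⟨Γ(Z, j ⁻¹ᵁ Ua.1), Γ(T, p ⁻¹ᵁ (j ⁻¹ᵁ Ua.1)), inferInstance, inferInstance,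
    (j.app Ua.1).hom.comp (W7Cech.secRing A Ua.1), (resT T (p ⁻¹ᵁ (j ⁻¹ᵁ Ua.1))).comp π,
    (p.app (j ⁻¹ᵁ Ua.1)).hom, hUa.comp _ ((isClosedImmersion_iff_isAffineHom.mp inferInstance).2 _ Ua.2) ?_,
    isLocQuot_resT π _ _ hc hs hk _ hV, RingHom.ext fun x => ?_, ?_⟩
  · rw [← Scheme.Hom.ker_apply, hker]
  · show p.app (j ⁻¹ᵁ Ua.1) (j.app Ua.1 (W7Cech.secRing A Ua.1 x)) =
      resT T (p ⁻¹ᵁ (j ⁻¹ᵁ Ua.1)) (π (algebraMap A L x))
    rw [hπ, Scheme.Hom.comp_appTop]
    show p.app (j ⁻¹ᵁ Ua.1) (j.app Ua.1 (resT X Ua.1 (Coh.toGlobal (X ↘ Spec (CommRingCat.of A)) x))) = _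
    rw [app_resT, app_resT]
    rfl
  · rw [Scheme.Hom.app_eq_appLE]
    exact p.flat_appLE (Ua.2.preimage j) ((Ua.2.preimage j).preimage p) le_rfl

/-- Surjectivity and kernel of sections pass to an open subscheme. -/
theorem surj_ker_transfer {Z T : Scheme.{u}} (W : Z.Opens) (k : T ⟶ Z) (k' : T ⟶ (W : Scheme.{u}))
    (hk : k' ≫ W.ι = k) (D : Z.Opens) (hD : D ≤ W) (g : Γ(Z, ⊤)) (hsurj : Function.Surjective (k.app D))
    (hker : RingHom.ker (k.app D).hom = Ideal.span {resT Z D g}) (P : (W : Scheme.{u}).Opens) (hP : P = W.ι ⁻¹ᵁ D) :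
    Function.Surjective (k'.app P) ∧
      RingHom.ker (k'.app P).hom = Ideal.span {resT (W : Scheme.{u}) P (W.ι.appTop g)} := by
  subst hk hP
  haveI : IsIso (W.ι.app D) := W.ι.isIso_app _ (by rw [W.opensRange_ι]; exact hD)
  have hbij := ConcreteCategory.bijective_of_isIso (W.ι.app D)
  have happ : ∀ z, (k' ≫ W.ι).app D z = k'.app (W.ι ⁻¹ᵁ D) (W.ι.app D z) := fun z => by
    rw [Scheme.Hom.comp_app]; rfl
  refine ⟨fun y => ?_, ?_⟩
  · obtain ⟨z, hz⟩ := hsurj y
    exact ⟨W.ι.app D z, (happ z).symm.trans hz⟩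
  · ext y
    obtain ⟨z, rfl⟩ := hbij.2 y
    rw [RingHom.mem_ker, ← app_resT, ← happ]
    refine (show (k' ≫ W.ι).app D z = 0 ↔ z ∈ Ideal.span {resT Z D g} by rw [← hker]; rfl).trans ?_
    rw [Ideal.mem_span_singleton, Ideal.mem_span_singleton]
    refine ⟨map_dvd (W.ι.app D).hom, fun ⟨w, hw⟩ => ?_⟩
    obtain ⟨w, rfl⟩ := hbij.2 w
    exact ⟨w, hbij.1 (hw.trans (map_mul (W.ι.app D).hom _ _).symm)⟩

/-- A closed immersion cut out by functions from the base, tested on a cover. -/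
theorem closed_ker_of_cover {X Z T : Scheme.{u}} (π : Z ⟶ X) [IsAffineHom π] (k : T ⟶ Z) [IsAffineHom k]
    (I : X.IdealSheafData) {ι : Type u} (V : ι → X.affineOpens) (hV : ⨆ i, (V i).1 = ⊤) (g : Γ(X, ⊤))
    (hI : ∀ i, I.ideal (V i) = Ideal.span {resT X (V i).1 g})
    (hsurj : ∀ i, Function.Surjective (k.app (π ⁻¹ᵁ (V i).1)))
    (hker : ∀ i, RingHom.ker (k.app (π ⁻¹ᵁ (V i).1)).hom =
      Ideal.span {resT Z (π ⁻¹ᵁ (V i).1) (π.appTop g)}) :
    IsClosedImmersion k ∧ k.ker = I.comap π := by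
  let P : ι → Z.affineOpens := fun i => ⟨π ⁻¹ᵁ (V i).1, (V i).2.preimage π⟩
  have hP : ⨆ i, (P i).1 = ⊤ := by
    refine top_le_iff.1 fun x _ => ?_
    obtain ⟨i, hi⟩ := Opens.mem_iSup.1 (show π x ∈ ⨆ i, (V i).1 by rw [hV]; trivial)
    exact Opens.mem_iSup.mpr ⟨i, hi⟩
  haveI : IsClosedImmersion k := by
    refine (IsZariskiLocalAtTarget.iff_of_iSup_eq_top (P := @IsClosedImmersion) (fun i => (P i).1) hP).mpr
      fun i => ?_
    haveI : IsAffine (P i).1.toScheme := (P i).2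
    haveI : IsAffine (k ⁻¹ᵁ (P i).1).toScheme := (P i).2.preimage k
    refine IsClosedImmersion.of_surjective_of_isAffine _ ?_
    rw [morphismRestrict_appTop]
    simp only [CommRingCat.hom_comp, RingHom.coe_comp]
    refine (ConcreteCategory.bijective_of_isIso _).2.comp ?_
    have key : ∀ W : Z.Opens, W = (P i).1 → Function.Surjective (k.app W) := by
      rintro W rfl
      exact hsurj i
    exact key _ (P i).1.ι_image_top
  refine ⟨inferInstance, Scheme.IdealSheafData.ext_of_iSup_eq_top P hP fun i => ?_⟩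
  rw [Scheme.Hom.ker_apply, FittLib.comap_ideal π I (V i).2 (P i).2 le_rfl, ← Scheme.Hom.app_eq_appLE, hI, hker,
    Ideal.map_span, Set.image_singleton, app_resT]

/-- Multiples of functions on a closed subscheme lift, when the basic open is affine. -/
theorem exists_lift_closed {T T' : Scheme.{u}} [CompactSpace T] [QuasiSeparatedSpace T] [CompactSpace T']
    [QuasiSeparatedSpace T'] (i : T ⟶ T') [IsClosedImmersion i] (b : Γ(T', ⊤))
    (haff : IsAffineOpen (T'.basicOpen b)) (y : Γ(T, ⊤)) :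
    ∃ (k : ℕ) (x : Γ(T', ⊤)), i.appTop x = i.appTop b ^ k * y := by
  let V := i ⁻¹ᵁ T'.basicOpen b
  have hV : V = T.basicOpen (i.appTop b) := Scheme.preimage_basicOpen_top i b
  have h := isLocQuot_resT (RingHom.id Γ(T, ⊤)) (i.appTop b) 0 rfl (fun z => ⟨0, z, (one_mul z).symm.trans
    (congrArg (· * z) (pow_zero _).symm)⟩) (fun z hz => ⟨0, hz.trans (mul_zero _).symm⟩) V hV
  have h' := isLocQuot_resT (RingHom.id Γ(T', ⊤)) b 0 rfl (fun z => ⟨0, z, (one_mul z).symm.trans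
    (congrArg (· * z) (pow_zero _).symm)⟩) (fun z hz => ⟨0, hz.trans (mul_zero _).symm⟩) (T'.basicOpen b) rfl
  obtain ⟨w, hw⟩ := (isClosedImmersion_iff_isAffineHom.mp ‹_›).2 (T'.basicOpen b) haff (resT T V y)
  obtain ⟨k, x, hx⟩ := h'.surj w
  obtain ⟨l, z, hz⟩ := h.ker (i.appTop x - i.appTop b ^ k * y) (by
    show resT T V (i.appTop x - i.appTop b ^ k * y) = 0
    rw [map_sub, map_mul, map_pow, ← app_resT, ← app_resT,
      show resT T' (T'.basicOpen b) x = resT T' (T'.basicOpen b) b ^ k * w from hx, map_mul, map_pow, hw, sub_self])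
  refine ⟨l + k, b ^ l * x, ?_⟩
  rw [zero_mul, mul_sub, sub_eq_zero] at hz
  rw [map_mul, map_pow, hz, pow_add, mul_assoc]

end Groth.Agent.LefEssSurj
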