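import Groth.Agent.LefEssSurj.AlgFinite
import Groth.Agent.LefEssSurj.SchLocQuot
import Groth.Agent.LocH.TildeCompl

/-!
Finite étale covers of `t = 0` extend to a neighbourhood when the first two local cohomology modules of `A/t` are
finite and `A` is `t`-adically complete.
-/

universe u

open CategoryTheory CategoryTheory.Limits AlgebraicGeometry TopologicalSpace Opposite
open Groth.Agent.FormAlg Groth.Agent.QC Groth.Agent.LefFEt

set_option autoImplicit false
set_option maxHeartbeats 400000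
set_option backward.isDefEq.respectTransparency false
set_option backward.isDefEq.respectTransparency.types false
set_option linter.style.haveILetI false

noncomputable section

namespace Groth.Agent.LefEssSurj

/-- Flat maps of rings, as a property of morphisms. -/
abbrev flatProp : MorphismProperty CommRingCat.{u} := RingHom.toMorphismProperty RingHom.Flat

instance : flatProp.{u}.RespectsIso := RingHom.toMorphismProperty_respectsIso_iff.mp RingHom.Flat.respectsIso

theorem preimage_basicOpen_spec {A : Type u} [CommRing A] {Y : Scheme.{u}}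
    (f : Y ⟶ Spec (CommRingCat.of A)) (a : A) :
    f ⁻¹ᵁ PrimeSpectrum.basicOpen a = Y.basicOpen (Coh.toGlobal f a) := by
  rw [← basicOpen_eq_of_affine (R := CommRingCat.of A) a]
  exact Scheme.preimage_basicOpen_top f _

theorem flat_stalkMap_of_restrict {X Z : Scheme.{u}} (π : Z ⟶ X) (U : X.Opens)
    (h : ∀ z : Z, π z ∈ U → (π.stalkMap z).hom.Flat) : Flat (π ∣_ U) := by
  rw [Flat.iff_flat_stalkMap]
  intro z
  exact ((flatProp).arrow_mk_iso_iff
    (morphismRestrictStalkMap π U z)).2 (h _ z.2)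

theorem flat_stalkMap_spec {A L : Type u} [CommRing A] [CommRing L] [Algebra A L]
    (z : Spec (CommRingCat.of L))
    (h : Spec.map (CommRingCat.ofHom (algebraMap A L)) z ∈ Module.freeLocus A L) :
    ((Spec.map (CommRingCat.ofHom (algebraMap A L))).stalkMap z).hom.Flat :=
  ((flatProp).arrow_mk_iso_iff
    (Scheme.arrowStalkMapSpecIso (CommRingCat.ofHom (algebraMap A L)) z)).2
    (flat_localRingHom_of_free _ _ rfl h)

theorem formallyUnramified_restrict_le {X Z : Scheme.{u}} (π : Z ⟶ X) {V W : X.Opens} (h : V ≤ W)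
    [FormallyUnramified (π ∣_ W)] : FormallyUnramified (π ∣_ V) := by
  let a : (π ⁻¹ᵁ V).toScheme ⟶ (π ⁻¹ᵁ W).toScheme := Z.homOfLE (π.preimage_mono h)
  have hsq : a ≫ (π ∣_ W) = (π ∣_ V) ≫ X.homOfLE h := by
    rw [← cancel_mono W.ι]
    simp only [a, Category.assoc, Scheme.homOfLE_ι, morphismRestrict_ι, Scheme.homOfLE_ι_assoc]
  have hpb : IsPullback (π ∣_ V) a (X.homOfLE h) (π ∣_ W) := by
    refine IsPullback.of_bot ?_ hsq.symm (isPullback_morphismRestrict π W)
    rw [Scheme.homOfLE_ι, Scheme.homOfLE_ι]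
    exact isPullback_morphismRestrict π V
  exact MorphismProperty.of_isPullback (P := @FormallyUnramified) hpb.flip inferInstance

theorem mem_of_mem_support {A : Type u} [CommRing A] (U : (Spec (CommRingCat.of A)).Opens) (t : A)
    (y : (↑U : Scheme.{u})) (hy : y ∈ ((divisorIdeal U t).support : Set (↑U : Scheme.{u}))) :
    t ∈ (show PrimeSpectrum A from U.ι y).asIdeal := by
  rw [divisorIdeal, Scheme.IdealSheafData.support_comap, TopologicalSpace.Closeds.coe_preimage, Set.mem_preimage,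
    Scheme.Hom.support_ker] at hy
  rw [((IsClosedImmersion.spec_of_surjective (CommRingCat.ofHom (Ideal.Quotient.mk (Ideal.span {t})))
    Ideal.Quotient.mk_surjective).base_closed.isClosed_range).closure_eq] at hy
  obtain ⟨z, hz⟩ := hy
  rw [← hz]
  show t ∈ Ideal.comap (Ideal.Quotient.mk (Ideal.span {t})) (show PrimeSpectrum (A ⧸ Ideal.span {t}) from z).asIdeal
  rw [Ideal.mem_comap, Ideal.Quotient.eq_zero_iff_mem.2 (Ideal.mem_span_singleton_self t)]
  exact zero_mem _

/-- Reductions of an affine scheme over a basic open. -/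
theorem app_surj_ker {A L : Type u} [CommRing A] [CommRing L] [Algebra A L] {T : Scheme.{u}} [CompactSpace T]
    [QuasiSeparatedSpace T] (k : T ⟶ Spec (CommRingCat.of L)) (π : L →+* Γ(T, ⊤))
    (hkπ : ∀ z, k.appTop ((Scheme.ΓSpecIso (CommRingCat.of L)).inv z) = π z) (a c : A)
    (hV : k ⁻¹ᵁ PrimeSpectrum.basicOpen (algebraMap A L a) = T.basicOpen (π (algebraMap A L a)))
    (hc : π (algebraMap A L c) = 0)
    (hs : ∀ y : Γ(T, ⊤), ∃ (i : ℕ) (z : L), π z = π (algebraMap A L a) ^ i * y)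
    (hk : ∀ z, π z = 0 → ∃ w, z = algebraMap A L c * w) :
    Function.Surjective (k.app (PrimeSpectrum.basicOpen (algebraMap A L a))) ∧
      RingHom.ker (k.app (PrimeSpectrum.basicOpen (algebraMap A L a))).hom =
        Ideal.span {resT (Spec (CommRingCat.of L)) (PrimeSpectrum.basicOpen (algebraMap A L a))
          ((Spec.map (CommRingCat.ofHom (algebraMap A L))).appTop ((Scheme.ΓSpecIso (CommRingCat.of A)).inv c))} := by
  obtain ⟨h1, h2⟩ := IsLocQuot.surjective_of_loc (isLocQuot_spec L (algebraMap A L a))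
    (isLocQuot_resT π _ _ hc hs hk _ hV) (k.app (PrimeSpectrum.basicOpen (algebraMap A L a))).hom
    (RingHom.ext fun z => (app_resT k _ _).trans (congrArg _ (hkπ z)))
  refine ⟨h1, h2.trans ?_⟩
  refine congrArg (fun z => Ideal.span {resT (Spec (CommRingCat.of L))
    (PrimeSpectrum.basicOpen (algebraMap A L a)) z}) ?_
  exact congrArg (fun g => CommRingCat.Hom.hom g c)
    (Scheme.ΓSpecIso_inv_naturality (CommRingCat.ofHom (algebraMap A L)))

theorem app_app_comm {W V Z X : Scheme.{u}} (a : W ⟶ Z) (b : Z ⟶ X) (c : W ⟶ V) (d : V ⟶ X) (h : c ≫ d = a ≫ b)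
    (g : Γ(X, ⊤)) : a.appTop (b.appTop g) = c.appTop (d.appTop g) := by
  rw [← ConcreteCategory.comp_apply, ← ConcreteCategory.comp_apply, ← Scheme.Hom.comp_appTop,
    ← Scheme.Hom.comp_appTop, h]

namespace EtSys

variable {A : Type u} [CommRing A] {U : (Spec (CommRingCat.of A)).Opens} {t : A}
  (S : EtSys (divisorIdeal U t))

theorem down_strA {a b : ℕ} (h : a ≤ b) (x : A) : S.down h (S.strA b x) = S.strA a x := by
  induction b, h using Nat.le_induction with
  | base => rw [S.down_self]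
  | succ b hab ih => rw [← S.down_comp hab (Nat.le_succ b), S.down_succ, S.strA_res, ih]

/-- The scheme of formal functions. -/
abbrev ZL : Scheme.{u} := Spec (CommRingCat.of S.formalFun)

/-- Its structure map. -/
abbrev πZ : S.ZL ⟶ Spec (CommRingCat.of A) := Spec.map (CommRingCat.ofHom (algebraMap A S.formalFun))

/-- The reductions. -/
def kL (n : ℕ) : S.T n ⟶ S.ZL := (S.T n).toSpecΓ ≫ Spec.map (CommRingCat.ofHom (S.πL n))

theorem kL_π (n : ℕ) : S.kL n ≫ S.πZ = S.q n ≫ U.ι := by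
  rw [kL, Category.assoc, πZ, ← Spec.map_comp]
  have h : CommRingCat.ofHom (algebraMap A S.formalFun) ≫ CommRingCat.ofHom (S.πL n) =
      (Scheme.ΓSpecIso (CommRingCat.of A)).inv ≫ (S.q n ≫ U.ι).appTop := by
    rw [Scheme.Hom.comp_appTop]
    rfl
  rw [h, Spec.map_comp, ← Scheme.toSpecΓ_naturality_assoc, toSpecΓ_SpecMap_ΓSpecIso_inv, Category.comp_id]

theorem kL_appTop (n : ℕ) (z : S.formalFun) :
    (S.kL n).appTop ((Scheme.ΓSpecIso (CommRingCat.of S.formalFun)).inv z) = S.πL n z := by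
  have h : (Scheme.ΓSpecIso (CommRingCat.of S.formalFun)).inv ≫ (S.kL n).appTop =
      CommRingCat.ofHom (S.πL n) := by
    rw [kL, Scheme.Hom.comp_appTop, ← Category.assoc, ← Scheme.ΓSpecIso_inv_naturality, Category.assoc,
      Scheme.toSpecΓ_appTop, Iso.inv_hom_id, Category.comp_id]
  exact congrArg (fun g => CommRingCat.Hom.hom g z) h

theorem preimage_kL (n : ℕ) (a : A) :
    S.kL n ⁻¹ᵁ PrimeSpectrum.basicOpen (algebraMap A S.formalFun a) = (S.T n).basicOpen (S.strA n a) := by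
  rw [preimage_basicOpen_spec]
  exact congrArg _ (S.kL_appTop n _)

theorem preimage_q (n : ℕ) (a : A) :
    S.q n ⁻¹ᵁ (U.ι ⁻¹ᵁ PrimeSpectrum.basicOpen a) = (S.T n).basicOpen (S.strA n a) := by
  rw [← Scheme.Hom.comp_preimage, preimage_basicOpen_spec]
  refine congrArg _ ?_
  show (S.q n ≫ U.ι).appTop _ = (S.q n).appTop (U.ι.appTop _)
  rw [Scheme.Hom.comp_appTop]
  rfl

theorem preimage_πZ (a : A) :
    S.πZ ⁻¹ᵁ PrimeSpectrum.basicOpen a = PrimeSpectrum.basicOpen (algebraMap A S.formalFun a) :=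
  TopologicalSpace.Opens.ext rfl

theorem isAffineOpen_Ua (a : A) (ha : PrimeSpectrum.basicOpen a ≤ U) :
    IsAffineOpen (U.ι ⁻¹ᵁ PrimeSpectrum.basicOpen a) := by
  refine IsAffineOpen.preimage_of_isOpenImmersion ?_ U.ι (by rw [U.opensRange_ι]; exact ha)
  rw [← basicOpen_eq_of_affine (R := CommRingCat.of A) a]
  exact (isAffineOpen_top _).basicOpen _

variable [IsNoetherianRing A]

theorem noeth_T (n : ℕ) : CompactSpace (S.T n) ∧ QuasiSeparatedSpace (S.T n) := by
  haveI : NoetherianSpace (Spec (CommRingCat.of A)) := inferInstanceAs (NoetherianSpace (PrimeSpectrum A))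
  haveI : QuasiCompact U.ι := inferInstance
  exact ⟨QuasiCompact.compactSpace_of_compactSpace (S.q n ≫ U.ι),
    quasiSeparatedSpace_of_quasiSeparated (S.q n ≫ U.ι)⟩

/-- Multiples of functions on the thickenings lift. -/
theorem exists_down_eq (a : A) (ha : PrimeSpectrum.basicOpen a ≤ U) {n m : ℕ} (h : n ≤ m) (y : Γ(S.T n, ⊤)) :
    ∃ (j : ℕ) (x : Γ(S.T m, ⊤)), S.down h x = S.strA n a ^ j * y := by
  induction m, h using Nat.le_induction with
  | base => exact ⟨0, y, by rw [S.down_self, pow_zero, one_mul]⟩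
  | succ m hnm ih =>
    obtain ⟨j, x, hx⟩ := ih
    obtain ⟨h1, h2⟩ := S.noeth_T m
    obtain ⟨h3, h4⟩ := S.noeth_T (m + 1)
    haveI := h1; haveI := h2; haveI := h3; haveI := h4
    haveI : IsClosedImmersion (S.i m) :=
      MorphismProperty.of_isPullback (S.cart m).flip inferInstance
    have haff : IsAffineOpen ((S.T (m + 1)).basicOpen (S.strA (m + 1) a)) := by
      rw [← S.preimage_q]
      exact (isAffineOpen_Ua a ha).preimage (S.q (m + 1))
    obtain ⟨k, x', hx'⟩ := exists_lift_closed (S.i m) (S.strA (m + 1) a) haff x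
    refine ⟨k + j, x', ?_⟩
    rw [← S.down_comp hnm (Nat.le_succ m), S.down_succ, hx', S.strA_res, map_mul, map_pow, S.down_strA, hx, pow_add,
      mul_assoc]

variable [Module.Finite A S.formalFun]
  (hker : ∀ n (z : S.formalFun), S.πL n z = 0 ↔ ∃ w : S.formalFun, t ^ (n + 1) • w = z)
  (hlift : ∀ n : ℕ, ∃ (m : ℕ) (h : n ≤ m), ∀ y : Γ(S.T m, ⊤), ∃ z : S.formalFun, S.πL n z = S.down h y)

omit [Module.Finite A S.formalFun] in
include hlift in
theorem exists_smul_range (a : A) (ha : PrimeSpectrum.basicOpen a ≤ U) (n : ℕ) (y : Γ(S.T n, ⊤)) :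
    ∃ (j : ℕ) (z : S.formalFun), S.πL n z = S.πL n (algebraMap A S.formalFun a) ^ j * y := by
  obtain ⟨m, h, hm⟩ := hlift n
  obtain ⟨j, x, hx⟩ := S.exists_down_eq a ha h y
  obtain ⟨z, hz⟩ := hm x
  exact ⟨j, z, by rw [hz, hx, πL_algebraMap]⟩

omit [IsNoetherianRing A] [Module.Finite A S.formalFun] in
include hker in
theorem kill_ker (n : ℕ) : S.πL n (algebraMap A S.formalFun (t ^ (n + 1))) = 0 ∧
    ∀ z, S.πL n z = 0 → ∃ w, z = algebraMap A S.formalFun (t ^ (n + 1)) * w := by
  refine ⟨(hker n _).2 ⟨1, (Algebra.algebraMap_eq_smul_one _).symm⟩, fun z hz => ?_⟩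
  obtain ⟨w, rfl⟩ := (hker n z).1 hz
  exact ⟨w, Algebra.smul_def _ _⟩

omit [Module.Finite A S.formalFun] in
include hker hlift in
theorem isLocQuot_kL (a : A) (ha : PrimeSpectrum.basicOpen a ≤ U) (n : ℕ) :
    Function.Surjective ((S.kL n).app (PrimeSpectrum.basicOpen (algebraMap A S.formalFun a))) ∧
      RingHom.ker ((S.kL n).app (PrimeSpectrum.basicOpen (algebraMap A S.formalFun a))).hom =
        Ideal.span {resT S.ZL (PrimeSpectrum.basicOpen (algebraMap A S.formalFun a))
          (S.πZ.appTop ((Scheme.ΓSpecIso (CommRingCat.of A)).inv (t ^ (n + 1))))} := by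
  obtain ⟨h1, h2⟩ := S.noeth_T n
  haveI := h1; haveI := h2
  exact app_surj_ker (S.kL n) (S.πL n) (S.kL_appTop n) a (t ^ (n + 1)) (S.preimage_kL n a) (S.kill_ker hker n).1
    (S.exists_smul_range hlift a ha n) (S.kill_ker hker n).2

include hker hlift in
theorem free_of_mem (p : (↑U : Scheme.{u})) (hp : t ∈ (U.ι p).asIdeal) :
    U.ι p ∈ Module.freeLocus A S.formalFun := by
  obtain ⟨a, hap, ha⟩ := LocH.exists_basicOpen_le (A := A) (U := U) (x := U.ι p) p.2
  refine mem_freeLocus_of_truncations a t _ hap hp fun n => ?_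
  obtain ⟨h1, h2⟩ := S.noeth_T n
  haveI := h1; haveI := h2
  refine exists_truncation (FSch.completionToX (↑U : Scheme.{u}) (divisorIdeal U t) n) (S.p n) (S.πL n)
    (fun x => S.πL_algebraMap n x) a (t ^ (n + 1)) ⟨_, isAffineOpen_Ua a ha⟩ (isLocQuot_secRing U a ha) ?_
    (S.preimage_q n a) (S.exists_smul_range hlift a ha n) (S.kill_ker hker n).2 (S.kill_ker hker n).1
  rw [ker_completionToX (fun V => divisorIdeal_ideal U t V) n, map_pow]

/-- The cover near `t = 0`. -/
theorem exists_nhd_cover (hker : ∀ n (z : S.formalFun), S.πL n z = 0 ↔ ∃ w : S.formalFun, t ^ (n + 1) • w = z)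
    (hlift : ∀ n : ℕ, ∃ (m : ℕ) (h : n ≤ m), ∀ y : Γ(S.T m, ⊤), ∃ z : S.formalFun, S.πL n z = S.down h y) :
    ∃ (V : (↑U : Scheme.{u}).Opens) (R' : FEt.Cat (V : Scheme.{u})) (_ : ((divisorIdeal U t).support : Set (↑U : Scheme.{u})) ⊆ (V : Set (↑U : Scheme.{u})))
      (i : ((divisorIdeal U t) ^ (0 + 1)).subscheme ⟶ (V : Scheme.{u})) (k : S.T 0 ⟶ R'.left),
      i ≫ V.ι = ((divisorIdeal U t) ^ (0 + 1)).subschemeι ∧ IsPullback k (S.p 0) R'.hom i := by
  let W : S.ZL.Opens := S.πZ ⁻¹ᵁ U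
  let πU : (W : Scheme.{u}) ⟶ (↑U : Scheme.{u}) := S.πZ ∣_ U
  have hπU : πU ≫ U.ι = W.ι ≫ S.πZ := morphismRestrict_ι _ _
  haveI : IsFinite S.πZ := (IsFinite.SpecMap_iff (f := CommRingCat.ofHom (algebraMap A S.formalFun))).2
    (RingHom.finite_algebraMap.2 inferInstance)
  haveI : LocallyOfFinitePresentation S.πZ := by
    rw [HasRingHomProperty.Spec_iff (P := @LocallyOfFinitePresentation)]
    haveI : Algebra.FiniteType A S.formalFun := inferInstance
    exact RingHom.FinitePresentation.of_finiteType.1 (RingHom.finiteType_algebraMap.2 inferInstance)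
  haveI : IsFinite πU := MorphismProperty.of_isPullback (isPullback_morphismRestrict S.πZ U).flip inferInstance
  haveI : LocallyOfFinitePresentation πU :=
    MorphismProperty.of_isPullback (isPullback_morphismRestrict S.πZ U).flip inferInstance
  let k := IsOpenImmersion.lift W.ι (S.kL 0) (by
    rintro _ ⟨z, rfl⟩
    rw [W.range_ι]
    show S.πZ (S.kL 0 z) ∈ U
    rw [← Scheme.Hom.comp_apply, S.kL_π, Scheme.Hom.comp_apply]
    exact (S.q 0 z).2)
  have hk : k ≫ W.ι = S.kL 0 := IsOpenImmersion.lift_fac _ _ _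
  have hkπ : k ≫ πU = S.q 0 := by rw [← cancel_mono U.ι, Category.assoc, hπU, reassoc_of% hk, S.kL_π]
  haveI : IsAffineHom (S.q 0) := inferInstance
  haveI : IsAffineHom k := by
    haveI : IsAffineHom (k ≫ πU) := by rw [hkπ]; infer_instance
    exact IsAffineHom.of_comp k πU
  let J := (divisorIdeal U t) ^ (0 + 1)
  let Va : {a : A // PrimeSpectrum.basicOpen a ≤ U} → (↑U : Scheme.{u}).affineOpens := fun a =>
    ⟨U.ι ⁻¹ᵁ PrimeSpectrum.basicOpen a.1, isAffineOpen_Ua a.1 a.2⟩
  have hVa : ⨆ a, (Va a).1 = ⊤ := by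
    refine top_le_iff.1 fun x _ => ?_
    obtain ⟨a, hxa, ha⟩ := LocH.exists_basicOpen_le (A := A) (U := U) (x := U.ι x) x.2
    exact Opens.mem_iSup.mpr ⟨⟨a, ha⟩, hxa⟩
  let g₀ := (Scheme.ΓSpecIso (CommRingCat.of A)).inv (t ^ (0 + 1))
  have hg : W.ι.appTop (S.πZ.appTop g₀) = πU.appTop (U.ι.appTop g₀) := app_app_comm W.ι S.πZ πU U.ι hπU g₀
  have hJ : ∀ a, J.ideal (Va a) = Ideal.span {resT _ (Va a).1 (U.ι.appTop g₀)} := fun a => by
    show ((divisorIdeal U t) ^ (0 + 1)).ideal (Va a) = _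
    rw [← Scheme.IdealSheafData.ker_subschemeι ((divisorIdeal U t) ^ (0 + 1))]
    refine (ker_completionToX (fun V => divisorIdeal_ideal U t V) 0 (Va a)).trans ?_
    rw [← map_pow]
    rfl
  have hP : ∀ a : {a : A // PrimeSpectrum.basicOpen a ≤ U},
      πU ⁻¹ᵁ (Va a).1 = W.ι ⁻¹ᵁ PrimeSpectrum.basicOpen (algebraMap A S.formalFun a.1) := fun a => by
    rw [← S.preimage_πZ, ← Scheme.Hom.comp_preimage, hπU, Scheme.Hom.comp_preimage]
  have htr : ∀ a : {a : A // PrimeSpectrum.basicOpen a ≤ U}, Function.Surjective (k.app (πU ⁻¹ᵁ (Va a).1)) ∧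
      RingHom.ker (k.app (πU ⁻¹ᵁ (Va a).1)).hom =
        Ideal.span {resT (W : Scheme.{u}) (πU ⁻¹ᵁ (Va a).1) (πU.appTop (U.ι.appTop g₀))} := fun a => by
    rw [← hg]
    refine surj_ker_transfer W (S.kL 0) k hk (PrimeSpectrum.basicOpen (algebraMap A S.formalFun a.1))
      (by rw [← S.preimage_πZ]; exact Scheme.Hom.preimage_mono S.πZ a.2) (S.πZ.appTop g₀)
      (S.isLocQuot_kL hker hlift a.1 a.2 0).1 (S.isLocQuot_kL hker hlift a.1 a.2 0).2 _ (hP a)
  obtain ⟨hclosed, hkerk⟩ := closed_ker_of_cover πU k J Va hVa (U.ι.appTop g₀) hJ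
    (fun a => (htr a).1) (fun a => (htr a).2)
  haveI := hclosed
  haveI : FormallyUnramified (S.p 0) := by
    haveI : Etale (S.p 0) := S.et 0
    infer_instance
  haveI : IsLocallyNoetherian (↑U : Scheme.{u}) := inferInstance
  haveI := formallyUnramified_completionToX (divisorIdeal U t) 0
  haveI : FormallyUnramified (k ≫ πU) := by
    rw [hkπ]
    exact MorphismProperty.comp_mem @FormallyUnramified _ _ inferInstance inferInstance
  obtain ⟨V₁, hV₁, _⟩ := exists_nhd_formallyUnramified πU k J hkerk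
  let F : (Spec (CommRingCat.of A)).Opens :=
    ⟨Module.freeLocus A S.formalFun, by
      haveI : Module.FinitePresentation A S.formalFun := Module.finitePresentation_of_finite A _
      exact Module.isOpen_freeLocus⟩
  let V := V₁ ⊓ U.ι ⁻¹ᵁ F
  have hsupp : ((divisorIdeal U t).support : Set (↑U : Scheme.{u})) ⊆ (V : Set (↑U : Scheme.{u})) := fun x hx => by
    refine ⟨hV₁ ?_, S.free_of_mem hker hlift x (mem_of_mem_support U t x hx)⟩
    show x ∈ ((divisorIdeal U t) ^ (0 + 1)).support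
    rw [Scheme.IdealSheafData.support_pow _ _ (Nat.succ_ne_zero 0)]
    exact hx
  let γ := πU ∣_ V
  haveI : IsFinite γ := MorphismProperty.of_isPullback (isPullback_morphismRestrict πU V).flip inferInstance
  haveI : LocallyOfFinitePresentation γ :=
    MorphismProperty.of_isPullback (isPullback_morphismRestrict πU V).flip inferInstance
  haveI : Flat γ := flat_stalkMap_of_restrict πU V fun z hz => by
    refine ((flatProp).arrow_mk_iso_iff
      (morphismRestrictStalkMap S.πZ U z)).2 (flat_stalkMap_spec _ ?_)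
    have h := hz.2
    show S.πZ (W.ι z) ∈ F
    rw [← Scheme.Hom.comp_apply, ← hπU, Scheme.Hom.comp_apply]
    exact h
  haveI : FormallyUnramified γ := formallyUnramified_restrict_le πU inf_le_left
  haveI : Etale γ := Etale.of_formallyUnramified_of_flat γ
  have hrange : Set.range J.subschemeι ⊆ Set.range V.ι := by
    rw [Scheme.IdealSheafData.range_subschemeι, V.range_ι,
      show J.support = _ from Scheme.IdealSheafData.support_pow _ _ (Nat.succ_ne_zero 0)]
    exact hsupp
  let i := IsOpenImmersion.lift V.ι J.subschemeι hrange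
  have hi : i ≫ V.ι = J.subschemeι := IsOpenImmersion.lift_fac _ _ _
  have hcart : IsPullback k (S.p 0) πU J.subschemeι :=
    isPullback_of_ker_eq_comap πU k J hkerk (S.p 0) hkπ.symm
  have hrange' : Set.range k ⊆ Set.range (πU ⁻¹ᵁ V).ι := by
    rintro _ ⟨z, rfl⟩
    rw [Scheme.Opens.range_ι]
    show πU (k z) ∈ V
    rw [← Scheme.Hom.comp_apply, hkπ]
    refine hsupp ?_
    have hz : J.subschemeι (S.p 0 z) ∈ Set.range J.subschemeι := ⟨_, rfl⟩
    rwa [Scheme.IdealSheafData.range_subschemeι,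
      show J.support = _ from Scheme.IdealSheafData.support_pow _ _ (Nat.succ_ne_zero 0)] at hz
  let k' := IsOpenImmersion.lift (πU ⁻¹ᵁ V).ι k hrange'
  have hk' : k' ≫ (πU ⁻¹ᵁ V).ι = k := IsOpenImmersion.lift_fac _ _ _
  refine ⟨V, MorphismProperty.Over.mk ⊤ γ ⟨inferInstance, inferInstance⟩, hsupp, i, k', hi, ?_⟩
  refine IsPullback.of_right ?_ ?_ (isPullback_morphismRestrict πU V).flip
  · rw [hk', hi]
    exact hcart
  · show k' ≫ γ = S.p 0 ≫ i
    rw [← cancel_mono V.ι, Category.assoc, morphismRestrict_ι, reassoc_of% hk', Category.assoc, hi, hkπ]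

end EtSys

/-- Finite étale covers of `t = 0` extend to a neighbourhood when the first two local cohomology modules of
`A/t` are finite. -/
theorem exists_extension_of_finite {A : Type u} [CommRing A] [IsNoetherianRing A]
    {U : (Spec (CommRingCat.of A)).Opens} {t : A} (ht : t ∈ nonZeroDivisors A) [IsAdicComplete (Ideal.span {t}) A]
    {𝔞 : Ideal A} (hU : U = EGA4.openCompl A 𝔞)
    (h₁ : Module.Finite A (LocCoh.H 𝔞 1 (A ⧸ Ideal.span {t})))
    (h₂ : Module.Finite A (LocCoh.H 𝔞 2 (A ⧸ Ideal.span {t})))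
    (R : FEt.Cat (divisorIdeal U t).subscheme) :
    ∃ (V : (↑U : Scheme.{u}).Opens) (R' : FEt.Cat (V : Scheme.{u})),
      ((divisorIdeal U t).support : Set (↑U : Scheme.{u})) ⊆ (V : Set (↑U : Scheme.{u})) ∧
      ∀ i : (divisorIdeal U t).subscheme ⟶ (V : Scheme.{u}), i ≫ V.ι = (divisorIdeal U t).subschemeι →
        Nonempty ((FEt.restrict i).obj R' ≅ R) := by
  let 𝓘 := divisorIdeal U t
  haveI : IsLocallyNoetherian (↑U : Scheme.{u}) := inferInstance
  let c : (𝓘 ^ (0 + 1)).subscheme ⟶ 𝓘.subscheme := Scheme.IdealSheafData.inclusion (by rw [pow_one])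
  have hc : c ≫ 𝓘.subschemeι = (𝓘 ^ (0 + 1)).subschemeι := Scheme.IdealSheafData.inclusion_subschemeι _
  haveI : IsIso c := ⟨Scheme.IdealSheafData.inclusion (by rw [pow_one]), by
    rw [← cancel_mono (𝓘 ^ (0 + 1)).subschemeι]; simp [c], by rw [← cancel_mono 𝓘.subschemeι]; simp [c]⟩
  haveI : Surjective c := inferInstance
  haveI := Groth.Agent.S0238.result c
  obtain ⟨S, ⟨eR⟩⟩ := exists_etSys 𝓘 (Groth.Agent.S3854.result _ 𝓘) ((FEt.restrict c).obj R)
  obtain ⟨hfin, hker, hlift⟩ := S.exists_finite ht hU h₁ h₂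
  haveI := hfin
  obtain ⟨V, R', hV, i₀, k, hi₀, hk⟩ := S.exists_nhd_cover hker hlift
  refine ⟨V, R', hV, fun i hi => ?_⟩
  let e0 := restrictIso i₀ R' (MorphismProperty.Over.mk ⊤ (S.p 0) ⟨S.fin 0, S.et 0⟩) k hk
  let e1 : FEt.restrict i₀ ≅ FEt.restrict i ⋙ FEt.restrict c :=
    MorphismProperty.Over.pullbackComp c i _ (by rw [← cancel_mono V.ι, Category.assoc, hi, hc, hi₀])
  exact ⟨(FEt.restrict c).preimageIso ((e1.app R').symm ≪≫ e0 ≪≫ eR)⟩

end Groth.Agent.LefEssSurj
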