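import Groth.Agent.LefEssSurj.PunctHyper
import Groth.Agent.FormAlg.TowerKill
import Groth.Agent.FormAlg.RetractKill

/-!
Finite étale covers of `t = 0` extend to a neighbourhood when a power of `t` makes the first two local cohomology
modules of all `A/t^k` finite and `A` is `t`-adically complete.
-/

universe u

open CategoryTheory CategoryTheory.Limits AlgebraicGeometry TopologicalSpace Opposite
open Groth.Agent.FormAlg Groth.Agent.QC Groth.Agent.LefFEt

set_option autoImplicit false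
set_option maxHeartbeats 400000
set_option backward.isDefEq.respectTransparency false
set_option backward.isDefEq.respectTransparency.types false
set_option linter.style.haveILetI false

noncomputable section

namespace Groth.Agent.LefEssSurj

namespace EtSys

variable {A : Type u} [CommRing A] {U : (Spec (CommRingCat.of A)).Opens} {t : A}
  (S : EtSys (divisorIdeal U t))

theorem isFinLocFreeMod_level [IsNoetherianRing A] (n : ℕ) :
    Formal2.IsFinLocFreeMod (Ideal.span {t}) (n + 1) ((sysFun S.modSys).obj (op n)) :=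
  isFinLocFreeMod_push (FSch.completionToX (↑U : Scheme.{u}) (divisorIdeal U t) n)
    (fun V => by rw [ker_completionToX (fun V => divisorIdeal_ideal U t V) n V]) _ (S.levelwiseFinLocFree n)

/-- The formal functions form a finite algebra, with the expected reductions, given the bound on `H^1`;
lifting is bounded given the bound on `H^2`. -/
theorem exists_finite_of_kill_one [IsNoetherianRing A] (ht : t ∈ nonZeroDivisors A) [IsAdicComplete (Ideal.span {t}) A]
    {𝔞 : Ideal A} (hU : U = EGA4.openCompl A 𝔞)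
    {c : ℕ} (h₁ : ∀ k, KillFin (t ^ c) (LocCoh.H 𝔞 1 (A ⧸ Ideal.span {t ^ k}))) :
    Module.Finite A S.formalFun ∧
      (∀ n (z : S.formalFun), S.πL n z = 0 ↔ ∃ w : S.formalFun, t ^ (n + 1) • w = z) ∧
      ((∀ k, KillFin (t ^ c) (LocCoh.H 𝔞 2 (A ⧸ Ideal.span {t ^ k}))) →
        ∀ n : ℕ, ∃ (m : ℕ) (h : n ≤ m), ∀ y : Γ(S.T m, ⊤), ∃ z : S.formalFun, S.πL n z = S.down h y) := by
  obtain ⟨T, hT, hfree⟩ := S.exists_tower ht
  obtain ⟨e₀, he₀⟩ : ∃ e : ∀ n : ℕ, Coh.HH (↑U : Scheme.{u}) (T.obj n) 0 ≃+ Γ(S.T n, ⊤),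
      (∀ n (a : A) x, e n (a • x) = S.strA n a * e n x) ∧
        ∀ n x, e n (CohFinite.hhMap A (T.pr (Nat.le_succ n)) 0 x) = (S.i n).appTop (e (n + 1) x) := by
    exact S.exists_equiv_tower T hT
  have hlev : ∀ n, KillFin (t ^ c) (Coh.HH (↑U : Scheme.{u}) (T.obj n) 0) ∧
      (KillFin (t ^ c) (LocCoh.H 𝔞 2 (A ⧸ Ideal.span {t ^ (n + 1)})) →
        KillFin (t ^ c * t ^ c) (Coh.HH (↑U : Scheme.{u}) (T.obj n) 1)) := fun n => by
    have hf : Formal2.IsFinLocFreeMod (Ideal.span {t}) (n + 1) (T.obj n) := by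
      show Formal2.IsFinLocFreeMod (Ideal.span {t}) (n + 1) (T.G.obj (op n))
      rw [hT]
      exact S.isFinLocFreeMod_level n
    clear e₀ he₀ hT
    subst hU
    exact killFin_level' 𝔞 t (T.hG.1 n) (n + 1) hf (h₁ _)
  let Q := T.secTower
  haveI := T.finite_L_of_kill (c + c) ((hlev _).1.of_dvd (pow_dvd_pow t (Nat.le_add_right c c)))
  let e : ∀ n, Q.P n ≃+ Γ(S.T n, ⊤) := e₀
  have hsmul : ∀ n (a : A) (x : Q.P n), e n (a • x) = S.strA n a * e n x := he₀.1
  have hp : ∀ {a b : ℕ} (h : a ≤ b) (x : Q.P b), e a (Q.p h x) = S.down h (e b x) := by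
    intro a b h
    induction b, h using Nat.le_induction with
    | base => intro x; rw [Q.p_self, S.down_self]
    | succ b hab ih =>
      intro x
      rw [← Q.p_comp hab (Nat.le_succ b), ih, ← S.down_comp hab (Nat.le_succ b), S.down_succ]
      exact congrArg _ (he₀.2 b x)
  let Φ : Q.L →ₗ[A] S.formalFun :=
    { toFun := fun y => ⟨fun n => e n (Q.π n y), fun n => by rw [← S.down_succ, ← hp, Q.π_succ]⟩
      map_add' := fun y z => Subtype.ext (funext fun n => by
        show e n (Q.π n (y + z)) = e n (Q.π n y) + e n (Q.π n z)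
        rw [map_add, map_add])
      map_smul' := fun a y => Subtype.ext (funext fun n => by
        show e n (Q.π n (a • y)) = S.strA n a * e n (Q.π n y)
        rw [map_smul, hsmul]) }
  have hΦ : ∀ n y, S.πL n (Φ y) = e n (Q.π n y) := fun n y => rfl
  have hsurj : Function.Surjective Φ := fun z => by
    refine ⟨⟨fun n => (e n).symm (S.πL n z), fun n => (e n).injective ?_⟩, Subtype.ext (funext fun n => ?_)⟩
    · rw [hp, AddEquiv.apply_symm_apply, AddEquiv.apply_symm_apply, S.down_succ, S.πL_succ]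
    · exact (e n).apply_symm_apply _
  refine ⟨Module.Finite.of_surjective Φ hsurj, fun n z => ⟨fun hz => ?_, ?_⟩, fun h₂ n => ?_⟩
  · obtain ⟨y, rfl⟩ := hsurj z
    obtain ⟨w, hw⟩ := Q.exists_pow_smul_eq n y ((e n).injective ((hΦ n y).symm.trans (hz.trans (map_zero (e n)).symm)))
    exact ⟨Φ w, by rw [← map_smul, hw]⟩
  · rintro ⟨w, rfl⟩
    obtain ⟨y, rfl⟩ := hsurj w
    rw [← map_smul, hΦ, Q.π_pow_smul, map_zero]
  · have hex := T.exists_lift_of_kill (c + c) (((hlev _).2 (h₂ _)).of_dvd (by rw [← pow_add]; exact pow_dvd_pow t (Nat.le_succ _)))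
    obtain ⟨d, hc⟩ := hex
    refine ⟨d + (n + 1), by omega, fun y => ?_⟩
    obtain ⟨v, hv⟩ := hc n (by omega) ((e _).symm y)
    exact ⟨Φ v, by rw [hΦ, hv, hp, AddEquiv.apply_symm_apply]⟩

/-- The formal functions form a finite algebra, with the expected reductions and bounded lifting. -/
theorem exists_finite_of_kill [IsNoetherianRing A] (ht : t ∈ nonZeroDivisors A) [IsAdicComplete (Ideal.span {t}) A]
    {𝔞 : Ideal A} (hU : U = EGA4.openCompl A 𝔞)
    {c : ℕ} (h₁ : ∀ k, KillFin (t ^ c) (LocCoh.H 𝔞 1 (A ⧸ Ideal.span {t ^ k})))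
    (h₂ : ∀ k, KillFin (t ^ c) (LocCoh.H 𝔞 2 (A ⧸ Ideal.span {t ^ k}))) :
    Module.Finite A S.formalFun ∧
      (∀ n (z : S.formalFun), S.πL n z = 0 ↔ ∃ w : S.formalFun, t ^ (n + 1) • w = z) ∧
      ∀ n : ℕ, ∃ (m : ℕ) (h : n ≤ m), ∀ y : Γ(S.T m, ⊤), ∃ z : S.formalFun, S.πL n z = S.down h y :=
  ⟨(S.exists_finite_of_kill_one ht hU h₁).1, (S.exists_finite_of_kill_one ht hU h₁).2.1,
    (S.exists_finite_of_kill_one ht hU h₁).2.2 h₂⟩

end EtSys

/-- Finite étale covers of `t = 0` extend to a neighbourhood when a power of `t` makes the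
first two local cohomology modules of all `A/t^k` finite. -/
theorem exists_extension_of_kill {A : Type u} [CommRing A] [IsNoetherianRing A]
    {U : (Spec (CommRingCat.of A)).Opens} {t : A} (ht : t ∈ nonZeroDivisors A) [IsAdicComplete (Ideal.span {t}) A]
    {𝔞 : Ideal A} (hU : U = EGA4.openCompl A 𝔞)
    {c : ℕ} (h₁ : ∀ k, KillFin (t ^ c) (LocCoh.H 𝔞 1 (A ⧸ Ideal.span {t ^ k})))
    (h₂ : ∀ k, KillFin (t ^ c) (LocCoh.H 𝔞 2 (A ⧸ Ideal.span {t ^ k})))
    (R : FEt.Cat (divisorIdeal U t).subscheme) :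
    ∃ (V : (↑U : Scheme.{u}).Opens) (R' : FEt.Cat (V : Scheme.{u})),
      ((divisorIdeal U t).support : Set (↑U : Scheme.{u})) ⊆ (V : Set (↑U : Scheme.{u})) ∧
      ∀ i : (divisorIdeal U t).subscheme ⟶ (V : Scheme.{u}), i ≫ V.ι = (divisorIdeal U t).subschemeι →
        Nonempty ((FEt.restrict i).obj R' ≅ R) := by
  let 𝓘 := divisorIdeal U t
  haveI : IsLocallyNoetherian (↑U : Scheme.{u}) := inferInstance
  let cc : (𝓘 ^ (0 + 1)).subscheme ⟶ 𝓘.subscheme := Scheme.IdealSheafData.inclusion (by rw [pow_one])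
  have hc : cc ≫ 𝓘.subschemeι = (𝓘 ^ (0 + 1)).subschemeι := Scheme.IdealSheafData.inclusion_subschemeι _
  haveI : IsIso cc := ⟨Scheme.IdealSheafData.inclusion (by rw [pow_one]), by
    rw [← cancel_mono (𝓘 ^ (0 + 1)).subschemeι]; simp [cc], by rw [← cancel_mono 𝓘.subschemeι]; simp [cc]⟩
  haveI : Surjective cc := inferInstance
  haveI := Groth.Agent.S0238.result cc
  obtain ⟨S, ⟨eR⟩⟩ := exists_etSys 𝓘 (Groth.Agent.S3854.result _ 𝓘) ((FEt.restrict cc).obj R)
  obtain ⟨hfin, hker, hlift⟩ := S.exists_finite_of_kill ht hU h₁ h₂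
  haveI := hfin
  obtain ⟨V, R', hV, i₀, k, hi₀, hk⟩ := S.exists_nhd_cover hker hlift
  refine ⟨V, R', hV, fun i hi => ?_⟩
  let e0 := restrictIso i₀ R' (MorphismProperty.Over.mk ⊤ (S.p 0) ⟨S.fin 0, S.et 0⟩) k hk
  let e1 : FEt.restrict i₀ ≅ FEt.restrict i ⋙ FEt.restrict cc :=
    MorphismProperty.Over.pullbackComp cc i _ (by rw [← cancel_mono V.ι, Category.assoc, hi, hc, hi₀])
  exact ⟨(FEt.restrict cc).preimageIso ((e1.app R').symm ≪≫ e0 ≪≫ eR)⟩

theorem extendsNearDiv_of_kill {A : Type u} [CommRing A] [IsNoetherianRing A] [IsLocalRing A] {f : A}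
    [IsAdicComplete (Ideal.span {f}) A] (hnz : f ∈ nonZeroDivisors A) {c : ℕ}
    (h1 : ∀ k, KillFin (f ^ c) (LocCoh.H (IsLocalRing.maximalIdeal A) 1 (A ⧸ Ideal.span {f ^ k})))
    (h2 : ∀ k, KillFin (f ^ c) (LocCoh.H (IsLocalRing.maximalIdeal A) 2 (A ⧸ Ideal.span {f ^ k}))) :
    ExtendsNearDiv A f :=
  fun R => exists_extension_of_kill hnz (puncturedSpec_eq A) h1 h2 R

end Groth.Agent.LefEssSurj
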