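import Groth.Agent.SymAlg.OfAffine
import Groth.Agent.TMul.Assoc
import Groth.Agent.LocFree.Props
import Groth.Agent.QC.Localisation
import Mathlib.RingTheory.Finiteness.ModuleFinitePresentation

/-!
The finite locally free cover attached to a commutative algebra structure on a finite locally free module.
-/

universe u

open CategoryTheory CategoryTheory.Limits AlgebraicGeometry TopologicalSpace Opposite
open AlgebraicGeometry.Scheme AlgebraicGeometry.Scheme.AffineZariskiSite

set_option autoImplicit false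
set_option backward.isDefEq.respectTransparency false
set_option backward.isDefEq.respectTransparency.types false
set_option linter.style.haveILetI false

noncomputable section

namespace Groth.Agent.LefEssSurj

open Groth.Agent.QC

variable {X : Scheme.{u}}

/-- A commutative algebra structure on a module. -/
structure AlgData (E : X.Modules) where
  /-- The product. -/
  μ : CohB1.tensorMod E E ⟶ E
  /-- The unit. -/
  one : Γ(E, ⊤)
  comm : ∀ (U : X.Opens) (a b : Γ(E, U)), μ.app U (TMul.tm a b) = μ.app U (TMul.tm b a)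
  assoc : ∀ (U : X.Opens) (a b c : Γ(E, U)),
    μ.app U (TMul.tm (μ.app U (TMul.tm a b)) c) = μ.app U (TMul.tm a (μ.app U (TMul.tm b c)))
  one_mul : ∀ (U : X.Opens) (a : Γ(E, U)), μ.app U (TMul.tm (res E le_top one) a) = a

namespace AlgData

variable {E : X.Modules} (A : AlgData E)

/-- The sections, as a ring. -/
@[nolint unusedArguments]
def Sec (_ : AlgData E) (U : X.Opens) : Type u := Γ(E, U)

instance (U : X.Opens) : AddCommGroup (A.Sec U) := inferInstanceAs (AddCommGroup Γ(E, U))

instance instModuleSec (U : X.Opens) : Module Γ(X, U) (A.Sec U) := inferInstanceAs (Module Γ(X, U) Γ(E, U))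

/-- The product of sections. -/
def mulS {U : X.Opens} (a b : Γ(E, U)) : Γ(E, U) := A.μ.app U (TMul.tm a b)

lemma mulS_add {U : X.Opens} (a b c : Γ(E, U)) : A.mulS a (b + c) = A.mulS a b + A.mulS a c := by
  rw [mulS, TMul.add_tm, map_add]
  rfl

lemma add_mulS {U : X.Opens} (a b c : Γ(E, U)) : A.mulS (a + b) c = A.mulS a c + A.mulS b c := by
  rw [mulS, TMul.tm_add, map_add]
  rfl

lemma zero_mulS {U : X.Opens} (a : Γ(E, U)) : A.mulS 0 a = 0 := by
  rw [mulS, TMul.zero_tm, map_zero]

lemma mulS_comm {U : X.Opens} (a b : Γ(E, U)) : A.mulS a b = A.mulS b a := A.comm U a b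

lemma smul_mulS {U : X.Opens} (r : Γ(X, U)) (a b : Γ(E, U)) : A.mulS (r • a) b = r • A.mulS a b := by
  rw [mulS, TMul.smul_tm, TMul.app_smul]
  rfl

instance (U : X.Opens) : CommRing (A.Sec U) :=
  { (inferInstance : AddCommGroup (A.Sec U)) with
    mul := fun a b => A.mulS a b
    one := res E le_top A.one
    mul_assoc := fun a b c => A.assoc U a b c
    one_mul := fun a => A.one_mul U a
    mul_one := fun a => (A.comm U a _).trans (A.one_mul U a)
    zero_mul := fun a => A.zero_mulS a
    mul_zero := fun a => (A.mulS_comm a (0 : Γ(E, U))).trans (A.zero_mulS a)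
    left_distrib := A.mulS_add
    right_distrib := A.add_mulS
    mul_comm := fun a b => A.comm U a b }

/-- The structure map. -/
def str (U : X.Opens) : Γ(X, U) →+* A.Sec U where
  toFun r := r • (1 : A.Sec U)
  map_one' := one_smul _ _
  map_zero' := zero_smul _ _
  map_add' r s := add_smul _ _ _
  map_mul' r s := by
    change (r * s) • (1 : A.Sec U) = A.mulS (r • (1 : A.Sec U)) (s • (1 : A.Sec U))
    rw [smul_mulS]
    change _ = r • ((1 : A.Sec U) * (s • (1 : A.Sec U)))
    rw [_root_.one_mul, mul_smul]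

lemma str_mul (U : X.Opens) (r : Γ(X, U)) (a : A.Sec U) : A.str U r * a = r • a := by
  change A.mulS (r • (1 : A.Sec U)) a = _
  rw [smul_mulS]
  change r • ((1 : A.Sec U) * a) = _
  rw [_root_.one_mul]

/-- The sections form an algebra over the functions. -/
abbrev algebraSec (U : X.Opens) : Algebra Γ(X, U) (A.Sec U) :=
  Algebra.ofModule (fun r a b => A.smul_mulS r a b)
    (fun r a b => (A.mulS_comm a (r • (show Γ(E, U) from b))).trans
      ((A.smul_mulS r b a).trans (congrArg (r • ·) (A.mulS_comm b a))))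

/-- Restriction. -/
def resR {V U : X.Opens} (h : V ≤ U) : A.Sec U →+* A.Sec V where
  toFun a := res E h a
  map_one' := res_res E h le_top A.one
  map_zero' := map_zero (res E h)
  map_add' := map_add (res E h)
  map_mul' a b := by
    change res E h (A.μ.app U (TMul.tm (show Γ(E, U) from a) (show Γ(E, U) from b))) =
      A.μ.app V (TMul.tm (res E h a) (res E h b))
    rw [app_res, TMul.res_tm]

lemma resR_str {V U : X.Opens} (h : V ≤ U) (r : Γ(X, U)) : A.resR h (A.str U r) = A.str V (resO X h r) := by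
  change res E h (r • (show Γ(E, U) from (1 : A.Sec U))) = resO X h r • (show Γ(E, V) from (1 : A.Sec V))
  rw [res_smul]
  exact congrArg (resO X h r • ·) (res_res E h le_top A.one)

/-- The presheaf of rings on affine opens. -/
def diag : X.AffineZariskiSiteᵒᵖ ⥤ CommRingCat.{u} where
  obj U := CommRingCat.of (A.Sec U.unop.1)
  map {U V} i := CommRingCat.ofHom (A.resR (AffineZariskiSite.toOpens_mono (leOfHom i.unop)))
  map_id U := by ext a; exact res_self E _ _
  map_comp {U V W} i j := by ext a; exact (res_res E _ _ _).symm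

/-- The structure map on affine opens. -/
def diagMap : (toOpensFunctor X).op ⋙ X.presheaf ⟶ A.diag where
  app U := CommRingCat.ofHom (A.str U.unop.1)
  naturality U V i := by
    ext r
    exact (A.resR_str _ r).symm

lemma coequifibered (hE : Coh.IsQCoh E) : A.diagMap.Coequifibered := by
  refine coequifibered_iff_forall_isLocalizationAway.mpr fun U r => ?_
  haveI : E.IsQuasicoherent := hE
  have hloc := isLoc_of_isQCoh (M := E) U.2
  set ρ : A.Sec U.1 →+* A.Sec (X.basicOpen r) := A.resR (X.basicOpen_le r) with hρ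
  letI : Algebra (A.Sec U.1) (A.Sec (X.basicOpen r)) := ρ.toAlgebra
  change IsLocalization.Away (A.str U.1 r) (A.Sec (X.basicOpen r))
  refine ⟨⟨?_, ?_, ?_⟩⟩
  · rintro ⟨_, n, rfl⟩
    show IsUnit (ρ (A.str U.1 r ^ n))
    rw [map_pow, A.resR_str]
    exact ((RingedSpace.isUnit_res_basicOpen _ r).map _).pow n
  · intro t
    obtain ⟨n, s, hs⟩ := hloc.exists_extend r t
    refine ⟨⟨s, ⟨A.str U.1 r ^ n, n, rfl⟩⟩, ?_⟩
    show t * ρ (A.str U.1 r ^ n) = ρ s
    rw [map_pow, A.resR_str, ← map_pow, mul_comm, A.str_mul]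
    exact hs.symm
  · intro x y hxy
    obtain ⟨n, hn⟩ := hloc.exists_pow_smul_eq_zero r (x - y : A.Sec U.1) (by
      show ρ (x - y) = 0
      rw [map_sub, sub_eq_zero]
      exact hxy)
    refine ⟨⟨A.str U.1 r ^ n, n, rfl⟩, ?_⟩
    show A.str U.1 r ^ n * x = A.str U.1 r ^ n * y
    rw [← sub_eq_zero, ← mul_sub, ← map_pow, A.str_mul]
    exact hn

variable (hE : Coh.IsQCoh E)

/-- The cover. -/
def spec : Scheme.{u} := SymAlg.glSpec (A.coequifibered hE)

/-- Its structure map. -/
def π : A.spec hE ⟶ X := SymAlg.glBase (A.coequifibered hE)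

instance : IsAffineHom (A.π hE) := SymAlg.isAffineHom_glBase _

/-- Its sections over an affine open. -/
def secIso (U : X.affineOpens) : Γ(A.spec hE, A.π hE ⁻¹ᵁ U.1) ≅ CommRingCat.of (A.Sec U.1) :=
  asIso (SymAlg.glObj (A.coequifibered hE) ⟨U.1, U.2⟩)

lemma app_secIso (U : X.affineOpens) :
    (A.π hE).app U.1 ≫ (A.secIso hE U).hom = CommRingCat.ofHom (A.str U.1) :=
  SymAlg.app_glObj (A.coequifibered hE) ⟨U.1, U.2⟩

lemma finite_str (hlf : FlatMod.IsFinLocFree E) (U : X.affineOpens) :
    (A.str U.1).Finite ∧ (A.str U.1).Flat ∧ (A.str U.1).FinitePresentation := by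
  letI : Algebra Γ(X, U.1) (A.Sec U.1) := A.algebraSec U.1
  have hstr : A.str U.1 = algebraMap Γ(X, U.1) (A.Sec U.1) := rfl
  let e : Γ(E, U.1) ≃ₗ[Γ(X, U.1)] A.Sec U.1 :=
    { toFun := fun a => a
      invFun := fun a => a
      left_inv := fun _ => rfl
      right_inv := fun _ => rfl
      map_add' := fun _ _ => rfl
      map_smul' := fun _ _ => rfl }
  haveI := LocFree.finitePresentation_sections hlf U.2
  haveI := LocFree.projective_sections hlf U.2
  haveI : Module.FinitePresentation Γ(X, U.1) (A.Sec U.1) := Module.FinitePresentation.of_equiv e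
  haveI : Module.Flat Γ(X, U.1) (A.Sec U.1) := Module.Flat.of_linearEquiv e.symm
  rw [hstr]
  refine ⟨RingHom.finite_algebraMap.mpr inferInstance, RingHom.flat_algebraMap_iff.mpr inferInstance, ?_⟩
  exact RingHom.finitePresentation_algebraMap.mpr inferInstance

lemma finite_app (hlf : FlatMod.IsFinLocFree E) (U : X.affineOpens) :
    ((A.π hE).app U.1).hom.Finite ∧ ((A.π hE).app U.1).hom.Flat ∧
      ((A.π hE).app U.1).hom.FinitePresentation := by
  have h := A.finite_str hlf U
  have heq : CommRingCat.ofHom (A.str U.1) ≫ (A.secIso hE U).inv = (A.π hE).app U.1 := by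
    rw [← A.app_secIso hE U, Category.assoc, Iso.hom_inv_id, Category.comp_id]
  rw [← heq]
  refine ⟨?_, ?_, ?_⟩
  · exact (RingHom.finite_respectsIso.cancel_right_isIso _ _).mpr h.1
  · exact (RingHom.Flat.respectsIso.cancel_right_isIso _ _).mpr h.2.1
  · exact (RingHom.finitePresentation_respectsIso.cancel_right_isIso _ _).mpr h.2.2

lemma of_app {Y T : Scheme.{u}} (f : T ⟶ Y) [IsAffineHom f] {P : MorphismProperty Scheme.{u}}
    {Q : ∀ {R S : Type u} [CommRing R] [CommRing S], (R →+* S) → Prop}
    [HasRingHomProperty P Q] (hQ : RingHom.RespectsIso Q)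
    (h : ∀ U : Y.affineOpens, Q (f.app U.1).hom) : P f := by
  haveI : IsZariskiLocalAtTarget P := inferInstance
  refine (IsZariskiLocalAtTarget.iff_of_iSup_eq_top (P := P) (fun U : Y.affineOpens => U.1)
    (iSup_affineOpens_eq_top Y)).mpr fun U => ?_
  haveI : IsAffine U.1.toScheme := U.2
  haveI : IsAffine (f ⁻¹ᵁ U.1).toScheme := U.2.preimage f
  rw [HasRingHomProperty.iff_of_isAffine (P := P), morphismRestrict_appTop]
  refine (hQ.cancel_right_isIso _ _).mpr ?_
  have hU : U.1.ι ''ᵁ ⊤ = U.1 := U.1.ι_image_top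
  rw [hU]
  exact h U

theorem finite_flat (hlf : FlatMod.IsFinLocFree E) :
    IsFinite (A.π hE) ∧ Flat (A.π hE) ∧ LocallyOfFinitePresentation (A.π hE) :=
  ⟨⟨fun U hU => (A.finite_app hE hlf ⟨U, hU⟩).1⟩,
    of_app (P := @Flat) (A.π hE) RingHom.Flat.respectsIso fun U => (A.finite_app hE hlf U).2.1,
    of_app (P := @LocallyOfFinitePresentation) (A.π hE) RingHom.finitePresentation_respectsIso
      fun U => (A.finite_app hE hlf U).2.2⟩

end AlgData

end Groth.Agent.LefEssSurj
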