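import Groth.Agent.LefEssSurj.PurStep
import Groth.Agent.S0247

/-!
Purity for complete intersections of dimension at least three.
-/

universe u

open CategoryTheory CategoryTheory.Limits AlgebraicGeometry TopologicalSpace Opposite
open Groth.Agent.FormAlg IsLocalRing RingTheory.Sequence

set_option autoImplicit false
set_option maxHeartbeats 1000000
set_option backward.isDefEq.respectTransparency false
set_option backward.isDefEq.respectTransparency.types false
set_option linter.style.haveILetI false

noncomputable section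

namespace Groth.Agent.LefEssSurj

/-- Localisations of complete intersections at primes of coheight one. -/
theorem ci_localization {R B : Type u} [CommRing R] [IsRegularLocalRing R] [CommRing B] [IsNoetherianRing B]
    [IsLocalRing B] (p : R →+* B) (hp : Function.Surjective p) (l : List R) (hlreg : IsRegular R l)
    (hker : RingHom.ker p = Ideal.ofList l) (q : Ideal B) [q.IsPrime] (hq : ringKrullDim (B ⧸ q) = 1) :
    ∃ (R' : Type u) (_ : CommRing R') (_ : IsRegularLocalRing R') (φ : R' →+* Localization.AtPrime q)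
      (l' : List R'), Function.Surjective φ ∧ l'.length = l.length ∧ IsRegular R' l' ∧
        RingHom.ker φ = Ideal.ofList l' ∧ ringKrullDim (Localization.AtPrime q) + 1 = ringKrullDim B := by
  let q' := q.comap p
  haveI : IsRegularRing R := SerreReg.isRegularRing_of_isRegularLocalRing R
  haveI : IsRegularLocalRing (Localization.AtPrime q') := IsRegularRing.isRegularLocalRing_localization _
  haveI : Module.Flat R (Localization.AtPrime q') := IsLocalization.flat _ q'.primeCompl
  let φ := Localization.localRingHom q' q p rfl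
  have hφ : Function.Surjective φ := fun y => by
    obtain ⟨⟨a, s⟩, rfl⟩ := IsLocalization.mk'_surjective q.primeCompl y
    obtain ⟨a, rfl⟩ := hp a
    obtain ⟨t', ht⟩ := hp (s : B)
    refine ⟨IsLocalization.mk' _ a (⟨t', show p t' ∉ q from ht ▸ s.2⟩ : q'.primeCompl), ?_⟩
    rw [Localization.localRingHom_mk']
    congr 1
    exact Subtype.ext ht
  have hkerφ : RingHom.ker φ = Ideal.ofList (l.map (algebraMap R (Localization.AtPrime q'))) := by
    rw [TorCI.ker_localRingHom p hp q, hker, Ideal.map_ofList]
  have hregφ : IsRegular (Localization.AtPrime q') (l.map (algebraMap R (Localization.AtPrime q'))) :=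
    (IsLocalRing.isRegular_iff_isWeaklyRegular_of_subset_maximalIdeal fun x hx =>
      le_maximalIdeal (RingHom.ker_ne_top φ) (hkerφ.ge (Ideal.subset_span hx))).2
      hlreg.toIsWeaklyRegular.of_flat
  haveI : IsNoetherianRing (Localization.AtPrime q) := IsLocalization.isNoetherianRing q.primeCompl _ inferInstance
  refine ⟨Localization.AtPrime q', inferInstance, inferInstance, φ, _, hφ, List.length_map _, hregφ, hkerφ, ?_⟩
  have h1 := (ci_facts φ hφ _ hregφ hkerφ).1
  rw [List.length_map, IsLocalization.AtPrime.ringKrullDim_eq_height q' (Localization.AtPrime q')] at h1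
  have h2 : ringKrullDim (R ⧸ q') = 1 := by
    rw [ringKrullDim_eq_of_ringEquiv ((RingHom.quotientKerEquivOfSurjective (f := (Ideal.Quotient.mk q).comp p)
      (Ideal.Quotient.mk_surjective.comp hp)).symm.trans (Ideal.quotEquivOfEq (by rw [← RingHom.comap_ker, Ideal.mk_ker]))).symm]
    exact hq
  haveI hR := CMFlat.isCohenMacaulayLocalRing_of_isRegularLocalRing R
  have h3 := CMChain.height_add_dim (A := R) (M := R) hR.supportDim_eq_depth (by rw [Module.support_eq_zeroLocus, Module.annihilator_eq_bot.2 inferInstance]; simp)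
    (⟨q', inferInstance⟩ : PrimeSpectrum R)
  change ringKrullDim (R ⧸ q') + _ = _ at h3
  have h4 := (ci_facts p hp l hlreg hker).1
  obtain ⟨a, ha⟩ := GrpAct.exists_nat_ringKrullDim (Localization.AtPrime q)
  obtain ⟨b, hb⟩ := GrpAct.exists_nat_ringKrullDim R
  obtain ⟨d, hd⟩ := GrpAct.exists_nat_ringKrullDim B
  rw [ha] at h1
  rw [h2, ← h1, hb] at h3
  rw [hd, hb] at h4
  rw [ha, hd]
  norm_cast at h3 h4 ⊢
  omega

/-- The inductive statement. -/
def CIPurProp (c : ℕ) : Prop :=
  ∀ (R : Type u) [CommRing R] [IsRegularLocalRing R] (A : Type u) [CommRing A] [IsNoetherianRing A] [IsLocalRing A]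
    (π : R →+* A), Function.Surjective π → ∀ rs : List R, rs.length = c → IsRegular R rs →
      RingHom.ker π = Ideal.ofList rs → (3 : WithBot ℕ∞) ≤ ringKrullDim A → FEt.PurityHolds A

theorem three_le_depth {R A : Type u} [CommRing R] [IsRegularLocalRing R] [CommRing A] [IsNoetherianRing A]
    [IsLocalRing A] (π : R →+* A) (hπ : Function.Surjective π) (rs : List R) (hreg : IsRegular R rs)
    (hker : RingHom.ker π = Ideal.ofList rs) (hdim : (3 : WithBot ℕ∞) ≤ ringKrullDim A) :
    (3 : ℕ∞) ≤ LocCoh.depth A A := by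
  rw [(ci_facts π hπ rs hreg hker).2] at hdim
  exact WithBot.coe_le_coe.1 hdim

theorem purity_step (c : ℕ) (ih : CIPurProp.{u} c) (R : Type u) [CommRing R] [IsRegularLocalRing R]
    [IsAdicComplete (maximalIdeal R) R] (l : List R) (t : R) (hl : l.length = c) (hreg : IsRegular R (l ++ [t]))
    [IsLocalRing (R ⧸ Ideal.ofList l)] [IsLocalRing ((R ⧸ Ideal.ofList l) ⧸ Ideal.span {Ideal.Quotient.mk (Ideal.ofList l) t})]
    (hdim : (3 : WithBot ℕ∞) ≤ ringKrullDim ((R ⧸ Ideal.ofList l) ⧸ Ideal.span {Ideal.Quotient.mk (Ideal.ofList l) t})) :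
    FEt.PurityHolds ((R ⧸ Ideal.ofList l) ⧸ Ideal.span {Ideal.Quotient.mk (Ideal.ofList l) t}) := by
  let B := R ⧸ Ideal.ofList l
  let p := Ideal.Quotient.mk (Ideal.ofList l)
  have hp : Function.Surjective p := Ideal.Quotient.mk_surjective
  let f : B := p t
  let A := B ⧸ Ideal.span {f}
  have hwreg := hreg.toIsWeaklyRegular
  rw [isWeaklyRegular_append_iff] at hwreg
  have hmem : ∀ x ∈ l ++ [t], x ∈ maximalIdeal R := fun x hx =>
    le_maximalIdeal (J := Ideal.ofList (l ++ [t])) (fun e => hreg.top_ne_smul (by rw [e, Submodule.top_smul])) (Ideal.subset_span hx)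
  have hlreg : IsRegular R l := (IsLocalRing.isRegular_iff_isWeaklyRegular_of_subset_maximalIdeal fun x hx =>
    hmem x (List.mem_append_left _ hx)).2 hwreg.1
  have hnzd : f ∈ nonZeroDivisors B := by
    have h := (isWeaklyRegular_singleton_iff _ t).1 hwreg.2
    refine mem_nonZeroDivisors_iff_right.2 fun b hb => ?_
    obtain ⟨b, rfl⟩ := hp b
    rw [← map_mul, Ideal.Quotient.eq_zero_iff_mem] at hb
    have hJ : Ideal.ofList l • (⊤ : Submodule R R) = Ideal.ofList l := by rw [smul_eq_mul, Ideal.mul_top]
    have h0 : t • (Submodule.Quotient.mk b : R ⧸ Ideal.ofList l • (⊤ : Submodule R R)) = t • 0 := by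
      rw [smul_zero, ← Submodule.Quotient.mk_smul, Submodule.Quotient.mk_eq_zero, hJ, smul_eq_mul, mul_comm]
      exact hb
    have h1 := h h0
    rw [Submodule.Quotient.mk_eq_zero, hJ] at h1
    exact Ideal.Quotient.eq_zero_iff_mem.2 h1
  have hf : f ∈ maximalIdeal B := by
    rw [← IsLocalRing.map_maximalIdeal_of_surjective p hp]
    exact Ideal.mem_map_of_mem p (hmem t (List.mem_append_right _ (List.mem_singleton_self t)))
  haveI : IsAdicComplete (maximalIdeal B) B := EGA41FS.isAdicComplete_quotient _
  haveI : IsAdicComplete (Ideal.span {f}) B := EGA41Cohen.isAdicComplete_ideal _ fun e =>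
    (maximalIdeal.isMaximal B).ne_top (top_le_iff.1 (e ▸ (Ideal.span_singleton_le_iff_mem _).2 hf))
  have hpA : RingHom.ker ((Ideal.Quotient.mk (Ideal.span {f})).comp p) = Ideal.ofList (l ++ [t]) := by
    rw [← RingHom.comap_ker, Ideal.mk_ker, show Ideal.span {f} = (Ideal.span {t}).map p by rw [Ideal.map_span, Set.image_singleton],
      Ideal.comap_map_of_surjective p hp, ← RingHom.ker_eq_comap_bot, Ideal.mk_ker, Ideal.ofList_append, sup_comm]
    simp
  have hdA : (3 : ℕ∞) ≤ LocCoh.depth A A :=
    three_le_depth ((Ideal.Quotient.mk (Ideal.span {f})).comp p) (Ideal.Quotient.mk_surjective.comp hp) _ hreg hpA hdim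
  have hH : ∀ i < 3, Subsingleton (LocCoh.H (maximalIdeal B) i A) := by
    refine (LocH.le_idealDepth_iff (maximalIdeal B) A 3).1 ?_
    exact hdA.trans_eq (FlatDepth.depth_quotient_ring (Ideal.span {f}) A)
  haveI := hH 1 (by norm_num)
  haveI := hH 2 (by norm_num)
  have hdimB : (4 : WithBot ℕ∞) ≤ ringKrullDim B := by
    have h4 := (ci_facts ((Ideal.Quotient.mk (Ideal.span {f})).comp p) (Ideal.Quotient.mk_surjective.comp hp) _ hreg hpA).1
    have h5 := (ci_facts p hp l hlreg Ideal.mk_ker).1
    rw [List.length_append, List.length_singleton] at h4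
    obtain ⟨b, hb⟩ := GrpAct.exists_nat_ringKrullDim R
    obtain ⟨d, hd⟩ := GrpAct.exists_nat_ringKrullDim A
    obtain ⟨e, he⟩ := GrpAct.exists_nat_ringKrullDim B
    rw [hd, hb] at h4
    rw [he, hb] at h5
    rw [hd] at hdim
    rw [he]
    norm_cast at h4 h5 hdim ⊢
    omega
  have hloc : ∀ (q : Ideal B) [q.IsPrime], ringKrullDim (B ⧸ q) = 1 →
      (2 : ℕ∞) ≤ LocCoh.depth (Localization.AtPrime q) (Localization.AtPrime q) ∧
        FEt.PurityHolds (Localization.AtPrime q) := by
    intro q _ hq
    obtain ⟨R', _, _, φ, l', hφ, hlen, hregφ, hkerφ, hdq⟩ := ci_localization p hp l hlreg Ideal.mk_ker q hq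
    haveI : IsNoetherianRing (Localization.AtPrime q) := IsLocalization.isNoetherianRing q.primeCompl _ inferInstance
    have h3 : (3 : WithBot ℕ∞) ≤ ringKrullDim (Localization.AtPrime q) := by
      obtain ⟨a, ha⟩ := GrpAct.exists_nat_ringKrullDim (Localization.AtPrime q)
      obtain ⟨e, he⟩ := GrpAct.exists_nat_ringKrullDim B
      rw [ha, he] at hdq
      rw [he] at hdimB
      rw [ha]
      norm_cast at hdq hdimB ⊢
      omega
    exact ⟨le_trans (by norm_num) (three_le_depth φ hφ l' hregφ hkerφ h3),
      ih R' (Localization.AtPrime q) φ hφ l' (hlen.trans hl) hregφ hkerφ h3⟩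
  haveI : IsRegularRing R := SerreReg.isRegularRing_of_isRegularLocalRing R
  exact purityHolds_quotient hf
    (leffCond_punctured p hp hf hnzd (fun q hq => (hloc q.asIdeal hq).1) Module.Finite.of_finite Module.Finite.of_finite)
    (fun q _ _ _ hq => (hloc q hq).2)
    (ih R B p hp l hl hlreg Ideal.mk_ker (le_trans (by norm_num) hdimB))

theorem ciPurProp : ∀ c, CIPurProp.{u} c := by
  intro c
  induction c with
  | zero =>
    intro R _ _ A _ _ _ π hπ rs hlen hreg hker hdim
    obtain rfl := List.length_eq_zero_iff.1 hlen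
    haveI : IsRegularLocalRing A := IsRegularLocalRing.of_ringEquiv (RingEquiv.ofBijective π
      ⟨(RingHom.injective_iff_ker_eq_bot π).2 (by rw [hker]; simp), hπ⟩)
    exact S0247.result A (le_trans (by norm_num) hdim)
  | succ c ih =>
    intro R _ _ A _ _ _ π hπ rs hlen hreg hker hdim
    let R' := AdicCompletion (maximalIdeal R) R
    let A' := AdicCompletion (maximalIdeal A) A
    suffices h : FEt.PurityHolds A' by
      refine purityHolds_of_flat (algebraMap A A') (RingHom.flat_algebraMap_iff.2 inferInstance) ?_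
        (le_trans (by norm_num) (three_le_depth π hπ rs hreg hker hdim)) h
      rw [AdicCompletion.maximalIdeal_eq_map]; exact Ideal.le_radical
    obtain ⟨ψ, hψ, -, hkerψ⟩ := FlatDepth.exists_cpl_quotient π hπ
    haveI : IsRegularLocalRing R' := (AdicBasics.isRegularLocalRing_completion_iff R).1 inferInstance
    let rs' := rs.map (algebraMap R R')
    have hker' : RingHom.ker ψ = Ideal.ofList rs' := by rw [hkerψ, hker, Ideal.map_ofList]
    have hreg' : IsRegular R' rs' := (IsLocalRing.isRegular_iff_isWeaklyRegular_of_subset_maximalIdeal fun x hx =>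
      le_maximalIdeal (RingHom.ker_ne_top ψ) (hker'.ge (Ideal.subset_span hx))).2 hreg.toIsWeaklyRegular.of_flat
    have hdim' : (3 : WithBot ℕ∞) ≤ ringKrullDim A' := by rw [AdicBasics.ringKrullDim_completion]; exact hdim
    obtain ⟨l, t, hlt⟩ : ∃ l t, rs' = l ++ [t] := by
      have hne : rs' ≠ [] := fun e => by simp [rs', List.map_eq_nil_iff] at e; simp [e] at hlen
      exact ⟨_, _, (List.dropLast_append_getLast hne).symm⟩
    have hl : l.length = c := by
      have h := congrArg List.length hlt
      rw [List.length_map, hlen, List.length_append, List.length_singleton] at h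
      omega
    rw [hlt] at hker' hreg'
    let p := Ideal.Quotient.mk (Ideal.ofList l)
    have htop : Ideal.ofList l ≠ ⊤ := fun e => RingHom.ker_ne_top ψ (by
      rw [hker', Ideal.ofList_append, e, top_sup_eq])
    haveI : Nontrivial (R' ⧸ Ideal.ofList l) := Ideal.Quotient.nontrivial_iff.2 htop
    haveI : IsLocalRing (R' ⧸ Ideal.ofList l) := .of_surjective' p Ideal.Quotient.mk_surjective
    have hkp : RingHom.ker ((Ideal.Quotient.mk (Ideal.span {p t})).comp p) = Ideal.ofList (l ++ [t]) := by
      rw [← RingHom.comap_ker, Ideal.mk_ker, show Ideal.span {p t} = (Ideal.span {t}).map p by rw [Ideal.map_span, Set.image_singleton],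
        Ideal.comap_map_of_surjective p Ideal.Quotient.mk_surjective, ← RingHom.ker_eq_comap_bot, Ideal.mk_ker, Ideal.ofList_append, sup_comm]
      simp
    let e : ((R' ⧸ Ideal.ofList l) ⧸ Ideal.span {p t}) ≃+* A' :=
      (RingHom.quotientKerEquivOfSurjective (f := (Ideal.Quotient.mk (Ideal.span {p t})).comp p)
        (Ideal.Quotient.mk_surjective.comp Ideal.Quotient.mk_surjective)).symm.trans
        ((Ideal.quotEquivOfEq (hkp.trans hker'.symm)).trans (RingHom.quotientKerEquivOfSurjective hψ))
    haveI : IsLocalRing ((R' ⧸ Ideal.ofList l) ⧸ Ideal.span {p t}) := e.symm.isLocalRing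
    exact purityHolds_congr e.symm (purity_step c ih R' l t hl hreg'
      (by rw [ringKrullDim_eq_of_ringEquiv e]; exact hdim'))

/-- Purity for complete intersections of dimension at least three. -/
theorem purityHolds_ci (A : Type u) [CommRing A] [IsNoetherianRing A] [IsLocalRing A]
    (hci : Pi1.IsCompleteIntersection A) (hdim : (3 : WithBot ℕ∞) ≤ ringKrullDim A) : FEt.PurityHolds A := by
  let A' := AdicCompletion (maximalIdeal A) A
  obtain ⟨R, _, _, rs, -, hreg, ⟨e⟩⟩ := hci
  let π : R →+* A' := e.symm.toRingHom.comp (Ideal.Quotient.mk _)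
  have hπ : Function.Surjective π := e.symm.surjective.comp Ideal.Quotient.mk_surjective
  have hker : RingHom.ker π = Ideal.ofList rs := by
    rw [← RingHom.comap_ker, (RingHom.injective_iff_ker_eq_bot e.symm.toRingHom).1 e.symm.injective,
      ← RingHom.ker_eq_comap_bot, Ideal.mk_ker]
  have hdim' : (3 : WithBot ℕ∞) ≤ ringKrullDim A' := by rw [AdicBasics.ringKrullDim_completion]; exact hdim
  refine purityHolds_of_flat (algebraMap A A') (RingHom.flat_algebraMap_iff.2 inferInstance)
    (by rw [AdicCompletion.maximalIdeal_eq_map]; exact Ideal.le_radical) ?_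
    (ciPurProp rs.length R A' π hπ rs rfl hreg hker hdim')
  rw [← S5810.result A A]
  exact le_trans (by norm_num) (three_le_depth π hπ rs hreg hker hdim')

end Groth.Agent.LefEssSurj
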