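import Groth.Agent.LefEssSurj.AlgKill
import Groth.Agent.LefEssSurj.AlgFiniteNhd
import Groth.Agent.LefConn.Basic

/-!
Clopen subsets of the part over `t = 0` of a finite étale cover of a neighbourhood of `t = 0` spread out to a
neighbourhood when the formal functions of the cover are finite.
-/

universe u

open CategoryTheory CategoryTheory.Limits AlgebraicGeometry TopologicalSpace Opposite
open Groth.Agent.FormAlg Groth.Agent.QC Groth.Agent.LefFEt

set_option autoImplicit false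
set_option maxHeartbeats 1000000
set_option backward.isDefEq.respectTransparency false
set_option backward.isDefEq.respectTransparency.types false
set_option linter.style.haveILetI false

noncomputable section

namespace Groth.Agent.LefEssSurj

/-- The points of `t = 0`. -/
theorem mem_support_of_mem {A : Type u} [CommRing A] (U : (Spec (CommRingCat.of A)).Opens) (t : A)
    (y : (↑U : Scheme.{u})) (hy : t ∈ (show PrimeSpectrum A from U.ι y).asIdeal) :
    y ∈ ((divisorIdeal U t).support : Set (↑U : Scheme.{u})) := by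
  rw [divisorIdeal, Scheme.IdealSheafData.support_comap, TopologicalSpace.Closeds.coe_preimage, Set.mem_preimage,
    Scheme.Hom.support_ker]
  refine subset_closure ?_
  show U.ι y ∈ Set.range (PrimeSpectrum.comap (Ideal.Quotient.mk (Ideal.span {t})))
  rw [range_comap_of_surjective _ _ Ideal.Quotient.mk_surjective, Ideal.mk_ker,
    PrimeSpectrum.mem_zeroLocus, SetLike.coe_subset_coe, Ideal.span_singleton_le_iff_mem]
  exact hy

/-- A submodule is everything near a prime containing `t` when it is so modulo `t`. -/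
theorem exists_smul_mem {A : Type u} [CommRing A] {L : Type u} [AddCommGroup L] [Module A L] [Module.Finite A L]
    {p : PrimeSpectrum A} {a t : A} (htp : t ∈ p.asIdeal) (hpa : a ∉ p.asIdeal) (M : Submodule A L)
    (hstep : ∀ w : L, ∃ (k : ℕ) (m : M) (v : L), a ^ k • w = m + t • v) :
    ∃ b ∉ p.asIdeal, ∀ e : L, b • e ∈ M := by
  classical
  obtain ⟨s, hs⟩ := Module.Finite.fg_top (R := A) (M := L)
  choose k m v hv using hstep
  let k₀ := ∑ w ∈ s, k w
  let φ : (L ⧸ M) →ₗ[A] (L ⧸ M) := a ^ k₀ • LinearMap.id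
  have hφ : LinearMap.range φ ≤ Ideal.span {t} • ⊤ := by
    rintro _ ⟨y, rfl⟩
    obtain ⟨w, rfl⟩ := M.mkQ_surjective y
    have hw : w ∈ Submodule.span A (s : Set L) := hs ▸ Submodule.mem_top
    induction hw using Submodule.span_induction with
    | mem w hw =>
      obtain ⟨d, hd⟩ := Nat.exists_eq_add_of_le' (Finset.single_le_sum (f := k) (fun _ _ => Nat.zero_le _) hw)
      show a ^ k₀ • M.mkQ w ∈ _
      rw [show k₀ = _ from hd, pow_add, mul_smul, ← map_smul M.mkQ (a ^ k w), hv, map_add, map_smul,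
        show M.mkQ ((m w : M) : L) = 0 from (Submodule.Quotient.mk_eq_zero M).2 (m w).2, zero_add]
      exact Submodule.smul_mem _ _ (Submodule.smul_mem_smul (Ideal.mem_span_singleton_self t) Submodule.mem_top)
    | zero => rw [map_zero, map_zero]; exact zero_mem _
    | add _ _ _ _ h1 h2 => rw [map_add, map_add]; exact add_mem h1 h2
    | smul r _ _ h => rw [map_smul, map_smul]; exact Submodule.smul_mem _ _ h
  obtain ⟨P, hP, -, hPc, hP0⟩ :=
    LinearMap.exists_monic_and_natDegree_eq_and_coeff_mem_pow_and_aeval_eq_zero A φ (Ideal.span {t}) hφ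
  refine ⟨P.eval (a ^ k₀), fun h => hpa (p.isPrime.mem_of_pow_mem k₀ (p.isPrime.mem_of_pow_mem
    P.natDegree ?_)), fun e => ?_⟩
  · have h' : ∑ i ∈ Finset.range P.natDegree, P.coeff i * (a ^ k₀) ^ i ∈ p.asIdeal :=
      sum_mem fun i hi => Ideal.mul_mem_right _ _ ((Ideal.span_singleton_le_iff_mem _).2 htp
        (Ideal.pow_le_self (Nat.sub_ne_zero_of_lt (Finset.mem_range.1 hi)) (hPc i)))
    rw [Polynomial.eval_eq_sum_range, Finset.sum_range_succ, hP.coeff_natDegree, one_mul] at h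
    exact (Submodule.add_mem_iff_right _ h').1 h
  have h := LinearMap.congr_fun hP0 (M.mkQ e)
  rw [show φ = algebraMap A (Module.End A (L ⧸ M)) (a ^ k₀) from rfl, Polynomial.aeval_algebraMap_apply,
    Polynomial.coe_aeval_eq_eval] at h
  exact (Submodule.Quotient.mk_eq_zero M).1 h

/-- Clopen subsets of the part over `f = 0` of finite étale covers of neighbourhoods of `f = 0` in an open subset
`U` of `Spec A` spread out to a neighbourhood. -/
def ClopenGerm {A : Type u} [CommRing A] (U : (Spec (CommRingCat.of A)).Opens) (f : A) : Prop :=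
  ∀ (U' : (Spec (CommRingCat.of A)).Opens), U' ≤ U → (∀ p ∈ U, f ∈ p.asIdeal → p ∈ U') →
    ∀ (Z : Scheme.{u}) (π : Z ⟶ (↑U' : Scheme.{u})), IsFinite π → Etale π → ∀ C D : Set Z,
      IsClosed C → IsClosed D → Disjoint C D → (∀ z, z ∈ C ∪ D ↔ f ∈ ((π ≫ U'.ι) z).asIdeal) →
      ∃ U₂ : (Spec (CommRingCat.of A)).Opens, (∀ p ∈ U, f ∈ p.asIdeal → p ∈ U₂) ∧
        ∃ W K : Set Z, IsClosed W ∧ IsClosed K ∧ C ⊆ W ∧ D ⊆ K ∧
          ∀ z : Z, (π ≫ U'.ι) z ∈ U₂ → (z ∈ W ↔ z ∉ K)

namespace ClopenGermAux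

variable {A : Type u} [CommRing A] {U : (Spec (CommRingCat.of A)).Opens} {t : A}
  {U' : (Spec (CommRingCat.of A)).Opens} (hU' : U' ≤ U) (hY : ∀ p ∈ U, t ∈ p.asIdeal → p ∈ U')
  {Z : Scheme.{u}} (π : Z ⟶ (↑U' : Scheme.{u}))

/-- The cover over the ambient open subscheme. -/
abbrev qq : Z ⟶ (↑U : Scheme.{u}) := π ≫ (Spec (CommRingCat.of A)).homOfLE hU'

theorem qq_ι : qq hU' π ≫ U.ι = π ≫ U'.ι := by
  rw [qq, Category.assoc, Scheme.homOfLE_ι]

include hY in
theorem isPullback_level (n : ℕ) : ∃ c, IsPullback (pullback.fst (qq hU' π) (FSch.completionToX (↑U : Scheme.{u}) (divisorIdeal U t) n))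
    (pullback.snd (qq hU' π) (FSch.completionToX (↑U : Scheme.{u}) (divisorIdeal U t) n)) π c := by
  have hr : Set.range (FSch.completionToX (↑U : Scheme.{u}) (divisorIdeal U t) n) ⊆ Set.range ((Spec (CommRingCat.of A)).homOfLE hU') := by
    rw [show Set.range (FSch.completionToX (↑U : Scheme.{u}) (divisorIdeal U t) n) = _ from Scheme.IdealSheafData.range_subschemeι _]
    intro x hx
    have ht : t ∈ (U.ι x).asIdeal := mem_of_mem_support U t x (by
      rwa [show ((divisorIdeal U t) ^ (n + 1)).support = _ from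
        Scheme.IdealSheafData.support_pow _ _ (Nat.succ_ne_zero n)] at hx)
    refine ⟨⟨U.ι x, hY _ x.2 ht⟩, U.ι.isOpenEmbedding.injective ?_⟩
    rw [← Scheme.Hom.comp_apply, Scheme.homOfLE_ι]
    rfl
  let c := IsOpenImmersion.lift ((Spec (CommRingCat.of A)).homOfLE hU') (FSch.completionToX (↑U : Scheme.{u}) (divisorIdeal U t) n) hr
  have hc : c ≫ (Spec (CommRingCat.of A)).homOfLE hU' = FSch.completionToX (↑U : Scheme.{u}) (divisorIdeal U t) n := IsOpenImmersion.lift_fac _ _ _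
  refine ⟨c, IsPullback.of_bot (v₂₁ := 𝟙 _) (v₂₂ := (Spec (CommRingCat.of A)).homOfLE hU') (h₃₁ := FSch.completionToX (↑U : Scheme.{u}) (divisorIdeal U t) n) ?_ ?_ ?_⟩
  · rw [Category.comp_id]
    exact IsPullback.of_hasPullback _ _
  · rw [← cancel_mono ((Spec (CommRingCat.of A)).homOfLE hU'), Category.assoc, Category.assoc, hc]
    exact pullback.condition
  · refine IsPullback.of_isLimit' ⟨by rw [hc, Category.id_comp]⟩ (PullbackCone.IsLimit.mk _ (fun s => s.snd)
      (fun s => ?_) (fun s => Category.comp_id _) fun s m _ hm => by rw [← hm, Category.comp_id])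
    rw [← cancel_mono ((Spec (CommRingCat.of A)).homOfLE hU'), Category.assoc, hc]
    exact s.condition.symm

/-- The system of the reductions of a cover. -/
def sysOf [IsFinite π] [Etale π] : EtSys (divisorIdeal U t) where
  T n := pullback (qq hU' π) (FSch.completionToX (↑U : Scheme.{u}) (divisorIdeal U t) n)
  p n := pullback.snd _ _
  i n := pullback.lift (pullback.fst _ _) (pullback.snd _ _ ≫ (FSch.Sys.ι (FSch.completionAlong (↑U : Scheme.{u}) (divisorIdeal U t)) n)) (by
    rw [pullback.condition, Category.assoc]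
    exact congrArg (pullback.snd (qq hU' π) (FSch.completionToX (↑U : Scheme.{u}) (divisorIdeal U t) n) ≫ ·) (Scheme.IdealSheafData.inclusion_subschemeι _).symm)
  fin n := MorphismProperty.of_isPullback (isPullback_level hU' hY π n).choose_spec inferInstance
  et n := MorphismProperty.of_isPullback (isPullback_level hU' hY π n).choose_spec inferInstance
  cart n := by
    refine IsPullback.of_right ?_ (pullback.lift_snd _ _ _) (IsPullback.of_hasPullback (qq hU' π) (FSch.completionToX (↑U : Scheme.{u}) (divisorIdeal U t) (n + 1)))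
    rw [pullback.lift_fst, show (FSch.Sys.ι (FSch.completionAlong (↑U : Scheme.{u}) (divisorIdeal U t)) n) ≫ FSch.completionToX (↑U : Scheme.{u}) (divisorIdeal U t) (n + 1) = FSch.completionToX (↑U : Scheme.{u}) (divisorIdeal U t) n from Scheme.IdealSheafData.inclusion_subschemeι _]
    exact IsPullback.of_hasPullback _ _

/-- The global functions of the base. -/
def strZ : A →+* Γ(Z, ⊤) := (qq hU' π).appTop.hom.comp
  (U.ι.appTop.hom.comp (Scheme.ΓSpecIso (CommRingCat.of A)).inv.hom)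

theorem basicOpen_strZ (a : A) :
    Z.basicOpen (strZ hU' π a) = (π ≫ U'.ι) ⁻¹ᵁ PrimeSpectrum.basicOpen a := by
  rw [← qq_ι hU' π, preimage_basicOpen_spec]
  refine congrArg _ ?_
  show (qq hU' π).appTop (U.ι.appTop _) = (qq hU' π ≫ U.ι).appTop _
  rw [Scheme.Hom.comp_appTop]
  rfl

theorem isUnit_germ_strZ (a : A) (z : Z) :
    IsUnit (Z.presheaf.germ ⊤ z trivial (strZ hU' π a)) ↔ a ∉ ((π ≫ U'.ι) z).asIdeal := by
  rw [← Scheme.mem_basicOpen_top, basicOpen_strZ hU' π]
  rfl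

theorem isAffineOpen_strZ [IsFinite π] (a : A) (ha : PrimeSpectrum.basicOpen a ≤ U') :
    IsAffineOpen (Z.basicOpen (strZ hU' π a)) := by
  rw [basicOpen_strZ hU' π, Scheme.Hom.comp_preimage]
  exact (EtSys.isAffineOpen_Ua a ha).preimage π

variable [IsFinite π] [Etale π]

/-- The reductions to the thickenings. -/
abbrev j (n : ℕ) : (sysOf hU' hY π).T n ⟶ Z := pullback.fst (qq hU' π) (FSch.completionToX (↑U : Scheme.{u}) (divisorIdeal U t) n)

theorem i_j (n : ℕ) : (sysOf hU' hY π).i n ≫ j hU' hY π (n + 1) = j hU' hY π n := pullback.lift_fst _ _ _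

theorem j_strZ (n : ℕ) (a : A) : (j hU' hY π n).appTop (strZ hU' π a) = (sysOf hU' hY π).strA n a := by
  show (pullback.fst (qq hU' π) (FSch.completionToX (↑U : Scheme.{u}) (divisorIdeal U t) n)).appTop ((qq hU' π).appTop (U.ι.appTop _)) =
    (pullback.snd (qq hU' π) (FSch.completionToX (↑U : Scheme.{u}) (divisorIdeal U t) n) ≫ FSch.completionToX (↑U : Scheme.{u}) (divisorIdeal U t) n).appTop (U.ι.appTop _)
  rw [← pullback.condition (f := qq hU' π) (g := FSch.completionToX (↑U : Scheme.{u}) (divisorIdeal U t) n), Scheme.Hom.comp_appTop]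
  rfl

theorem exists_eq_j (n : ℕ) (z : Z) (hz : t ∈ ((π ≫ U'.ι) z).asIdeal) : ∃ w, j hU' hY π n w = z := by
  have h : qq hU' π z ∈ Set.range (FSch.completionToX (↑U : Scheme.{u}) (divisorIdeal U t) n) := by
    rw [show Set.range (FSch.completionToX (↑U : Scheme.{u}) (divisorIdeal U t) n) = _ from Scheme.IdealSheafData.range_subschemeι _,
      show ((divisorIdeal U t) ^ (n + 1)).support = _ from
        Scheme.IdealSheafData.support_pow _ _ (Nat.succ_ne_zero n)]
    exact mem_support_of_mem U t _ (by rwa [← Scheme.Hom.comp_apply, qq_ι])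
  have : z ∈ Set.range (pullback.fst (qq hU' π) (FSch.completionToX (↑U : Scheme.{u}) (divisorIdeal U t) n)) := by
    rw [Scheme.Pullback.range_fst]
    exact h
  exact this

theorem mem_j (n : ℕ) (w : (sysOf hU' hY π).T n) : t ∈ ((π ≫ U'.ι) (j hU' hY π n w)).asIdeal := by
  rw [← qq_ι hU' π, ← Scheme.Hom.comp_apply, ← Category.assoc, pullback.condition, Category.assoc,
    Scheme.Hom.comp_apply, Scheme.Hom.comp_apply]
  refine mem_of_mem_support U t _ ?_
  have h : (FSch.completionToX (↑U : Scheme.{u}) (divisorIdeal U t) n) (pullback.snd (qq hU' π) (FSch.completionToX (↑U : Scheme.{u}) (divisorIdeal U t) n) w) ∈ Set.range (FSch.completionToX (↑U : Scheme.{u}) (divisorIdeal U t) n) := ⟨_, rfl⟩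
  rwa [show Set.range (FSch.completionToX (↑U : Scheme.{u}) (divisorIdeal U t) n) = _ from Scheme.IdealSheafData.range_subschemeι _,
    show ((divisorIdeal U t) ^ (n + 1)).support = _ from
      Scheme.IdealSheafData.support_pow _ _ (Nat.succ_ne_zero n)] at h

/-- Restriction to the formal functions. -/
def θ : Γ(Z, ⊤) →+* (sysOf hU' hY π).formalFun where
  toFun x := ⟨fun n => (j hU' hY π n).appTop x, fun n => by
    show ((sysOf hU' hY π).i n).appTop ((j hU' hY π (n + 1)).appTop x) = _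
    rw [← ConcreteCategory.comp_apply, ← Scheme.Hom.comp_appTop, i_j]⟩
  map_one' := Subtype.ext (funext fun n => map_one _)
  map_mul' x y := Subtype.ext (funext fun n => map_mul _ x y)
  map_zero' := Subtype.ext (funext fun n => map_zero _)
  map_add' x y := Subtype.ext (funext fun n => map_add _ x y)

theorem πL_θ (n : ℕ) (x : Γ(Z, ⊤)) : (sysOf hU' hY π).πL n (θ hU' hY π x) = (j hU' hY π n).appTop x := rfl

theorem θ_strZ_mul (a : A) (x : Γ(Z, ⊤)) : θ hU' hY π (strZ hU' π a * x) = a • θ hU' hY π x := by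
  refine Subtype.ext (funext fun n => ?_)
  show (sysOf hU' hY π).πL n (θ hU' hY π (strZ hU' π a * x)) = (sysOf hU' hY π).πL n (a • θ hU' hY π x)
  rw [(sysOf hU' hY π).πL_smul, πL_θ, πL_θ, map_mul, j_strZ]

/-- Functions with vanishing reductions vanish at the points over `t = 0`. -/
theorem germ_eq_zero [IsNoetherianRing A] {x : Γ(Z, ⊤)} (hx : θ hU' hY π x = 0) (z : Z)
    (hz : t ∈ ((π ≫ U'.ι) z).asIdeal) : Z.presheaf.germ ⊤ z trivial x = 0 := by
  haveI : IsLocallyNoetherian Z := LocallyOfFiniteType.isLocallyNoetherian (π ≫ U'.ι)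
  obtain ⟨a, hza, ha⟩ := LocH.exists_basicOpen_le (A := A) (U := U') (x := (π ≫ U'.ι) z) (π z).2
  let V : (↑U : Scheme.{u}).affineOpens :=
    ⟨U.ι ⁻¹ᵁ PrimeSpectrum.basicOpen a, EtSys.isAffineOpen_Ua a (ha.trans hU')⟩
  let W : Z.Opens := qq hU' π ⁻¹ᵁ V.1
  have hWb : W = Z.basicOpen (strZ hU' π a) := by
    rw [basicOpen_strZ hU' π, ← qq_ι hU' π]
    rfl
  have hW : IsAffineOpen W := hWb ▸ isAffineOpen_strZ hU' π a ha
  have hzW : z ∈ W := by
    show U.ι (qq hU' π z) ∈ PrimeSpectrum.basicOpen a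
    rw [← Scheme.Hom.comp_apply, qq_ι]
    exact hza
  let G : Z.presheaf.stalk z := Z.presheaf.germ ⊤ z trivial (strZ hU' π t)
  have hG : Z.presheaf.germ W z hzW ((qq hU' π).app V.1 (W7Cech.secRing A V.1 t)) = G := by
    have h1 : (qq hU' π).app V.1 (W7Cech.secRing A V.1 t) = resT Z W (strZ hU' π t) := app_resT _ _ _
    rw [h1]
    exact Z.presheaf.germ_res_apply (homOfLE le_top) z hzW _
  have hne : Ideal.span {G} ≠ ⊤ := fun h => (isUnit_germ_strZ hU' π t z).1 (Ideal.span_singleton_eq_top.1 h) hz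
  have key : ∀ n : ℕ, Z.presheaf.germ ⊤ z trivial x ∈ Ideal.span {G} ^ (n + 1) := fun n => by
    have hker : resT Z W x ∈ (pullback.fst (qq hU' π) (FSch.completionToX (↑U : Scheme.{u}) (divisorIdeal U t) n)).ker.ideal ⟨W, hW⟩ := by
      rw [Scheme.Hom.ker_apply, RingHom.mem_ker, app_resT,
        show (pullback.fst (qq hU' π) (FSch.completionToX (↑U : Scheme.{u}) (divisorIdeal U t) n)).appTop x = 0 from
          (πL_θ hU' hY π n x).symm.trans (by rw [hx, map_zero]), map_zero]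
    rw [Scheme.IdealSheafData.ker_fst_of_isClosedImmersion, FittLib.comap_ideal _ _ V.2 hW le_rfl,
      ker_completionToX (fun V => divisorIdeal_ideal U t V) n V, Ideal.map_span, Set.image_singleton,
      ← Scheme.Hom.app_eq_appLE, map_pow] at hker
    obtain ⟨w, hw⟩ := Ideal.mem_span_singleton.1 hker
    rw [Ideal.span_singleton_pow, Ideal.mem_span_singleton, ← hG]
    refine ⟨Z.presheaf.germ W z hzW w, ?_⟩
    rw [← Z.presheaf.germ_res_apply (homOfLE (le_top : W ≤ ⊤)) z hzW x, ← map_pow, ← map_mul]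
    exact congrArg _ hw
  have hall : Z.presheaf.germ ⊤ z trivial x ∈ ⨅ n : ℕ, Ideal.span {G} ^ n := by
    refine Submodule.mem_iInf _ |>.2 fun n => ?_
    exact Ideal.pow_le_pow_right (Nat.le_succ n) (key n)
  rwa [Ideal.iInf_pow_eq_bot_of_isLocalRing _ hne, Ideal.mem_bot] at hall

/-- Formal functions are restrictions of functions after multiplying by an element prime to a given point over
`t = 0`. -/
theorem exists_smul_eq_θ [IsNoetherianRing A] [Module.Finite A (sysOf hU' hY π).formalFun]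
    (hker : ∀ w : (sysOf hU' hY π).formalFun, (sysOf hU' hY π).πL 0 w = 0 → ∃ v, t • v = w)
    (p : Spec (CommRingCat.of A)) (hp : p ∈ U) (htp : t ∈ p.asIdeal) (e : (sysOf hU' hY π).formalFun) :
    ∃ (b : A) (x : Γ(Z, ⊤)), b ∉ p.asIdeal ∧ θ hU' hY π x = b • e := by
  classical
  obtain ⟨a, hpa, ha⟩ := LocH.exists_basicOpen_le (A := A) (U := U') (x := p) (hY p hp htp)
  haveI : NoetherianSpace (Spec (CommRingCat.of A)) := inferInstanceAs (NoetherianSpace (PrimeSpectrum A))
  haveI : QuasiCompact U'.ι := inferInstance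
  haveI : CompactSpace Z := QuasiCompact.compactSpace_of_compactSpace (π ≫ U'.ι)
  haveI : QuasiSeparatedSpace Z := quasiSeparatedSpace_of_quasiSeparated (π ≫ U'.ι)
  haveI := ((sysOf hU' hY π).noeth_T 0).1
  haveI := ((sysOf hU' hY π).noeth_T 0).2
  let M : Submodule A (sysOf hU' hY π).formalFun :=
    { carrier := Set.range (θ hU' hY π)
      add_mem' := by
        rintro _ _ ⟨x, rfl⟩ ⟨y, rfl⟩
        exact ⟨x + y, map_add _ x y⟩
      zero_mem' := ⟨0, map_zero _⟩
      smul_mem' := by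
        rintro b _ ⟨x, rfl⟩
        exact ⟨strZ hU' π b * x, θ_strZ_mul hU' hY π b x⟩ }
  have hstep : ∀ w : (sysOf hU' hY π).formalFun, ∃ (k : ℕ) (m : M) (v : (sysOf hU' hY π).formalFun), a ^ k • w = m + t • v := fun w => by
    obtain ⟨k, x, hx⟩ := exists_lift_closed (j hU' hY π 0) (strZ hU' π a) (isAffineOpen_strZ hU' π a ha)
      ((sysOf hU' hY π).πL 0 w)
    obtain ⟨v, hv⟩ := hker (a ^ k • w - θ hU' hY π x) (by
      rw [map_sub, (sysOf hU' hY π).πL_smul, πL_θ, hx, map_pow, j_strZ, sub_self])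
    exact ⟨k, ⟨_, x, rfl⟩, v, by rw [hv]; exact (add_sub_cancel _ _).symm⟩
  obtain ⟨b, hb, hbM⟩ := exists_smul_mem htp (fun h => hpa h) M hstep
  obtain ⟨x, hx⟩ := hbM e
  exact ⟨b, x, hb, hx⟩

end ClopenGermAux

open ClopenGermAux in
/-- Spreading out of clopen subsets from finiteness of the formal functions. -/
theorem clopenGerm_of_finite {A : Type u} [CommRing A] [IsNoetherianRing A]
    {U : (Spec (CommRingCat.of A)).Opens} {t : A}
    (hfin : ∀ S : EtSys (divisorIdeal U t), Module.Finite A S.formalFun ∧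
      ∀ w : S.formalFun, S.πL 0 w = 0 → ∃ v, t • v = w) : ClopenGerm U t := by
  classical
  intro U' hU' hY Z π _ _ C D hC hD hCD hcov
  obtain ⟨hF, hker⟩ := hfin (sysOf hU' hY π)
  haveI := hF
  -- the idempotent
  let V : ∀ n, ((sysOf hU' hY π).T n).Opens := fun n =>
    ⟨j hU' hY π n ⁻¹' Dᶜ, hD.isOpen_compl.preimage (j hU' hY π n).continuous⟩
  let W : ∀ n, ((sysOf hU' hY π).T n).Opens := fun n =>
    ⟨j hU' hY π n ⁻¹' Cᶜ, hC.isOpen_compl.preimage (j hU' hY π n).continuous⟩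
  have hd : ∀ n, Disjoint (V n) (W n) := fun n => disjoint_iff.mpr (Opens.ext (Set.eq_empty_iff_forall_notMem.2
    fun w ⟨h1, h2⟩ => ((hcov _).2 (mem_j hU' hY π n w)).elim h2 h1))
  have hc : ∀ n, ((V n : Set ((sysOf hU' hY π).T n)) ∪ W n) = Set.univ := fun n => Set.eq_univ_of_forall fun w => by
    by_cases h : j hU' hY π n w ∈ D
    · exact Or.inr fun h' => Set.disjoint_left.1 hCD h' h
    · exact Or.inl h
  choose e he1 he2 using fun n => LefConn.exists_idem (hd n) (hc n)
  let E : (sysOf hU' hY π).formalFun := ⟨e, fun n => by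
    refine LefConn.app_idem ((sysOf hU' hY π).i n) (Opens.ext (Set.ext fun w => ?_)) (Opens.ext (Set.ext fun w => ?_))
      (hc n) (he1 (n + 1)) (he2 (n + 1)) (he1 n) (he2 n)
    · show j hU' hY π (n + 1) _ ∈ Dᶜ ↔ _
      rw [← Scheme.Hom.comp_apply, i_j]
      rfl
    · show j hU' hY π (n + 1) _ ∈ Cᶜ ↔ _
      rw [← Scheme.Hom.comp_apply, i_j]
      rfl⟩
  have hEE : E * E = E := Subtype.ext (funext fun n =>
    show e n * e n = e n from
      LefConn.ext_two (hc n) (by rw [map_mul, he1, mul_one]) (by rw [map_mul, he2, mul_zero]))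
  -- its multiples which are restrictions of functions
  let I : Ideal A :=
    { carrier := {b | ∃ x, θ hU' hY π x = b • E}
      add_mem' := by
        rintro _ _ ⟨x, hx⟩ ⟨y, hy⟩
        exact ⟨x + y, by rw [map_add, hx, hy, add_smul]⟩
      zero_mem' := ⟨0, by rw [map_zero, zero_smul]⟩
      smul_mem' := by
        rintro c _ ⟨x, hx⟩
        exact ⟨strZ hU' π c * x, by rw [θ_strZ_mul, hx, smul_smul, smul_eq_mul]⟩ }
  obtain ⟨s, hs⟩ := IsNoetherian.noetherian I
  have hsI : ∀ b ∈ s, b ∈ I := fun b hb => hs ▸ Submodule.subset_span hb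
  choose! x hx using hsI
  let germ : ∀ z : Z, Γ(Z, ⊤) →+* Z.presheaf.stalk z := fun z => (Z.presheaf.germ ⊤ z trivial).hom
  let O : Set Z := {z | (∀ b ∈ s, germ z (x b * x b - strZ hU' π b * x b) = 0) ∧
    ∀ b ∈ s, ∀ c ∈ s, germ z (strZ hU' π c * x b - strZ hU' π b * x c) = 0}
  have hzero : ∀ y : Γ(Z, ⊤), IsOpen {z : Z | germ z y = 0} := fun y => isOpen_iff_forall_mem_open.2 fun z hz => by
    obtain ⟨W', hzW, i₁, i₂, hW'⟩ := TopCat.Presheaf.germ_eq Z.presheaf z (U := ⊤) (V := ⊤) trivial trivial y 0 (by rw [map_zero]; exact hz)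
    refine ⟨W', fun w hw => ?_, W'.2, hzW⟩
    show Z.presheaf.germ ⊤ w trivial y = 0
    rw [← Z.presheaf.germ_res_apply i₁ w hw y, hW', map_zero, map_zero]
  have hO : IsOpen O := by
    show IsOpen ({z : Z | ∀ b ∈ s, germ z (x b * x b - strZ hU' π b * x b) = 0} ∩
      {z : Z | ∀ b ∈ s, ∀ c ∈ s, germ z (strZ hU' π c * x b - strZ hU' π b * x c) = 0})
    refine IsOpen.inter ?_ ?_
    · rw [show {z : Z | ∀ b ∈ s, germ z (x b * x b - strZ hU' π b * x b) = 0} =
        ⋂ b ∈ s, {z | germ z (x b * x b - strZ hU' π b * x b) = 0} by ext; simp only [Set.mem_iInter, Set.mem_setOf_eq]]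
      exact isOpen_biInter_finset fun b _ => hzero _
    · rw [show {z : Z | ∀ b ∈ s, ∀ c ∈ s, germ z (strZ hU' π c * x b - strZ hU' π b * x c) = 0} =
        ⋂ b ∈ s, ⋂ c ∈ s, {z | germ z (strZ hU' π c * x b - strZ hU' π b * x c) = 0} by
        ext; simp only [Set.mem_iInter, Set.mem_setOf_eq]]
      exact isOpen_biInter_finset fun b _ => isOpen_biInter_finset fun c _ => hzero _
  have hbad : IsClosed (π '' Oᶜ) := π.isClosedMap _ hO.isClosed_compl
  refine ⟨(U'.ι ''ᵁ ⟨(π '' Oᶜ)ᶜ, hbad.isOpen_compl⟩) ⊓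
    ⟨⋃ b ∈ s, (PrimeSpectrum.basicOpen b : Set (PrimeSpectrum A)), isOpen_biUnion fun b _ => (PrimeSpectrum.basicOpen b).2⟩,
    fun p hp htp => ⟨⟨⟨p, hY p hp htp⟩, ?_, rfl⟩, ?_⟩,
    (⋃ b ∈ s, (Z.basicOpen (strZ hU' π b - x b) : Set Z))ᶜ, (⋃ b ∈ s, (Z.basicOpen (x b) : Set Z))ᶜ,
    (isOpen_biUnion fun b _ => (Z.basicOpen _).2).isClosed_compl,
    (isOpen_biUnion fun b _ => (Z.basicOpen _).2).isClosed_compl, ?_, ?_, ?_⟩
  · rintro ⟨z, hz, hzp⟩
    have hzt : t ∈ ((π ≫ U'.ι) z).asIdeal := by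
      rw [Scheme.Hom.comp_apply, hzp]
      exact htp
    refine hz ⟨fun b hb => germ_eq_zero hU' hY π ?_ z hzt, fun b hb c hc => germ_eq_zero hU' hY π ?_ z hzt⟩
    · rw [map_sub, map_mul, θ_strZ_mul, hx b hb, smul_mul_smul_comm, hEE, smul_smul, sub_self]
    · rw [map_sub, θ_strZ_mul, θ_strZ_mul, hx b hb, hx c hc, smul_smul, smul_smul, mul_comm, sub_self]
  · obtain ⟨b, y, hb, hy⟩ := exists_smul_eq_θ hU' hY π hker p hp htp E
    have hbI : b ∈ Submodule.span A (s : Set A) := hs.symm ▸ (show b ∈ I from ⟨y, hy⟩)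
    by_contra hn
    refine hb (Submodule.span_le.2 (fun c hc => ?_) hbI)
    by_contra h
    exact hn (Set.mem_iUnion₂.2 ⟨c, hc, h⟩)
  · intro z hz hzm
    obtain ⟨w, rfl⟩ := exists_eq_j hU' hY π 0 z ((hcov z).1 (Or.inl hz))
    obtain ⟨b, hb, hzb⟩ := Set.mem_iUnion₂.1 hzm
    have hw : w ∈ V 0 := fun h => Set.disjoint_left.1 hCD hz h
    have h1 : w ∈ ((sysOf hU' hY π).T 0).basicOpen
        ((j hU' hY π 0).appTop (strZ hU' π b - x b)) := by
      rw [← Scheme.preimage_basicOpen_top]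
      exact hzb
    rw [map_sub, j_strZ, ← πL_θ, hx b hb, EtSys.πL_smul, show (sysOf hU' hY π).πL 0 E = e 0 from rfl,
      Scheme.mem_basicOpen_top, map_sub, map_mul] at h1
    rw [← TopCat.Presheaf.germ_res_apply _ (homOfLE (le_top : V 0 ≤ ⊤)) w hw (e 0),
      show ((sysOf hU' hY π).T 0).presheaf.map (homOfLE (le_top : V 0 ≤ ⊤)).op (e 0) = 1 from he1 0, map_one,
      mul_one, sub_self] at h1
    exact not_isUnit_zero h1
  · intro z hz hzm
    obtain ⟨w, rfl⟩ := exists_eq_j hU' hY π 0 z ((hcov z).1 (Or.inr hz))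
    obtain ⟨b, hb, hzb⟩ := Set.mem_iUnion₂.1 hzm
    have hw : w ∈ W 0 := fun h => Set.disjoint_left.1 hCD h hz
    have h1 : w ∈ ((sysOf hU' hY π).T 0).basicOpen ((j hU' hY π 0).appTop (x b)) := by
      rw [← Scheme.preimage_basicOpen_top]
      exact hzb
    rw [← πL_θ, hx b hb, EtSys.πL_smul, show (sysOf hU' hY π).πL 0 E = e 0 from rfl,
      Scheme.mem_basicOpen_top, map_mul] at h1
    rw [← TopCat.Presheaf.germ_res_apply _ (homOfLE (le_top : W 0 ≤ ⊤)) w hw (e 0),
      show ((sysOf hU' hY π).T 0).presheaf.map (homOfLE (le_top : W 0 ≤ ⊤)).op (e 0) = 0 from he2 0, map_zero,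
      mul_zero] at h1
    exact not_isUnit_zero h1
  rintro z ⟨⟨p, hpO, hpz⟩, hbz⟩
  obtain rfl : p = π z := U'.ι.isOpenEmbedding.injective hpz
  have hzO : z ∈ O := by_contra fun h => hpO ⟨z, h, rfl⟩
  obtain ⟨b₀, hb₀, hb₀z⟩ := Set.mem_iUnion₂.1 hbz
  have hu₀ : IsUnit (germ z (strZ hU' π b₀)) := (isUnit_germ_strZ hU' π b₀ z).2 hb₀z
  simp only [Set.mem_compl_iff, Set.mem_iUnion₂, SetLike.mem_coe, Scheme.mem_basicOpen_top, not_not]
  change (¬∃ b, ∃ _ : b ∈ s, IsUnit (germ z (strZ hU' π b - x b))) ↔ ∃ b, ∃ _ : b ∈ s, IsUnit (germ z (x b))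
  constructor
  · intro h
    refine ⟨b₀, hb₀, ?_⟩
    rw [show germ z (strZ hU' π b₀) = germ z (strZ hU' π b₀ - x b₀) + germ z (x b₀) by
      rw [← map_add, sub_add_cancel]] at hu₀
    exact (IsLocalRing.isUnit_or_isUnit_of_isUnit_add hu₀).resolve_left fun h' => h ⟨b₀, hb₀, h'⟩
  · rintro ⟨c, hc, huc⟩ ⟨b, hb, hub⟩
    rw [map_sub] at hub
    have hy := hzO.1 b hb
    rw [map_sub, map_mul, map_mul, ← sub_mul, ← neg_sub, neg_mul, neg_eq_zero, hub.mul_right_eq_zero] at hy
    rw [hy, sub_zero] at hub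
    have hxy := hzO.2 c hc b hb
    rw [map_sub, map_mul, map_mul, hy, mul_zero, sub_zero, hub.mul_right_eq_zero] at hxy
    rw [hxy] at huc
    exact not_isUnit_zero huc

/-- Spreading out of clopen subsets when a power of `f` makes `H^1` of all levels finite. -/
theorem clopenGerm_of_kill {A : Type u} [CommRing A] [IsNoetherianRing A]
    {U : (Spec (CommRingCat.of A)).Opens} {t : A} (ht : t ∈ nonZeroDivisors A) [IsAdicComplete (Ideal.span {t}) A]
    {𝔞 : Ideal A} (hU : U = EGA4.openCompl A 𝔞)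
    {c : ℕ} (h₁ : ∀ k, KillFin (t ^ c) (LocCoh.H 𝔞 1 (A ⧸ Ideal.span {t ^ k}))) : ClopenGerm U t :=
  clopenGerm_of_finite fun S => by
    obtain ⟨hF, hker, -⟩ := S.exists_finite_of_kill_one ht hU h₁
    refine ⟨hF, fun w hw => ?_⟩
    obtain ⟨v, hv⟩ := (hker 0 w).1 hw
    exact ⟨v, by rwa [zero_add, pow_one] at hv⟩

end Groth.Agent.LefEssSurj
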