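import Groth.Agent.LefFEt.Main
import Groth.Agent.FittLib.Comap
import Mathlib.AlgebraicGeometry.Morphisms.FormallyUnramified
import Mathlib.AlgebraicGeometry.Morphisms.FlatRank
import Mathlib.AlgebraicGeometry.Morphisms.Etale

/-!
A finite flat cover which is étale over a closed subscheme is étale near it, and everywhere under the
Lefschetz bijectivity.
-/

universe u

open CategoryTheory CategoryTheory.Limits AlgebraicGeometry TopologicalSpace Opposite

set_option autoImplicit false
set_option backward.isDefEq.respectTransparency false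
set_option backward.isDefEq.respectTransparency.types false
set_option linter.style.haveILetI false
open scoped TensorProduct

noncomputable section

namespace Groth.Agent.LefEssSurj

open Groth.Agent.QC

section Ring

variable (R S : Type u) [CommRing R] [CommRing S] [Algebra R S] [Module.Finite R S]

/-- Unramified modulo an ideal: the differentials die near it. -/
theorem exists_smul_kaehler_eq_zero (J : Ideal R) {Q : Type u} [CommRing Q] [Algebra R Q]
    (ψ : S →ₐ[R] Q) (hψ : Function.Surjective ψ) (hker : RingHom.ker ψ = J.map (algebraMap R S))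
    [Algebra.FormallyUnramified R Q] :
    ∃ r : R, r - 1 ∈ J ∧ ∀ w : Ω[S⁄R], r • w = 0 := by
  haveI : Module.Finite R Ω[S⁄R] := Module.Finite.trans S _
  letI : Algebra S Q := ψ.toRingHom.toAlgebra
  haveI : IsScalarTower R S Q := .of_algebraMap_eq fun r => (ψ.commutes r).symm
  haveI : Subsingleton (Q ⊗[S] Ω[S⁄R]) := by
    refine subsingleton_of_forall_eq 0 fun t => ?_
    obtain ⟨c, rfl⟩ := (KaehlerDifferential.exact_kerCotangentToTensor_mapBaseChange R S Q hψ t).mp
      (Subsingleton.elim _ 0)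
    obtain ⟨⟨a, ha⟩, rfl⟩ := Ideal.toCotangent_surjective _ c
    rw [KaehlerDifferential.kerCotangentToTensor_toCotangent]
    have ha' : a ∈ J.map (algebraMap R S) := hker ▸ ha
    change (1 : Q) ⊗ₜ[S] KaehlerDifferential.D R S a = 0
    clear ha
    refine Submodule.span_induction (p := fun a _ => (1 : Q) ⊗ₜ[S] KaehlerDifferential.D R S a = 0) ?_ ?_ ?_ ?_ ha'
    · rintro _ ⟨j, -, rfl⟩
      rw [Derivation.map_algebraMap, TensorProduct.tmul_zero]
    · rw [map_zero, TensorProduct.tmul_zero]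
    · intro x y _ _ h1 h2
      rw [map_add, TensorProduct.tmul_add, h1, h2, add_zero]
    · intro c x hx h1
      rw [smul_eq_mul, Derivation.leibniz, TensorProduct.tmul_add, TensorProduct.tmul_smul,
        TensorProduct.tmul_smul, h1, smul_zero, zero_add, TensorProduct.smul_tmul',
        Algebra.smul_def, mul_one]
      have hx0 : algebraMap S Q x = 0 := (hker.symm ▸ hx : x ∈ RingHom.ker ψ)
      rw [hx0, TensorProduct.zero_tmul]
  let K : Ideal S := J.map (algebraMap R S)
  haveI : Subsingleton ((S ⧸ K) ⊗[S] Ω[S⁄R]) := by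
    let e : (S ⧸ K) ≃ₐ[S] Q := (Ideal.quotientEquivAlgOfEq S (show K = RingHom.ker (Algebra.ofId S Q) from hker.symm)).trans
      (Ideal.quotientKerAlgEquivOfSurjective (f := Algebra.ofId S Q) hψ)
    exact (TensorProduct.congr e.toLinearEquiv (LinearEquiv.refl S Ω[S⁄R])).toEquiv.subsingleton
  have hK : (K • ⊤ : Submodule S Ω[S⁄R]) = ⊤ :=
    Submodule.Quotient.subsingleton_iff.mp (TensorProduct.quotTensorEquivQuotSMul Ω[S⁄R] K).symm.toEquiv.subsingleton
  have hle : (⊤ : Submodule R Ω[S⁄R]) ≤ J • ⊤ := by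
    intro w _
    have hw : w ∈ K • (⊤ : Submodule S Ω[S⁄R]) := hK.ge trivial
    refine Submodule.smul_induction_on hw (fun a ha v _ => ?_) (fun y z hy hz => add_mem hy hz)
    refine Submodule.span_induction (p := fun a _ => ∀ v : Ω[S⁄R], a • v ∈ J • (⊤ : Submodule R Ω[S⁄R]))
      ?_ ?_ ?_ ?_ ha v
    · rintro _ ⟨j, hj, rfl⟩ v
      rw [algebraMap_smul]
      exact Submodule.smul_mem_smul hj Submodule.mem_top
    · intro v; rw [zero_smul]; exact zero_mem _
    · intro a b _ _ h1 h2 v; rw [add_smul]; exact add_mem (h1 v) (h2 v)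
    · intro c a _ h1 v; rw [smul_eq_mul, mul_comm, mul_smul]; exact h1 (c • v)
  obtain ⟨r, hr1, hr2⟩ := Submodule.exists_sub_one_mem_and_smul_eq_zero_of_fg_of_le_smul J ⊤
    Module.Finite.fg_top hle
  exact ⟨r, hr1, fun w => hr2 w trivial⟩

omit [Module.Finite R S] in
/-- Inverting an element killing the differentials gives an unramified algebra. -/
theorem formallyUnramified_away (r : R) (hr : ∀ w : Ω[S⁄R], r • w = 0) (T : Type u) [CommRing T]
    [Algebra R T] [Algebra S T] [IsScalarTower R S T] [IsLocalization.Away (algebraMap R S r) T] :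
    Algebra.FormallyUnramified R T := by
  refine ⟨subsingleton_of_forall_eq 0 fun w => ?_⟩
  have hu : IsUnit (algebraMap R T r) := by
    rw [IsScalarTower.algebraMap_apply R S T]
    exact IsLocalization.Away.algebraMap_isUnit _
  have hkill : ∀ s : S, KaehlerDifferential.D R T (algebraMap S T s) = 0 := fun s => by
    have h1 := congrArg (KaehlerDifferential.map R R S T) (hr (KaehlerDifferential.D R S s))
    rw [LinearMap.map_smul_of_tower, map_zero, KaehlerDifferential.map_D, ← algebraMap_smul T] at h1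
    exact hu.smul_eq_zero.mp h1
  have hmem : w ∈ Submodule.span T (Set.range (KaehlerDifferential.D R T)) := by
    rw [KaehlerDifferential.span_range_derivation]; trivial
  refine Submodule.span_induction (p := fun w _ => w = 0) ?_ rfl (fun a b _ _ h1 h2 => by rw [h1, h2, add_zero])
    (fun c x _ h => by rw [h, smul_zero]) hmem
  rintro _ ⟨t, rfl⟩
  obtain ⟨n, s, hs⟩ := IsLocalization.Away.surj (algebraMap R S r) t
  have h2 := congrArg (KaehlerDifferential.D R T) hs
  rw [hkill, Derivation.leibniz, ← IsScalarTower.algebraMap_apply, ← map_pow, Derivation.map_algebraMap,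
    smul_zero, zero_add] at h2
  exact ((map_pow (algebraMap R T) r n).symm ▸ hu.pow n).smul_eq_zero.mp h2

end Ring

variable {X Z : Scheme.{u}} (π : Z ⟶ X) [IsFinite π]

/-- A finite morphism with unramified reduction is unramified near the closed subscheme. -/
theorem exists_nhd_formallyUnramified {Z₀ : Scheme.{u}} (k : Z₀ ⟶ Z) [IsClosedImmersion k]
    (I : X.IdealSheafData) (hk : k.ker = I.comap π) [FormallyUnramified (k ≫ π)] :
    ∃ U : X.Opens, (I.support : Set X) ⊆ U ∧ FormallyUnramified (π ∣_ U) := by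
  have key : ∀ V : X.affineOpens, ∃ r : Γ(X, V.1), r - 1 ∈ I.ideal V ∧
      FormallyUnramified (π ∣_ X.basicOpen r) := by
    intro V
    have hV' : IsAffineOpen (π ⁻¹ᵁ V.1) := V.2.preimage π
    have hV'' : IsAffineOpen (k ⁻¹ᵁ π ⁻¹ᵁ V.1) := hV'.preimage k
    letI : Algebra Γ(X, V.1) Γ(Z, π ⁻¹ᵁ V.1) := (π.app V.1).hom.toAlgebra
    letI : Algebra Γ(X, V.1) Γ(Z₀, k ⁻¹ᵁ π ⁻¹ᵁ V.1) := (π.app V.1 ≫ k.app _).hom.toAlgebra
    haveI : Module.Finite Γ(X, V.1) Γ(Z, π ⁻¹ᵁ V.1) := RingHom.finite_algebraMap.mp (π.finite_app _ V.2)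
    haveI : Algebra.FormallyUnramified Γ(X, V.1) Γ(Z₀, k ⁻¹ᵁ π ⁻¹ᵁ V.1) := by
      refine RingHom.formallyUnramified_algebraMap.mp ?_
      have h := (k ≫ π).formallyUnramified_appLE V.2 hV'' le_rfl
      have happ : (k ≫ π).appLE V.1 (k ⁻¹ᵁ π ⁻¹ᵁ V.1) le_rfl = π.app V.1 ≫ k.app _ := by
        rw [← Scheme.Hom.comp_app, Scheme.Hom.app_eq_appLE]
        rfl
      rw [happ] at h
      exact h
    let ψ : Γ(Z, π ⁻¹ᵁ V.1) →ₐ[Γ(X, V.1)] Γ(Z₀, k ⁻¹ᵁ π ⁻¹ᵁ V.1) :=
      { (k.app _).hom with commutes' := fun _ => rfl }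
    have hker : RingHom.ker ψ = (I.ideal V).map (algebraMap Γ(X, V.1) Γ(Z, π ⁻¹ᵁ V.1)) := by
      have h := congrArg (fun K : Z.IdealSheafData => K.ideal ⟨_, hV'⟩) hk
      simp only [Scheme.Hom.ker_apply] at h
      rw [FittLib.comap_ideal π _ V.2 hV' le_rfl, ← Scheme.Hom.app_eq_appLE] at h
      exact h
    obtain ⟨r, hr, hkill⟩ := exists_smul_kaehler_eq_zero Γ(X, V.1) Γ(Z, π ⁻¹ᵁ V.1) (I.ideal V) ψ
      (fun t => (isClosedImmersion_iff_isAffineHom.mp ‹IsClosedImmersion k›).2 _ hV' t) hker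
    refine ⟨r, hr, ?_⟩
    have hD : IsAffineOpen (X.basicOpen r) := V.2.basicOpen r
    have hD' : IsAffineOpen (π ⁻¹ᵁ X.basicOpen r) := hD.preimage π
    have hle : π ⁻¹ᵁ X.basicOpen r ≤ π ⁻¹ᵁ V.1 := π.preimage_mono (X.basicOpen_le r)
    letI : Algebra Γ(Z, π ⁻¹ᵁ V.1) Γ(Z, π ⁻¹ᵁ X.basicOpen r) := (Z.presheaf.map (homOfLE hle).op).hom.toAlgebra
    letI : Algebra Γ(X, V.1) Γ(Z, π ⁻¹ᵁ X.basicOpen r) :=
      (π.app V.1 ≫ Z.presheaf.map (homOfLE hle).op).hom.toAlgebra
    haveI : IsScalarTower Γ(X, V.1) Γ(Z, π ⁻¹ᵁ V.1) Γ(Z, π ⁻¹ᵁ X.basicOpen r) := .of_algebraMap_eq fun _ => rfl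
    haveI : IsLocalization.Away (algebraMap Γ(X, V.1) Γ(Z, π ⁻¹ᵁ V.1) r) Γ(Z, π ⁻¹ᵁ X.basicOpen r) :=
      hV'.isLocalization_of_eq_basicOpen _ (homOfLE hle) (π.preimage_basicOpen r)
    have hunr := formallyUnramified_away Γ(X, V.1) Γ(Z, π ⁻¹ᵁ V.1) r hkill Γ(Z, π ⁻¹ᵁ X.basicOpen r)
    letI : Algebra Γ(X, X.basicOpen r) Γ(Z, π ⁻¹ᵁ X.basicOpen r) := (π.app (X.basicOpen r)).hom.toAlgebra
    letI : Algebra Γ(X, V.1) Γ(X, X.basicOpen r) := (X.presheaf.map (homOfLE (X.basicOpen_le r)).op).hom.toAlgebra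
    haveI : IsScalarTower Γ(X, V.1) Γ(X, X.basicOpen r) Γ(Z, π ⁻¹ᵁ X.basicOpen r) :=
      .of_algebraMap_eq fun x => congrArg (fun g => CommRingCat.Hom.hom g x)
        (π.naturality (homOfLE (X.basicOpen_le r)).op).symm
    haveI := Algebra.FormallyUnramified.of_restrictScalars Γ(X, V.1) Γ(X, X.basicOpen r)
      Γ(Z, π ⁻¹ᵁ X.basicOpen r)
    have happ : (π.app (X.basicOpen r)).hom.FormallyUnramified :=
      RingHom.formallyUnramified_algebraMap.mpr this
    haveI : IsAffine (X.basicOpen r).toScheme := hD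
    haveI : IsAffine (π ⁻¹ᵁ X.basicOpen r).toScheme := hD'
    rw [HasRingHomProperty.iff_of_isAffine (P := @FormallyUnramified), morphismRestrict_appTop]
    refine (RingHom.FormallyUnramified.respectsIso.cancel_right_isIso _ _).mpr ?_
    have key : ∀ O : X.Opens, O = X.basicOpen r → (π.app O).hom.FormallyUnramified := by
      rintro O rfl
      exact happ
    exact key _ (X.basicOpen r).ι_image_top
  choose r hr hunr using key
  refine ⟨⨆ V, X.basicOpen (r V), fun x hx => ?_, ?_⟩
  · obtain ⟨V, hxV, -⟩ := KosExt.exists_affine_le (O := ⊤) (x := x) trivial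
    refine Opens.mem_iSup.mpr ⟨V, ?_⟩
    have hnot : x ∉ X.basicOpen (r V - 1) :=
      (Scheme.mem_zeroLocus_iff (X := X) _ x).mp ((I.coe_support_inter V).le ⟨hx, hxV⟩).1 (r V - 1) (hr V)
    rw [Scheme.mem_basicOpen X _ x hxV] at hnot ⊢
    set g := (X.presheaf.germ _ x hxV).hom
    have hsum : g (r V) + -g (r V - 1) = 1 := by rw [map_sub, map_one]; ring
    rcases IsLocalRing.isUnit_or_isUnit_of_add_one hsum with h | h
    · exact h
    · exact absurd ((IsUnit.neg_iff _).mp h) hnot
  · refine IsZariskiLocalAtTarget.of_iSup_eq_top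
      (fun V => ((⨆ V, X.basicOpen (r V)) : X.Opens).ι ⁻¹ᵁ X.basicOpen (r V)) ?_ fun V => ?_
    · rw [← Scheme.Hom.preimage_iSup]
      exact Opens.ext (Set.eq_univ_of_forall fun z => z.2)
    · rw [MorphismProperty.arrow_mk_iso_iff @FormallyUnramified (morphismRestrictRestrict π _ _)]
      have e : ((⨆ V, X.basicOpen (r V)) : X.Opens).ι ''ᵁ
          (((⨆ V, X.basicOpen (r V)) : X.Opens).ι ⁻¹ᵁ X.basicOpen (r V)) = X.basicOpen (r V) := by
        rw [Scheme.Hom.image_preimage_eq_opensRange_inf, Scheme.Opens.opensRange_ι]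
        exact inf_eq_right.mpr (le_iSup (fun V => X.basicOpen (r V)) V)
      exact (MorphismProperty.arrow_mk_iso_iff @FormallyUnramified (morphismRestrictEq π e)).mpr (hunr V)

variable (J : X.IdealSheafData) (hX : ∀ D : X.Modules, FlatMod.IsFinLocFree D → Lef.HomToFormalBijective J D)

include hX in
/-- Clopen subsets over the closed subscheme extend uniquely. -/
theorem existsUnique_clopen [Flat π] [LocallyOfFinitePresentation π] (C : Set ↥(pullback π J.subschemeι))
    (hC : IsClopen C) : ∃! W : Set Z, IsClopen W ∧ (pullback.fst π J.subschemeι) ⁻¹' W = C :=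
  LefFEt.clopen_aux (pullback.fst π J.subschemeι) (pullback.fst π J.subschemeι).isEmbedding
    (fun n => ((J.comap π) ^ (n + 1)).subscheme) (fun n => ((J.comap π) ^ (n + 1)).subschemeι)
    (fun n => LefFEt.incl (J.comap π) n)
    (fun n => LefFEt.incl_ι (J.comap π) n)
    (fun n => ((J.comap π) ^ (n + 1)).subschemeι.isEmbedding)
    (fun n => by
      rw [Scheme.IdealSheafData.range_subschemeι, Scheme.IdealSheafData.support_pow_succ,
        Scheme.IdealSheafData.support_comap, TopologicalSpace.Closeds.coe_preimage,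
        Scheme.Pullback.range_fst, Scheme.IdealSheafData.range_subschemeι])
    (LefFEt.functions_injective π J hX) (LefFEt.functions_surjective π J hX) C hC

include hX in
/-- A finite flat cover unramified near the closed subscheme is unramified, under the Lefschetz bijectivity. -/
theorem formallyUnramified_of_nhd [Flat π] [LocallyOfFinitePresentation π] (U : X.Opens)
    (hU : (J.support : Set X) ⊆ U) [FormallyUnramified (π ∣_ U)] : FormallyUnramified π := by
  let Δ := pullback.diagonal π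
  let ρ : pullback π π ⟶ X := pullback.fst π π ≫ π
  haveI : IsFinite ρ := inferInstance
  haveI : Flat ρ := inferInstance
  haveI : LocallyOfFinitePresentation ρ := inferInstance
  haveI : IsClosedImmersion Δ := inferInstance
  have hΔρ : Δ ≫ ρ = π := by simp [Δ, ρ]
  -- the diagonal is open over `U`
  have hopen : IsOpen (Δ '' (π ⁻¹ᵁ U : Set Z)) := by
    let m := pullback.map (π ∣_ U) (π ∣_ U) π π (π ⁻¹ᵁ U).ι (π ⁻¹ᵁ U).ι U.ι
      (morphismRestrict_ι π U) (morphismRestrict_ι π U)
    have h1 : pullback.diagonal (π ∣_ U) ≫ m = (π ⁻¹ᵁ U).ι ≫ Δ := by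
      apply pullback.hom_ext <;> simp [m, Δ]
    haveI : IsOpenImmersion (pullback.diagonal (π ∣_ U) ≫ m) := inferInstance
    have h2 : IsOpen (Set.range ((π ⁻¹ᵁ U).ι ≫ Δ)) := by
      rw [← h1]
      exact (pullback.diagonal (π ∣_ U) ≫ m).opensRange.2
    rw [Scheme.Hom.comp_base, TopCat.coe_comp, Set.range_comp, Scheme.Opens.range_ι] at h2
    exact h2
  let p := pullback.fst ρ J.subschemeι
  have hp : ∀ c, ρ (p c) ∈ (J.support : Set X) := fun c => by
    have : ρ (p c) = J.subschemeι (pullback.snd ρ J.subschemeι c) := by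
      rw [← Scheme.Hom.comp_apply, ← Scheme.Hom.comp_apply, pullback.condition]
    rw [this, ← Scheme.IdealSheafData.range_subschemeι]
    exact ⟨_, rfl⟩
  have hC : IsClopen (p ⁻¹' Set.range Δ) := by
    refine ⟨Δ.isClosedEmbedding.isClosed_range.preimage p.continuous, ?_⟩
    have : p ⁻¹' Set.range Δ = p ⁻¹' (Δ '' (π ⁻¹ᵁ U : Set Z)) := by
      ext c
      refine ⟨fun ⟨z, hz⟩ => ⟨z, hU ?_, hz⟩, fun ⟨z, _, hz⟩ => ⟨z, hz⟩⟩
      rw [← hΔρ, Scheme.Hom.comp_apply, hz]
      exact hp c
    rw [this]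
    exact hopen.preimage p.continuous
  obtain ⟨W, ⟨hW, hWp⟩, -⟩ := existsUnique_clopen ρ J hX _ hC
  have hover : ∀ P : ↥(pullback π π), ρ P ∈ (J.support : Set X) → (P ∈ W ↔ P ∈ Set.range Δ) := by
    intro P hP
    obtain ⟨c, rfl⟩ : P ∈ Set.range p := by
      rw [Scheme.Pullback.range_fst, Scheme.IdealSheafData.range_subschemeι]
      exact hP
    exact Set.ext_iff.mp hWp c
  have hΔW : ∀ z, Δ z ∈ W := by
    obtain ⟨W', -, huniq⟩ := existsUnique_clopen π J hX Set.univ isClopen_univ
    have h1 := huniq (Δ ⁻¹' W) ⟨hW.preimage Δ.continuous, Set.eq_univ_of_forall fun c => by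
      show Δ (pullback.fst π J.subschemeι c) ∈ W
      refine (hover _ ?_).mpr ⟨_, rfl⟩
      rw [← Scheme.Hom.comp_apply Δ ρ, hΔρ, ← Scheme.Hom.comp_apply, pullback.condition,
        ← Scheme.IdealSheafData.range_subschemeι, Scheme.Hom.comp_apply]
      exact ⟨_, rfl⟩⟩
    have h2 := huniq Set.univ ⟨isClopen_univ, rfl⟩
    intro z
    exact (h1.trans h2.symm).ge (Set.mem_univ z)
  let WO : (pullback π π).Opens := ⟨W, hW.2⟩
  haveI : IsClosedImmersion WO.ι := IsClosedImmersion.of_isPreimmersion WO.ι (by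
    rw [Scheme.Opens.range_ι]
    exact hW.1)
  let w : WO.toScheme ⟶ Z := WO.ι ≫ pullback.fst π π
  haveI : IsFinite w := inferInstance
  haveI : Flat w := inferInstance
  haveI : LocallyOfFinitePresentation w := inferInstance
  let Δ' : Z ⟶ WO.toScheme := IsOpenImmersion.lift WO.ι Δ (by
    rw [Scheme.Opens.range_ι]
    rintro _ ⟨z, rfl⟩
    exact hΔW z)
  have hΔ' : Δ' ≫ WO.ι = Δ := IsOpenImmersion.lift_fac _ _ _
  have hsec : Δ' ≫ w = 𝟙 Z := by
    change Δ' ≫ WO.ι ≫ pullback.fst π π = _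
    rw [reassoc_of% hΔ']
    exact pullback.diagonal_fst π
  -- the image of the diagonal in `W` over a neighbourhood
  let O' : Set WO.toScheme := WO.ι ⁻¹' (Δ '' (π ⁻¹ᵁ U : Set Z))
  let O : Z.Opens := ⟨(w '' O'ᶜ)ᶜ,
    (w.isClosedMap _ ((hopen.preimage WO.ι.continuous).isClosed_compl)).isOpen_compl⟩
  have hO : ∀ z, π z ∈ (J.support : Set X) → z ∈ O := by
    rintro z hz ⟨v, hv, rfl⟩
    refine hv ?_
    have hρ : ρ (WO.ι v) = π (w v) := rfl
    obtain ⟨y, hy⟩ := (hover (WO.ι v) (hρ ▸ hz)).mp v.2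
    refine ⟨y, hU ?_, hy⟩
    rw [← hΔρ, Scheme.Hom.comp_apply, hy, hρ]
    exact hz
  have hfin : ∀ z ∈ O, w.finrank z = 1 := by
    intro z hz
    let i := O.ι
    let g := pullback.snd w i
    let t : O.toScheme ⟶ pullback w i := pullback.lift (i ≫ Δ') (𝟙 _) (by rw [Category.assoc, hsec]; simp)
    have ht : t ≫ g = 𝟙 _ := pullback.lift_snd _ _ _
    have hts : Function.Surjective t := by
      intro q
      have hq : w (pullback.fst w i q) ∈ O := by
        rw [← Scheme.Hom.comp_apply, pullback.condition, Scheme.Hom.comp_apply]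
        exact (pullback.snd w i q).2
      have hq' : pullback.fst w i q ∈ O' := by
        by_contra h
        exact hq ⟨_, h, rfl⟩
      obtain ⟨y, -, hy⟩ := hq'
      refine ⟨g q, (pullback.fst w i).isOpenEmbedding.injective ?_⟩
      apply WO.ι.isOpenEmbedding.injective
      rw [← Scheme.Hom.comp_apply t, pullback.lift_fst, Scheme.Hom.comp_apply, ← Scheme.Hom.comp_apply Δ', hΔ']
      refine Eq.trans ?_ hy
      congr 1
      have h3 : i (g q) = w (pullback.fst w i q) := by
        rw [← Scheme.Hom.comp_apply, ← Scheme.Hom.comp_apply, ← pullback.condition]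
      rw [h3]
      change pullback.fst π π (WO.ι (pullback.fst w i q)) = y
      rw [← hy, ← Scheme.Hom.comp_apply]
      simp [Δ]
    haveI : IsOpenImmersion t := by
      haveI : IsOpenImmersion (t ≫ pullback.fst w i ≫ WO.ι) := by
        rw [pullback.lift_fst_assoc, Category.assoc, hΔ']
        have hle : O ≤ π ⁻¹ᵁ U := fun y hy => by
          by_contra hyU
          refine hy ⟨Δ' y, fun ⟨y', hy', he⟩ => hyU ?_, ?_⟩
          · rw [← Scheme.Hom.comp_apply, hΔ'] at he
            exact Δ.isClosedEmbedding.injective he ▸ hy'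
          · rw [← Scheme.Hom.comp_apply, hsec]
            rfl
        let m := pullback.map (π ∣_ U) (π ∣_ U) π π (π ⁻¹ᵁ U).ι (π ⁻¹ᵁ U).ι U.ι
          (morphismRestrict_ι π U) (morphismRestrict_ι π U)
        have h1 : (Z.homOfLE hle ≫ pullback.diagonal (π ∣_ U) ≫ m) = O.ι ≫ Δ := by
          apply pullback.hom_ext <;> simp [m, Δ]
        rw [← h1]
        infer_instance
      exact IsOpenImmersion.of_comp t (pullback.fst w i ≫ WO.ι)
    haveI : Surjective t := ⟨hts⟩
    haveI : Epi t.base := (TopCat.epi_iff_surjective _).mpr hts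
    haveI : IsIso t := IsOpenImmersion.isIso t
    haveI : IsIso g := by
      rw [show g = inv t from IsIso.eq_inv_of_hom_inv_id ht]
      infer_instance
    have h4 := Scheme.Hom.finrank_pullback_snd w i ⟨z, hz⟩
    rw [(Scheme.Hom.isIso_iff_finrank_eq g).mp inferInstance] at h4
    exact h4.symm
  have hall : w.finrank = 1 := by
    obtain ⟨W', -, huniq⟩ := existsUnique_clopen π J hX Set.univ isClopen_univ
    have h1 := huniq {z | w.finrank z = 1} ⟨(Scheme.Hom.isLocallyConstant_finrank w).isClopen_fiber 1,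
      Set.eq_univ_of_forall fun c => hfin _ (hO _ (by
        rw [← Scheme.Hom.comp_apply, pullback.condition, ← Scheme.IdealSheafData.range_subschemeι,
          Scheme.Hom.comp_apply]
        exact ⟨_, rfl⟩))⟩
    have h2 := huniq Set.univ ⟨isClopen_univ, rfl⟩
    funext z
    exact (h1.trans h2.symm).ge (Set.mem_univ z)
  haveI : IsIso w := (Scheme.Hom.isIso_iff_finrank_eq w).mpr hall
  have : Δ' = inv w := IsIso.eq_inv_of_inv_hom_id hsec
  haveI : IsIso Δ' := this ▸ inferInstance
  haveI : IsOpenImmersion (pullback.diagonal π) := by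
    have h : IsOpenImmersion (Δ' ≫ WO.ι) := inferInstance
    rwa [hΔ'] at h
  infer_instance

include hX in
/-- A finite flat cover with étale reduction is étale, under the Lefschetz bijectivity. -/
theorem etale_of_reduction [Flat π] [LocallyOfFinitePresentation π] {Z₀ : Scheme.{u}} (k : Z₀ ⟶ Z)
    [IsClosedImmersion k] (hk : k.ker = J.comap π) [FormallyUnramified (k ≫ π)] : Etale π := by
  obtain ⟨U, hU, _⟩ := exists_nhd_formallyUnramified π k J hk
  haveI := formallyUnramified_of_nhd π J hX U hU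
  exact Etale.of_formallyUnramified_of_flat π

end Groth.Agent.LefEssSurj
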