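import Groth.Agent.LefEssSurj.Cover
import Groth.Agent.LefEssSurj.Etale
import Groth.Agent.K0Dev.Scheme
import Groth.Agent.LefDepth.Lim
import Groth.Agent.FormAlg.Thicken
import Groth.Agent.QC.Pullback
import Groth.Agent.QC.PullSect
import Groth.Agent.ThickSys.Sys
import Groth.Agent.S12066
import Groth.Prelude.Def_FSch4
import Groth.Prelude.Def_LefX

/-!
Finite étale covers of a closed subscheme as systems of modules on the completion, and algebraisation data.
-/

universe u

open CategoryTheory CategoryTheory.Limits AlgebraicGeometry TopologicalSpace Opposite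

set_option autoImplicit false
set_option backward.isDefEq.respectTransparency false
set_option backward.isDefEq.respectTransparency.types false
set_option linter.style.haveILetI false

noncomputable section

namespace Groth.Agent.LefEssSurj

open Groth.Agent.QC Groth.Agent.LefFEt

variable {X Y : Scheme.{u}}

lemma cong_iff_mem {T : Scheme.{u}} (q : T ⟶ X) [IsAffineHom q] (I : X.IdealSheafData) (U : X.affineOpens)
    (a : Γ(alg q, U.1)) :
    Cong I U a ↔ (show Γ(T, q ⁻¹ᵁ U.1) from a) ∈ (I.comap q).ideal ⟨q ⁻¹ᵁ U.1, U.2.preimage q⟩ := by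
  rw [FittLib.comap_ideal q I U.2 (U.2.preimage q) le_rfl, ← Scheme.Hom.app_eq_appLE]
  constructor
  · intro h
    refine Submodule.smul_induction_on h (fun r hr z _ => ?_) (fun y z hy hz => add_mem hy hz)
    exact Ideal.mul_mem_right (show Γ(T, q ⁻¹ᵁ U.1) from z) _ (Ideal.mem_map_of_mem _ hr)
  · intro h
    obtain ⟨k, c, g, hg⟩ := Submodule.mem_span_set'.mp h
    rw [show a = ∑ i : Fin k, c i * (g i : Γ(T, q ⁻¹ᵁ U.1)) from hg.symm]
    refine Submodule.sum_mem _ fun i _ => ?_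
    obtain ⟨r, hr, hrg⟩ := (g i).2
    rw [← hrg, mul_comm]
    exact Submodule.smul_mem_smul (M := Γ(alg q, U.1)) hr
      (Submodule.mem_top (x := (show Γ(alg q, U.1) from c i)))

theorem isIso_of_bijective_affine {M N : X.Modules} (φ : M ⟶ N)
    (h : ∀ U : X.affineOpens, Function.Bijective (φ.app U.1)) : IsIso φ := by
  let e : ∀ U : X.affineOpens, Γ(M, U.1) ≃ₗ[Γ(X, U.1)] Γ(N, U.1) := fun U =>
    LinearEquiv.ofBijective (QC.appₗ φ U.1) (h U)
  have he : ∀ U s, φ.app U.1 ((e U).symm s) = s := fun U s => (e U).apply_symm_apply s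
  obtain ⟨ψ, hψ⟩ := KosExt.exists_hom_affine N M (fun U => (e U).symm.toLinearMap) fun U V hVU s => (h V).1 <| by
    change φ.app V.1 (res M hVU ((e U).symm s)) = φ.app V.1 ((e V).symm (res N hVU s))
    rw [he, ← app_res, he]
  refine ⟨ψ, KosExt.hom_ext_affine fun U s => ?_, KosExt.hom_ext_affine fun U s => ?_⟩
  · change ψ.app U.1 (φ.app U.1 s) = s
    rw [hψ]
    exact (e U).symm_apply_apply s
  · change φ.app U.1 (ψ.app U.1 s) = s
    rw [hψ]
    exact he U s

/-- The adjoint of a map to a direct image along a closed immersion is an isomorphism if the map is the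
quotient by the ideal. -/
theorem isIso_adjoint (j : Y ⟶ X) [IsClosedImmersion j] {M : X.Modules} {N : Y.Modules}
    (hM : Coh.IsQCoh M) (g : M ⟶ (Scheme.Modules.pushforward j).obj N)
    (hsurj : ∀ U : X.affineOpens, Function.Surjective (g.app U.1))
    (hker : ∀ (U : X.affineOpens) (a : Γ(M, U.1)), g.app U.1 a = 0 → Cong j.ker U a) :
    IsIso (((Scheme.Modules.pullbackPushforwardAdjunction j).homEquiv M N).symm g) := by
  set adj := Scheme.Modules.pullbackPushforwardAdjunction j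
  set f := (adj.homEquiv M N).symm g with hf
  have hfac : adj.unit.app M ≫ (Scheme.Modules.pushforward j).map f = g :=
    (adj.homEquiv_unit _ _ _).symm.trans (Equiv.apply_symm_apply _ _)
  haveI := K0Dev.epi_unit j M
  have hpb : Coh.IsQCoh ((Scheme.Modules.pullback j).obj M) := QC.isQCoh_pullback (f := j) hM
  haveI : ((Scheme.Modules.pullback j).obj M).IsQuasicoherent := hpb
  have hqc : Coh.IsQCoh ((Scheme.Modules.pushforward j).obj ((Scheme.Modules.pullback j).obj M)) :=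
    QC.isQCoh_pushforward (hM := hpb) j
  have hη : ∀ U : X.affineOpens, Function.Surjective ((adj.unit.app M).app U.1) := fun U =>
    QC.app_surjective_of_epi U.2 hM hqc (adj.unit.app M)
  have hbij : ∀ U : X.affineOpens, Function.Bijective (((Scheme.Modules.pushforward j).map f).app U.1) := by
    intro U
    have hcomp : ∀ a, ((Scheme.Modules.pushforward j).map f).app U.1 ((adj.unit.app M).app U.1 a) = g.app U.1 a :=
      fun a => congrArg (fun t : M ⟶ (Scheme.Modules.pushforward j).obj N => t.app U.1 a) hfac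
    refine ⟨(injective_iff_map_eq_zero _).2 fun z hz => ?_, fun w => ?_⟩
    · obtain ⟨a, rfl⟩ := hη U z
      rw [hcomp] at hz
      refine Submodule.smul_induction_on (p := fun a => (adj.unit.app M).app U.1 a = 0) (hker U a hz)
        (fun r hr w _ => ?_) (fun y w hy hw => by rw [map_add, hy, hw, add_zero])
      rw [Scheme.Modules.Hom.app_smul]
      set t : Γ((Scheme.Modules.pullback j).obj M, j ⁻¹ᵁ U.1) := (adj.unit.app M).app U.1 w
      rw [Scheme.Hom.ker_apply] at hr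
      exact (congrArg (fun (b : Γ(Y, j ⁻¹ᵁ U.1)) => b • t) (RingHom.mem_ker.1 hr)).trans (zero_smul _ _)
    · obtain ⟨a, ha⟩ := hsurj U w
      exact ⟨_, (hcomp a).trans ha⟩
  haveI : IsIso ((Scheme.Modules.pushforward j).map f) := isIso_of_bijective_affine _ hbij
  haveI := (FormAlg.pushFF j).full
  haveI := (FormAlg.pushFF j).faithful
  exact isIso_of_fully_faithful (Scheme.Modules.pushforward j) f

lemma adjoint_pullSect (j : Y ⟶ X) {M : X.Modules} {N : Y.Modules}
    (g : M ⟶ (Scheme.Modules.pushforward j).obj N) (W : X.Opens) (a : Γ(M, W)) :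
    (((Scheme.Modules.pullbackPushforwardAdjunction j).homEquiv M N).symm g).app (j ⁻¹ᵁ W)
      (OmegaSh.pullSect j M W a) = g.app W a := by
  have h : (Scheme.Modules.pullbackPushforwardAdjunction j).unit.app M ≫
      (Scheme.Modules.pushforward j).map
        (((Scheme.Modules.pullbackPushforwardAdjunction j).homEquiv M N).symm g) = g :=
    ((Scheme.Modules.pullbackPushforwardAdjunction j).homEquiv_unit _ _ _).symm.trans
      (Equiv.apply_symm_apply _ _)
  exact congrArg (fun t : M ⟶ (Scheme.Modules.pushforward j).obj N => t.app W a) h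

lemma trans_pullSect {Z Z' : Scheme.{u}} (i : Z ⟶ Z') (g : Z' ⟶ X) (f : Z ⟶ X) (w : i ≫ g = f) (M : X.Modules)
    (Θ : (Scheme.Modules.pullback i).obj ((Scheme.Modules.pullback g).obj M) ≅ (Scheme.Modules.pullback f).obj M)
    (hΘ : Θ = (Scheme.Modules.pullbackComp i g).app M ≪≫ (Scheme.Modules.pullbackCongr w).app M)
    (W : X.Opens) (hpre : i ⁻¹ᵁ (g ⁻¹ᵁ W) = f ⁻¹ᵁ W) (s : Γ(M, W)) :
    Θ.hom.app (i ⁻¹ᵁ (g ⁻¹ᵁ W))
      (OmegaSh.pullSect i ((Scheme.Modules.pullback g).obj M) (g ⁻¹ᵁ W) (OmegaSh.pullSect g M W s)) =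
      ((Scheme.Modules.pullback f).obj M).presheaf.map (eqToHom hpre).op (OmegaSh.pullSect f M W s) := by
  subst hΘ
  refine (congrArg _ (QC.pullbackComp_hom_pullSect i g M W s)).trans ?_
  exact QC.pullbackCongr_hom_pullSect w M W s

lemma completion_e_eq (𝓘 : X.IdealSheafData) (M : X.Modules) (n : ℕ) :
    (FSch.completionMod 𝓘 M).e n =
      (Scheme.Modules.pullbackComp ((FSch.completionAlong X 𝓘).ι n)
          (FSch.completionToX X 𝓘 (n + 1))).app M ≪≫
        (Scheme.Modules.pullbackCongr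
          (Scheme.IdealSheafData.inclusion_subschemeι (FSch.pow_succ_le X 𝓘 n))).app M :=
  rfl

lemma step_pullSect {Z Z' : Scheme.{u}} (i : Z ⟶ Z') (g : Z' ⟶ X) (f : Z ⟶ X) (w : i ≫ g = f) {M : X.Modules}
    {N' : Z'.Modules} {N : Z.Modules} (a' : (Scheme.Modules.pullback g).obj M ⟶ N')
    (a : (Scheme.Modules.pullback f).obj M ⟶ N) (γ : N' ⟶ (Scheme.Modules.pushforward i).obj N)
    (Θ : (Scheme.Modules.pullback i).obj ((Scheme.Modules.pullback g).obj M) ≅ (Scheme.Modules.pullback f).obj M)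
    (hΘ : Θ = (Scheme.Modules.pullbackComp i g).app M ≪≫ (Scheme.Modules.pullbackCongr w).app M)
    (hcomm : (Scheme.Modules.pullback i).map a' ≫
        ((Scheme.Modules.pullbackPushforwardAdjunction i).homEquiv N' N).symm γ = Θ.hom ≫ a)
    (W : X.Opens) (hpre : i ⁻¹ᵁ (g ⁻¹ᵁ W) = f ⁻¹ᵁ W) (s : Γ(M, W)) :
    γ.app (g ⁻¹ᵁ W) (a'.app (g ⁻¹ᵁ W) (OmegaSh.pullSect g M W s)) =
      N.presheaf.map (eqToHom hpre).op (a.app (f ⁻¹ᵁ W) (OmegaSh.pullSect f M W s)) := by
  rw [← adjoint_pullSect i γ]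
  refine Eq.trans ?_ (Eq.trans (congrArg (fun t => t.app (i ⁻¹ᵁ (g ⁻¹ᵁ W))
    (OmegaSh.pullSect i _ (g ⁻¹ᵁ W) (OmegaSh.pullSect g M W s))) hcomm) ?_)
  · simp only [Scheme.Modules.Hom.comp_app, ConcreteCategory.comp_apply]
    rw [QC.app_pullSect]
  · simp only [Scheme.Modules.Hom.comp_app, ConcreteCategory.comp_apply]
    rw [trans_pullSect i g f w M Θ hΘ W hpre s]
    exact congr(($(a.mapPresheaf.naturality (eqToHom hpre).op)) (OmegaSh.pullSect f M W s))

lemma algApp_step {T T' Z Z' : Scheme.{u}} (iT : T ⟶ T') (P : T ⟶ Z) (P' : T' ⟶ Z') (i : Z ⟶ Z') (g : Z' ⟶ X)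
    (f : Z ⟶ X) (w : i ≫ g = f) (sq : iT ≫ P' = P ≫ i) (wq : iT ≫ P' ≫ g = P ≫ f) (W : X.Opens)
    (hpre : i ⁻¹ᵁ (g ⁻¹ᵁ W) = f ⁻¹ᵁ W) (z : Γ(T', P' ⁻¹ᵁ (g ⁻¹ᵁ W))) (y : Γ(T, P ⁻¹ᵁ (f ⁻¹ᵁ W)))
    (h : algApp (q := P ≫ i) iT sq (g ⁻¹ᵁ W) z =
      T.presheaf.map (eqToHom (congrArg (fun V => P ⁻¹ᵁ V) hpre)).op y) :
    algApp (q := P ≫ f) iT wq W z = y := by
  subst w
  refine Eq.trans ?_ (h.trans ?_)
  · rfl
  · exact congr(($(T.presheaf.map_id _)) y)

lemma step_sections {T T' Z Z' : Scheme.{u}} (iT : T ⟶ T') (P : T ⟶ Z) (P' : T' ⟶ Z') (i : Z ⟶ Z') (g : Z' ⟶ X)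
    (f : Z ⟶ X) (w : i ≫ g = f) (sq : iT ≫ P' = P ≫ i) (wq : iT ≫ P' ≫ g = P ≫ f) {M : X.Modules}
    (a' : (Scheme.Modules.pullback g).obj M ⟶ alg P') (a : (Scheme.Modules.pullback f).obj M ⟶ alg P)
    (e : (Scheme.Modules.pullback i).obj (alg P') ⟶ alg P)
    (Θ : (Scheme.Modules.pullback i).obj ((Scheme.Modules.pullback g).obj M) ≅ (Scheme.Modules.pullback f).obj M)
    (hΘ : Θ = (Scheme.Modules.pullbackComp i g).app M ≪≫ (Scheme.Modules.pullbackCongr w).app M)
    (hcomm : (Scheme.Modules.pullback i).map a' ≫ e = Θ.hom ≫ a)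
    (he : e = ((Scheme.Modules.pullbackPushforwardAdjunction i).homEquiv _ _).symm
      (algMap (q := P ≫ i) iT sq ≫ (Scheme.Modules.pushforwardComp P i).inv.app _))
    (W : X.Opens) (hpre : i ⁻¹ᵁ (g ⁻¹ᵁ W) = f ⁻¹ᵁ W) (s : Γ(M, W)) :
    algApp (q := P ≫ f) iT wq W (a'.app (g ⁻¹ᵁ W) (OmegaSh.pullSect g M W s)) =
      a.app (f ⁻¹ᵁ W) (OmegaSh.pullSect f M W s) := by
  subst he
  exact algApp_step iT P P' i g f w sq wq W hpre _ _
    (step_pullSect i g f w a' a _ Θ hΘ hcomm W hpre s)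

/-- A compatible system of finite étale covers of the thickenings. -/
structure EtSys (𝓘 : X.IdealSheafData) where
  /-- The covers. -/
  T : ℕ → Scheme.{u}
  /-- The structure maps. -/
  p : ∀ n, T n ⟶ (FSch.completionAlong X 𝓘).X n
  /-- The transition maps. -/
  i : ∀ n, T n ⟶ T (n + 1)
  fin : ∀ n, IsFinite (p n)
  et : ∀ n, Etale (p n)
  cart : ∀ n, IsPullback (i n) (p n) (p (n + 1)) ((FSch.completionAlong X 𝓘).ι n)

/-- Covers of the smallest level extend to compatible systems. -/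
theorem exists_etSys [IsLocallyNoetherian X] (𝓘 : X.IdealSheafData)
    (h : (FSch.completionAlong X 𝓘).IsLocNoethFormal) (R : FEt.Cat ((FSch.completionAlong X 𝓘).X 0)) :
    ∃ S : EtSys 𝓘, Nonempty (MorphismProperty.Over.mk ⊤ (S.p 0) ⟨S.fin 0, S.et 0⟩ ≅ R) := by
  haveI := Groth.Agent.S12066.result (FSch.completionAlong X 𝓘) h
  let F := FSch.EtCov.level (FSch.completionAlong X 𝓘) 0
  let R' := F.objPreimage R
  exact ⟨{ T := R'.obj.left.X
           p := fun n => (R'.obj.hom : FSch.Hom _ _).app n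
           i := R'.obj.left.ι
           fin := fun n => (R'.property.2 n).1
           et := fun n => (R'.property.2 n).2
           cart := R'.property.1 }, ⟨F.objObjPreimageIso R⟩⟩

namespace EtSys

variable {𝓘 : X.IdealSheafData} (S : EtSys 𝓘)

set_option quotPrecheck false in
local notation "ιι" => FSch.Sys.ι (FSch.completionAlong X 𝓘)
local notation "jX" => FSch.completionToX X 𝓘

instance (n : ℕ) : IsFinite (S.p n) := S.fin n

instance (n : ℕ) : Etale (S.p n) := S.et n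

instance (n : ℕ) : IsClosedImmersion (ιι n) := by
  haveI : IsClosedImmersion (ιι n ≫ jX (n + 1)) := by
    rw [show ιι n ≫ jX (n + 1) = jX n from Scheme.IdealSheafData.inclusion_subschemeι _]
    infer_instance
  exact IsClosedImmersion.of_comp_isClosedImmersion _ (jX (n + 1))

/-- The modules of functions. -/
abbrev A (n : ℕ) : ((FSch.completionAlong X 𝓘).X n).Modules := alg (S.p n)

/-- The restriction of functions to the smaller level. -/
def g (n : ℕ) : S.A (n + 1) ⟶ (Scheme.Modules.pushforward (ιι n)).obj (S.A n) :=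
  algMap (q := S.p n ≫ ιι n) (S.i n) (S.cart n).w ≫ (Scheme.Modules.pushforwardComp (S.p n) (ιι n)).inv.app _

lemma g_app (n : ℕ) (W : ((FSch.completionAlong X 𝓘).X (n + 1)).Opens) (z : Γ(S.A (n + 1), W)) :
    (S.g n).app W z = (show Γ(alg (S.p n ≫ ιι n), W) from
      algApp (q := S.p n ≫ ιι n) (S.i n) (S.cart n).w W (show Γ(S.T (n + 1), S.p (n + 1) ⁻¹ᵁ W) from z)) := by
  rfl

lemma comap_ker (n : ℕ) : (S.i n).ker = (ιι n).ker.comap (S.p (n + 1)) := by
  rw [← Scheme.IdealSheafData.ker_fst_of_isClosedImmersion, ← (S.cart n).isoPullback_hom_fst,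
    Scheme.Hom.ker_comp_of_isIso]

theorem isIso_e (n : ℕ) : IsIso
    (((Scheme.Modules.pullbackPushforwardAdjunction (ιι n)).homEquiv (S.A (n + 1)) (S.A n)).symm (S.g n)) := by
  haveI : IsClosedImmersion (S.i n) :=
    MorphismProperty.of_isPullback (S.cart n).flip (inferInstanceAs (IsClosedImmersion (ιι n)))
  have hpre : ∀ U : ((FSch.completionAlong X 𝓘).X (n + 1)).Opens,
      (S.p n ≫ ιι n) ⁻¹ᵁ U = S.i n ⁻¹ᵁ (S.p (n + 1) ⁻¹ᵁ U) := fun U => by
    rw [← Scheme.Hom.comp_preimage, (S.cart n).w]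
  have hkey : ∀ (U : ((FSch.completionAlong X 𝓘).X (n + 1)).affineOpens)
      (z : Γ(S.T (n + 1), S.p (n + 1) ⁻¹ᵁ U.1)),
      algApp (q := S.p n ≫ ιι n) (S.i n) (S.cart n).w U.1 z =
        (S.T n).presheaf.map (eqToHom (hpre U.1)).op ((S.i n).app _ z) := fun U z => rfl
  refine isIso_adjoint (ιι n) (QC.isQCoh_pushforward (hM := QC.isQCoh_unit _) (S.p (n + 1))) (S.g n)
    (fun U w => ?_) fun U a ha => ?_
  · obtain ⟨z, hz⟩ := (isClosedImmersion_iff_isAffineHom.mp ‹IsClosedImmersion (S.i n)›).2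
      (S.p (n + 1) ⁻¹ᵁ U.1) (U.2.preimage _) ((S.T n).presheaf.map (eqToHom (hpre U.1).symm).op w)
    refine ⟨z, (S.g_app n U.1 z).trans ((hkey U z).trans ?_)⟩
    rw [hz, ← ConcreteCategory.comp_apply, ← Functor.map_comp, ← op_comp, eqToHom_trans, eqToHom_refl, op_id,
      CategoryTheory.Functor.map_id]
    rfl
  · rw [cong_iff_mem, ← S.comap_ker n, Scheme.Hom.ker_apply, RingHom.mem_ker]
    apply (ConcreteCategory.bijective_of_isIso ((S.T n).presheaf.map (eqToHom (hpre U.1)).op)).1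
    rw [map_zero]
    exact ((hkey U _).symm.trans ((S.g_app n U.1 a).symm.trans ha))

/-- The system of modules of functions. -/
def modSys : FSch.ModSys (FSch.completionAlong X 𝓘) where
  F := S.A
  e n := @asIso _ _ _ _ _ (S.isIso_e n)

theorem levelwiseFinLocFree : LefX.LevelwiseFinLocFree S.modSys := fun n =>
  ResDesc.isFinLocFree_push (S.p n) (ResDesc.isFinLocFree_structureModule _)

/-- The structure maps over the whole scheme. -/
abbrev q (n : ℕ) : S.T n ⟶ X := S.p n ≫ jX n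

lemma w_q (n : ℕ) : S.i n ≫ S.q (n + 1) = S.q n := by
  rw [q, q, ← Category.assoc, (S.cart n).w, Category.assoc,
    show ιι n ≫ jX (n + 1) = jX n from Scheme.IdealSheafData.inclusion_subschemeι _]

variable {E : X.Modules} (α : FSch.completionMod 𝓘 E ≅ S.modSys)

/-- The reductions of the algebraised module. -/
def θ (n : ℕ) : E ⟶ alg (S.q n) :=
  (Scheme.Modules.pullbackPushforwardAdjunction (jX n)).unit.app E ≫
    (Scheme.Modules.pushforward (jX n)).map ((α.hom : FSch.ModSys.Hom _ _).app n) ≫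
    (Scheme.Modules.pushforwardComp (S.p n) (jX n)).hom.app _

lemma θ_app (n : ℕ) (W : X.Opens) (s : Γ(E, W)) :
    (S.θ α n).app W s = (show Γ(alg (S.q n), W) from
      ((α.hom : FSch.ModSys.Hom _ _).app n).app (jX n ⁻¹ᵁ W) (OmegaSh.pullSect (jX n) E W s)) := rfl

theorem θ_comp (n : ℕ) : S.θ α (n + 1) ≫ algMap (S.i n) (S.w_q n) = S.θ α n := by
  refine KosExt.hom_ext_affine fun W s => ?_
  have hw : ιι n ≫ jX (n + 1) = jX n := Scheme.IdealSheafData.inclusion_subschemeι _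
  have hpre : ιι n ⁻¹ᵁ (jX (n + 1) ⁻¹ᵁ W.1) = jX n ⁻¹ᵁ W.1 := by rw [← Scheme.Hom.comp_preimage, hw]
  exact step_sections (S.i n) (S.p n) (S.p (n + 1)) (ιι n) (jX (n + 1)) (jX n) hw (S.cart n).w (S.w_q n)
    ((α.hom : FSch.ModSys.Hom _ _).app (n + 1)) ((α.hom : FSch.ModSys.Hom _ _).app n)
    (S.modSys.e n).hom ((FSch.completionMod 𝓘 E).e n) (completion_e_eq 𝓘 E n)
    ((α.hom : FSch.ModSys.Hom _ _).comm n) rfl W.1 hpre s

include α in
lemma bijective_push (n : ℕ) (U : X.affineOpens) : Function.Bijective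
      (((Scheme.Modules.pushforward (jX n)).map ((α.hom : FSch.ModSys.Hom _ _).app n) ≫
        (Scheme.Modules.pushforwardComp (S.p n) (jX n)).hom.app _).app U.1) := by
  haveI : IsIso ((α.hom : FSch.ModSys.Hom _ _).app n) :=
    ⟨⟨(α.inv : FSch.ModSys.Hom _ _).app n, congrArg (fun t : FSch.ModSys.Hom _ _ => t.app n) α.hom_inv_id,
      congrArg (fun t : FSch.ModSys.Hom _ _ => t.app n) α.inv_hom_id⟩⟩
  exact ConcreteCategory.bijective_of_isIso _

lemma θ_surj (hE : Coh.IsQCoh E) (n : ℕ) (U : X.affineOpens) : Function.Surjective ((S.θ α n).app U.1) := by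
  haveI := K0Dev.epi_unit (jX n) E
  haveI : ((Scheme.Modules.pullback (jX n)).obj E).IsQuasicoherent := QC.isQCoh_pullback (f := jX n) hE
  refine (S.bijective_push α n U).2.comp (QC.app_surjective_of_epi U.2 hE
    (QC.isQCoh_pushforward (hM := QC.isQCoh_pullback (f := jX n) hE) (jX n)) _)

lemma θ_ker (hE : Coh.IsQCoh E) (n : ℕ) (U : X.affineOpens) (a : Γ(E, U.1)) :
    (S.θ α n).app U.1 a = 0 ↔ Cong (𝓘 ^ (n + 1)) U a := by
  obtain ⟨v, hv⟩ := LefDepth.exists_iso_quotK 𝓘 (n + 1) hE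
  rw [show (S.θ α n).app U.1 a = (((Scheme.Modules.pushforward (jX n)).map ((α.hom : FSch.ModSys.Hom _ _).app n) ≫
      (Scheme.Modules.pushforwardComp (S.p n) (jX n)).hom.app _).app U.1)
      (((Scheme.Modules.pullbackPushforwardAdjunction (jX n)).unit.app E).app U.1 a) from rfl,
    map_eq_zero_iff _ (S.bijective_push α n U).1, ← hv]
  change v.hom.app U.1 ((W7Exist.quotKπ 𝓘 (n + 1) hE).app U.1 a) = 0 ↔ _
  rw [map_eq_zero_iff _ (ConcreteCategory.bijective_of_isIso (v.hom.app U.1)).1,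
    W7Exist.quotKπ_app_eq_zero_iff 𝓘 (n + 1) hE U]
  simp only [Cong, Scheme.IdealSheafData.ideal_pow, Pi.pow_apply]

/-- The algebraisation data. -/
def algSys (hE : Coh.IsQCoh E) : AlgSys 𝓘 E where
  T := S.T
  q := S.q
  i := S.i
  w := S.w_q
  θ := S.θ α
  comp := S.θ_comp α
  surj := S.θ_surj α hE
  ker := S.θ_ker α hE

end EtSys

end Groth.Agent.LefEssSurj
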