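import Groth.Agent.LefEssSurj.DualKill
import Groth.Agent.HTLib.CplDepth
import Groth.Agent.DualCx.GorCriterion
import Groth.Agent.DualCx.Regular
import Groth.Agent.GabRig.Compl
import Mathlib.RingTheory.Ideal.KrullsHeightTheorem

/-!
The hypothesis `depth A_q + dim A/q > 2` off `f = 0`: consequences, and its transfer to the `f`-adic completion.
-/

universe u

open CategoryTheory IsLocalRing

attribute [local instance] HasDerivedCategory.standard

set_option autoImplicit false
set_option maxHeartbeats 1000000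
set_option linter.style.haveILetI false

noncomputable section

namespace Groth.Agent.LefEssSurj

/-- Depth plus dimension of the closure exceeds two off `f = 0`. -/
def TwoLt (A : Type u) [CommRing A] (f : A) : Prop :=
  ∀ q : PrimeSpectrum A, f ∉ q.asIdeal →
    (2 : WithBot ℕ∞) < (LocCoh.depth (Localization.AtPrime q.asIdeal) (Localization.AtPrime q.asIdeal) : WithBot ℕ∞) +
      ringKrullDim (A ⧸ q.asIdeal)

variable {A : Type u} [CommRing A] [IsNoetherianRing A] [IsLocalRing A] {f : A}

/-- A prime avoiding `f` with closure of dimension at least two has a proper specialisation on `f = 0`. -/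
theorem exists_specialization (hf : f ∈ maximalIdeal A) (q : PrimeSpectrum A) (hq : f ∉ q.asIdeal)
    (h : ∀ r : PrimeSpectrum A, q ≤ r → f ∈ r.asIdeal → r = closedPoint A) :
    ringKrullDim (A ⧸ q.asIdeal) ≤ 1 := by
  let m := maximalIdeal A
  haveI : IsLocalRing (A ⧸ q.asIdeal) := IsLocalRing.of_surjective' (Ideal.Quotient.mk _) Ideal.Quotient.mk_surjective
  let fb := Ideal.Quotient.mk q.asIdeal f
  have hmin : maximalIdeal (A ⧸ q.asIdeal) ∈ (Ideal.span {fb}).minimalPrimes := by
    refine ⟨⟨inferInstance, (Ideal.span_singleton_le_iff_mem _).2 ?_⟩, fun r hr _ => ?_⟩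
    · exact (IsLocalRing.map_maximalIdeal_of_surjective (Ideal.Quotient.mk q.asIdeal) Ideal.Quotient.mk_surjective) ▸
        Ideal.mem_map_of_mem _ hf
    · haveI := hr.1
      have hr' := h ⟨r.comap (Ideal.Quotient.mk q.asIdeal), inferInstance⟩
        (fun x hx => by
          show Ideal.Quotient.mk q.asIdeal x ∈ r
          rw [Ideal.Quotient.eq_zero_iff_mem.2 hx]
          exact zero_mem _) (hr.2 (Ideal.mem_span_singleton_self fb))
      rw [← IsLocalRing.map_maximalIdeal_of_surjective (Ideal.Quotient.mk q.asIdeal) Ideal.Quotient.mk_surjective,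
        Ideal.map_le_iff_le_comap]
      exact (congrArg PrimeSpectrum.asIdeal hr').ge
  have hh : (maximalIdeal (A ⧸ q.asIdeal)).height ≤ 1 :=
    Ideal.height_le_one_of_isPrincipal_of_mem_minimalPrimes _ _ hmin
  rw [← IsLocalRing.maximalIdeal_height_eq_ringKrullDim]
  exact_mod_cast hh

theorem two_lt_arith {n dq dQ : ℕ} {x y : ℤ} (h : 2 < n + dq) (hx : (dq : ℤ) = x) (hy : (dQ : ℤ) = y) (hle : y ≤ x) :
    2 < n + (x - y).toNat + dQ := by omega

variable {ω : Dual.D A} (hω : Dual.IsDualizing A ω) (hn : Dual.IsNormalized A ω)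

/-- Two dimension functions agreeing at the closed point agree. -/
theorem del_eq_of_closed {ω' : Dual.D A} (hω' : Dual.IsDualizing A ω')
    (h : DualCx.del hω (closedPoint A) = DualCx.del hω' (closedPoint A)) (p : PrimeSpectrum A) :
    DualCx.del hω p = DualCx.del hω' p := by
  haveI := DualCx.wellFoundedGT_spec (A := A)
  induction p using (wellFounded_gt (α := PrimeSpectrum A)).induction with
  | h p ih =>
    by_cases hp : p = closedPoint A
    · rw [hp, h]
    obtain ⟨s, hs, -⟩ := DualCx.exists_covBy_le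
      (lt_of_le_of_ne (show p.asIdeal ≤ maximalIdeal A from le_maximalIdeal p.isPrime.ne_top) hp : p < closedPoint A)
    rw [DualCx.del_covBy hω hs, DualCx.del_covBy hω' hs, ih s hs.lt]

include hω hn

theorem twoLt_of_hyp (hc : ((LocCoh.HasSk 2 (Localization.Away f) (Localization.Away f) ∧
      ∀ p : Ideal A, p ∈ minimalPrimes A → f ∉ p → (3 : WithBot ℕ∞) ≤ ringKrullDim (A ⧸ p)) ∨
    (∀ p : Ideal A, ∀ _ : p.IsPrime, f ∉ p →
      (2 : WithBot ℕ∞) < (LocCoh.depth (Localization.AtPrime p) (Localization.AtPrime p) : WithBot ℕ∞) +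
        ringKrullDim (A ⧸ p))))
    (hf : f ∈ maximalIdeal A) : TwoLt A f := by
  intro q hq
  obtain ⟨d, hd, hdim⟩ := DualKill.ringKrullDim_eq_del hω hn q
  rcases hc with ⟨hS, hmin⟩ | hc
  swap
  · exact hc q.asIdeal q.isPrime hq
  rw [hdim]
  by_contra hcon
  obtain ⟨P, hP, hsd, hdp⟩ := DualKill.exists_prime_away q hq
  have hS' := hS P
  rw [hsd, hdp] at hS'
  have h1 : DualCx.del hω (closedPoint A) < DualCx.del hω q := DualCx.del_lt hω
    (lt_of_le_of_ne (show q.asIdeal ≤ maximalIdeal A from le_maximalIdeal q.isPrime.ne_top)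
      fun he => hq (he ▸ hf))
  rw [DualCx.del_closed hω hn] at h1
  rcases eq_or_ne (LocCoh.depth (Localization.AtPrime q.asIdeal) (Localization.AtPrime q.asIdeal)) ⊤ with he | he
  · refine hcon ?_
    rw [he, show ((d : WithBot ℕ∞)) = (((d : ℕ∞)) : WithBot ℕ∞) from rfl, ← WithBot.coe_add, top_add]
    exact WithBot.coe_lt_coe.2 (ENat.natCast_lt_top 2)
  obtain ⟨n, hn'⟩ := ENat.ne_top_iff_exists.1 he
  rw [← hn'] at hcon hS'
  have hcon' : n + d ≤ 2 := by
    have h : (((n + d : ℕ) : ℕ∞) : WithBot ℕ∞) ≤ ((2 : ℕ∞) : WithBot ℕ∞) := by push_cast; exact not_lt.1 hcon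
    exact_mod_cast WithBot.coe_le_coe.1 h
  rcases min_le_iff.1 hS' with h2 | h2
  · have : 2 ≤ n := by
      have h'' : ((2 : ℕ∞) : WithBot ℕ∞) ≤ ((n : ℕ∞) : WithBot ℕ∞) := h2
      exact_mod_cast WithBot.coe_le_coe.1 h''
    lia
  · obtain ⟨p₀, hp₀, hp₀q⟩ := Ideal.exists_minimalPrimes_le (show (⊥ : Ideal A) ≤ q.asIdeal from bot_le)
    let r : PrimeSpectrum A := ⟨p₀, hp₀.1.1⟩
    obtain ⟨dr, hdr, hdimr⟩ := DualKill.ringKrullDim_eq_del hω hn r
    have h4 := hmin p₀ hp₀ fun hm => hq (hp₀q hm)
    rw [hdimr] at h4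
    have h4' : 3 ≤ dr := by exact_mod_cast h4
    have hle : DualCx.del hω q ≤ DualCx.del hω r := DualCx.del_le hω hp₀q
    have hsup : (((DualCx.del hω r - DualCx.del hω q).toNat : ℕ) : WithBot ℕ∞) ≤
        Module.supportDim (Localization.AtPrime q.asIdeal) (LocalizedModule q.asIdeal.primeCompl A) :=
      DualCx.le_supportDim_localized hω (p := r) (Module.mem_support_iff_of_finite.2 (by
        rw [show Module.annihilator A A = ⊥ from le_bot_iff.1 fun a ha => by
          simpa using Module.mem_annihilator.1 ha 1]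
        exact bot_le)) hp₀q _ (by lia)
    obtain ⟨l⟩ := DualCx.nonempty_localized_self (A := A) q.asIdeal
    rw [Module.supportDim_eq_of_equiv l, Module.supportDim_self_eq_ringKrullDim] at hsup
    have h5 : (DualCx.del hω r - DualCx.del hω q).toNat ≤ n := by exact_mod_cast hsup.trans h2
    lia

omit hn hω in
/-- Components off `f = 0` have dimension at least three. -/
theorem three_le_of_minimal (h2 : TwoLt A f) {p : Ideal A} (hp : p ∈ minimalPrimes A) (hfp : f ∉ p) :
    (3 : WithBot ℕ∞) ≤ ringKrullDim (A ⧸ p) := by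
  haveI := hp.1.1
  have h := h2 ⟨p, hp.1.1⟩ hfp
  have h0 : ringKrullDim (Localization.AtPrime p) ≤ 0 := by
    rw [IsLocalization.AtPrime.ringKrullDim_eq_height p (Localization.AtPrime p)]
    exact_mod_cast (Ideal.height_eq_zero_iff.2 hp).le
  have hd : LocCoh.depth (Localization.AtPrime p) (Localization.AtPrime p) = 0 := by
    obtain ⟨k, hk⟩ := QGorD.exists_nat_supportDim (R := Localization.AtPrime p) (Localization.AtPrime p)
    have h' := InvFin.depth_le_supportDim (Localization.AtPrime p) hk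
    rw [Module.supportDim_self_eq_ringKrullDim] at hk
    rw [hk] at h0
    have hk0 : k = 0 := Nat.le_zero.1 (by exact_mod_cast h0)
    rw [hk0, Nat.cast_zero] at h'
    exact nonpos_iff_eq_zero.1 h'
  change (2 : WithBot ℕ∞) < (LocCoh.depth (Localization.AtPrime p) (Localization.AtPrime p) : WithBot ℕ∞) +
    ringKrullDim (A ⧸ p) at h
  rw [hd, WithBot.coe_zero, zero_add] at h
  exact Order.succ_le_of_lt h

omit hn hω in
/-- Depth at least two at the primes off `f = 0` isolated from it. -/
theorem two_le_depth_of_dim_le (h2 : TwoLt A f) (q : PrimeSpectrum A) (hq : f ∉ q.asIdeal)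
    (h1 : ringKrullDim (A ⧸ q.asIdeal) ≤ 1) :
    (2 : ℕ∞) ≤ LocCoh.depth (Localization.AtPrime q.asIdeal) (Localization.AtPrime q.asIdeal) := by
  by_contra hcon
  have h := (h2 q hq).trans_le (add_le_add (WithBot.coe_le_coe.2 (Order.le_of_lt_succ (not_le.1 hcon : _ < Order.succ (1 : ℕ∞)))) h1)
  exact lt_irrefl _ (h.trans_le (by norm_cast))

omit hn hω

/-- The completion is local. -/
theorem isLocalRing_completion (hf : f ∈ maximalIdeal A) :
    IsLocalRing (AdicCompletion (Ideal.span {f}) A) := by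
  haveI : Nontrivial (AdicCompletion (Ideal.span {f}) A) := by
    refine nontrivial_of_ne 1 0 fun h => ?_
    have h' := congrArg (AdicCompletion.eval (Ideal.span {f}) A 1) h
    rw [map_zero] at h'
    have h1 : (1 : A) ∈ (Ideal.span {f} ^ 1 • ⊤ : Submodule A A) := (Submodule.Quotient.mk_eq_zero _).1 h'
    rw [pow_one, smul_eq_mul, Ideal.mul_top, Ideal.mem_span_singleton] at h1
    exact (IsLocalRing.mem_maximalIdeal f).1 hf (isUnit_of_dvd_one h1)
  obtain ⟨n, hn'⟩ := Ideal.exists_maximal (AdicCompletion (Ideal.span {f}) A)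
  refine IsLocalRing.of_unique_max_ideal ⟨n, hn', fun n' hn'' => ?_⟩
  haveI := hn'; haveI := hn''
  obtain ⟨-, h1, h1'⟩ := AdicFibres.maximal_setup A (Ideal.span {f}) n
  obtain ⟨-, h2, h2'⟩ := AdicFibres.maximal_setup A (Ideal.span {f}) n'
  rw [eq_maximalIdeal h1] at h1'
  rw [eq_maximalIdeal h2] at h2'
  exact h2'.trans h1'.symm

/-- The maximal ideal of the completion. -/
theorem maximal_completion [IsLocalRing (AdicCompletion (Ideal.span {f}) A)] :
    (maximalIdeal A).map (algebraMap A (AdicCompletion (Ideal.span {f}) A)) =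
        maximalIdeal (AdicCompletion (Ideal.span {f}) A) ∧
      (maximalIdeal (AdicCompletion (Ideal.span {f}) A)).comap (algebraMap A (AdicCompletion (Ideal.span {f}) A)) =
        maximalIdeal A := by
  obtain ⟨-, h1, h1'⟩ := AdicFibres.maximal_setup A (Ideal.span {f})
    (maximalIdeal (AdicCompletion (Ideal.span {f}) A))
  rw [eq_maximalIdeal h1] at h1'
  exact ⟨h1'.symm, eq_maximalIdeal h1⟩

include hω hn in
/-- A flat local algebra with the same closed point inherits a dualizing complex and the hypothesis. -/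
theorem twoLt_of_flat {B : Type u} [CommRing B] [IsNoetherianRing B] [IsLocalRing B] [Algebra A B] [Module.Flat A B]
    (hmB : (maximalIdeal A).map (algebraMap A B) = maximalIdeal B)
    (hcB : (maximalIdeal B).comap (algebraMap A B) = maximalIdeal A) (h2 : TwoLt A f) :
    (∃ ω' : Dual.D B, Dual.IsDualizing B ω') ∧ TwoLt B (algebraMap A B f) := by
  haveI := DRingKP.hasLBaseChange (algebraMap A B)
  have hB : Dual.IsDualizing B (DualFlat.KB B ω) := by
    refine DualCx.isDualizing_of_iso (DualCx.lBaseChangeObjIso (algebraMap A B) ω)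
      (DualFlat.isDualizing_lBaseChange_unramified B ω (fun n hn' => ?_) hω)
    rw [eq_maximalIdeal hn', hcB, hmB]
  refine ⟨⟨_, hB⟩, fun Q hQ => ?_⟩
  obtain ⟨m, hm⟩ := DualCx.exists_normalized_shift hB
  have hB' := DualCx.isDualizing_shift hB m
  have hclosed : DualCx.del hB (closedPoint B) = 0 := by
    rw [HTLib.del_eq_of_minimal hω hB (closedPoint A) (closedPoint B)
      (by
        show maximalIdeal B ∈
          ((maximalIdeal A).map (algebraMap A B)).minimalPrimes
        rw [hmB, Ideal.minimalPrimes_eq_subsingleton_self]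
        exact Set.mem_singleton _), DualCx.del_closed hω hn]
  obtain ⟨dQ, hdQ, hdimQ⟩ := DualKill.ringKrullDim_eq_del hB' hm Q
  rw [hdimQ]
  rw [del_eq_of_closed hB' hB (by rw [DualCx.del_closed hB' hm, hclosed]) Q] at hdQ
  let q : PrimeSpectrum A := PrimeSpectrum.comap (algebraMap A B) Q
  obtain ⟨dq, hdq, hdimq⟩ := DualKill.ringKrullDim_eq_del hω hn q
  have h := h2 q hQ
  rw [hdimq] at h
  have hle : DualCx.del hB Q ≤ DualCx.del hω q := HTLib.del_le_comap hω hB Q
  obtain ⟨eB⟩ := DualCx.nonempty_localized_self (A := B) Q.asIdeal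
  obtain ⟨eA⟩ := DualCx.nonempty_localized_self (A := A) q.asIdeal
  let e := (DualFlat.tens (A := A) B A).trans
    (TensorProduct.AlgebraTensorModule.rid A B B)
  have hdep := HTLib.depth_EM hω hB A Q q rfl
  rw [LocCoh.depth, LocH.idealDepth_congr ((IsLocalizedModule.linearEquiv Q.asIdeal.primeCompl
    (LocalizedModule.mkLinearMap Q.asIdeal.primeCompl _)
    ((LocalizedModule.mkLinearMap Q.asIdeal.primeCompl B).comp
      e.toLinearMap)).extendScalarsOfIsLocalization Q.asIdeal.primeCompl _ |>.trans eB),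
    LocCoh.depth, LocH.idealDepth_congr eA, ← LocCoh.depth, ← LocCoh.depth] at hdep
  rw [hdep]
  rcases eq_or_ne (LocCoh.depth (Localization.AtPrime q.asIdeal) (Localization.AtPrime q.asIdeal)) ⊤ with he | he
  · rw [he, top_add, show ((dQ : WithBot ℕ∞)) = (((dQ : ℕ∞)) : WithBot ℕ∞) from rfl, ← WithBot.coe_add, top_add]
    exact WithBot.coe_lt_coe.2 (ENat.natCast_lt_top 2)
  obtain ⟨n, hn'⟩ := ENat.ne_top_iff_exists.1 he
  rw [← hn'] at h ⊢
  have h' : 2 < n + dq := by
    have h'' : ((2 : ℕ∞) : WithBot ℕ∞) < (((n + dq : ℕ) : ℕ∞) : WithBot ℕ∞) := by push_cast; exact h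
    exact_mod_cast WithBot.coe_lt_coe.1 h''
  have h3 : 2 < n + (DualCx.del hω q - DualCx.del hB Q).toNat + dQ := two_lt_arith h' hdq hdQ hle
  have h4 : ((2 : ℕ∞) : WithBot ℕ∞) < (((n + (DualCx.del hω q - DualCx.del hB Q).toNat + dQ : ℕ) : ℕ∞) : WithBot ℕ∞) :=
    WithBot.coe_lt_coe.2 (by exact_mod_cast h3)
  push_cast at h4
  exact h4

include hω hn in
/-- The completion has a dualizing complex and inherits the hypothesis. -/
theorem completion_twoLt [IsLocalRing (AdicCompletion (Ideal.span {f}) A)]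
    [IsNoetherianRing (AdicCompletion (Ideal.span {f}) A)] (h2 : TwoLt A f) :
    (∃ ω' : Dual.D (AdicCompletion (Ideal.span {f}) A), Dual.IsDualizing (AdicCompletion (Ideal.span {f}) A) ω') ∧
      TwoLt (AdicCompletion (Ideal.span {f}) A) (algebraMap A (AdicCompletion (Ideal.span {f}) A) f) :=
  haveI : Module.Flat A (AdicCompletion (Ideal.span {f}) A) := AdicCompletion.flat_of_isNoetherian (Ideal.span {f})
  twoLt_of_flat hω hn (maximal_completion (A := A) (f := f)).1 (maximal_completion (A := A) (f := f)).2 h2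

end Groth.Agent.LefEssSurj
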