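import Groth.Agent.LefEssSurj.DualVan
import Groth.Agent.DualCx.Duality
import Groth.Agent.InjHull.Matlis
import Groth.Agent.InjHull.Duality
import Groth.Agent.InjHull.Basic
import Groth.Agent.LocH.ChangeRings
import Groth.Agent.FormAlg.KillFin

/-!
Multiples by a power of `f` of `H^i_m(A'/f^k)`, `i = 1, 2`, are finite, for `A'` the quotient of `A` by the
`f`-power torsion.
-/

universe u v

open IsLocalRing
open Groth.Agent.FormAlg (KillFin)

set_option autoImplicit false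
set_option maxHeartbeats 1000000
set_option linter.style.haveILetI false

noncomputable section

namespace Groth.Agent.LefEssSurj.DualKill

/-- Transfer along a semilinear equivalence. -/
theorem killFin_of_semilinear {A A' : Type u} [CommRing A] [CommRing A'] [Algebra A A'] {M : Type u} [AddCommGroup M]
    [Module A M] {M' : Type u} [AddCommGroup M'] [Module A' M'] (φ : M' ≃+ M)
    (hφ : ∀ (r : A) x, φ (algebraMap A A' r • x) = r • φ x) {a : A} (h : KillFin a M) :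
    KillFin (algebraMap A A' a) M' := by
  obtain ⟨N, ⟨S, hS⟩, hm⟩ := h
  classical
  refine ⟨Submodule.span A' (S.image φ.symm : Finset M'), ⟨_, rfl⟩, fun x => ?_⟩
  suffices ∀ z ∈ N, φ.symm z ∈ Submodule.span A' ((S.image φ.symm : Finset M') : Set M') by
    have hx := this _ (hm (φ x))
    rwa [← hφ, φ.symm_apply_apply] at hx
  intro z hz
  rw [← hS] at hz
  induction hz using Submodule.span_induction with
  | mem z hz => exact Submodule.subset_span (Finset.mem_coe.2 (Finset.mem_image_of_mem _ hz))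
  | zero => rw [map_zero]; exact zero_mem _
  | add _ _ _ _ h1 h2 => rw [map_add]; exact add_mem h1 h2
  | smul r z _ hz =>
    rw [show φ.symm (r • z) = algebraMap A A' r • φ.symm z from
      φ.injective (by rw [φ.apply_symm_apply, hφ, φ.apply_symm_apply])]
    exact Submodule.smul_mem _ _ hz

variable {A : Type u} [CommRing A] [IsNoetherianRing A]

theorem finite_hom_of_isFiniteLength {m : Ideal A} [m.IsMaximal] {E : Type u} [AddCommGroup E] [Module A E]
    {g : (A ⧸ m) →ₗ[A] E} (hg : _root_.InjHull.IsInjectiveHull g) [IsLocalRing A] {W : Type v} [AddCommGroup W]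
    [Module A W] (h : IsFiniteLength A W) : Module.Finite A (W →ₗ[A] E) := by
  induction h with
  | of_subsingleton => exact Module.Finite.of_finite
  | @of_simple_quotient M _ _ N _ _ ih =>
    obtain ⟨I, hI, ⟨e⟩⟩ := isSimpleModule_iff_quot_maximal.1 ‹IsSimpleModule A (M ⧸ N)›
    haveI := InjHull.isSimpleModule_socle hg
    haveI : Module.Finite A ((M ⧸ N) →ₗ[A] E) := by
      obtain rfl : I = m := (IsLocalRing.eq_maximalIdeal hI).trans (IsLocalRing.eq_maximalIdeal ‹m.IsMaximal›).symm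
      exact Module.Finite.equiv (LinearEquiv.arrowCongr e (LinearEquiv.refl A E)).symm
    haveI := ih
    have hex : ∀ φ : M →ₗ[A] E, LinearMap.lcomp A E N.subtype φ = 0 → ∃ ψ, LinearMap.lcomp A E N.mkQ ψ = φ :=
      fun φ hφ => ⟨N.liftQ φ fun x hx => LinearMap.congr_fun hφ ⟨x, hx⟩, LinearMap.ext fun x => rfl⟩
    have h1 : KillFin (1 : A) ((M ⧸ N) →ₗ[A] E) := KillFin.of_finite
    have h2 : KillFin (1 : A) (N →ₗ[A] E) := KillFin.of_finite
    have h12 := KillFin.of_exact _ _ hex h1 h2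
    rw [one_mul] at h12
    exact h12.finite_of_one

/-- A power of `f` makes a finite module vanish at the primes containing `f` which specialize from no bad prime. -/
theorem exists_pow_kill_local {f : A} (X : Type v) [AddCommGroup X] [Module A X] [Module.Finite A X]
    (G : PrimeSpectrum A → Prop)
    (h : ∀ q p : PrimeSpectrum A, f ∉ q.asIdeal → q ≤ p → G p → ∀ x : X, ∃ u ∉ q.asIdeal, u • x = 0) :
    ∃ n, ∀ p : PrimeSpectrum A, G p → ∃ u ∉ p.asIdeal, ∀ x : X, u • f ^ n • x = 0 := by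
  classical
  let a : ℕ → Ideal A := fun n => LinearMap.ker ((LinearMap.lsmul A (X →ₗ[A] X)).flip (f ^ n • LinearMap.id))
  have hmem : ∀ n u, u ∈ a n ↔ ∀ x : X, u • f ^ n • x = 0 := fun n u =>
    ⟨fun hu x => LinearMap.congr_fun (LinearMap.mem_ker.1 hu) x, fun hu => LinearMap.mem_ker.2 (LinearMap.ext hu)⟩
  have hmono : Monotone a := monotone_nat_of_le_succ fun n u hu => (hmem _ u).2 fun x => by
    rw [pow_succ, mul_smul]
    exact (hmem n u).1 hu (f • x)
  obtain ⟨N, hN⟩ := monotone_stabilizes_iff_noetherian.2 (inferInstanceAs (IsNoetherian A A)) ⟨a, hmono⟩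
  refine ⟨N, fun p hp => ?_⟩
  by_contra! hcon
  have hle : a N ≤ p.asIdeal := fun u hu => by_contra fun hup => by
    obtain ⟨x, hx⟩ := hcon u hup
    exact hx ((hmem N u).1 hu x)
  let S : Submonoid A := Submonoid.powers f ⊔ p.asIdeal.primeCompl
  have hdisj : Disjoint (a N : Set A) S := Set.disjoint_left.2 fun x hx hxS => by
    obtain ⟨y, ⟨m, rfl⟩, s, hs, rfl⟩ := Submonoid.mem_sup.1 hxS
    refine hs (hle ?_)
    rw [show a N = a (N + m) from hN (N + m) (Nat.le_add_right N m)]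
    refine (hmem _ s).2 fun z => ?_
    have := (hmem N _).1 hx z
    rw [pow_add, mul_smul]
    calc s • f ^ N • f ^ m • z = (f ^ m * s) • f ^ N • z := by simp only [smul_smul]; ring_nf
      _ = 0 := this
  obtain ⟨q, hq, haq, hqS⟩ := Ideal.exists_le_prime_disjoint (a N) S hdisj
  have hfq : f ∉ q := fun hf => Set.disjoint_left.1 hqS hf (le_sup_left (α := Submonoid A) (Submonoid.mem_powers f))
  have hqp : q ≤ p.asIdeal := fun x hx => by_contra fun hxp =>
    Set.disjoint_left.1 hqS hx (le_sup_right (α := Submonoid A) hxp)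
  obtain ⟨t, ht⟩ := Module.Finite.fg_top (R := A) (M := X)
  choose u hu hux using h ⟨q, hq⟩ p hfq hqp hp
  have hprod : ∏ x ∈ t, u x ∉ q := fun hm => by
    obtain ⟨x, -, hx⟩ := (Ideal.IsPrime.prod_mem_iff (hp := hq)).1 hm
    exact hu x hx
  refine hprod (haq ((hmem N _).2 fun x => ?_))
  have hxs : Submodule.span A (t : Set X) ≤ LinearMap.ker (LinearMap.lsmul A X (∏ x ∈ t, u x)) :=
    Submodule.span_le.2 fun y hy => by
      show (∏ x ∈ t, u x) • y = 0
      rw [← Finset.prod_erase_mul _ _ hy, mul_smul, hux y, smul_zero]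
  exact hxs (ht ▸ Submodule.mem_top)

/-- The `f`-power torsion. -/
theorem exists_torsion (f : A) : ∃ (T : Ideal A) (N : ℕ),
    (∀ x, x ∈ T ↔ f ^ N * x = 0) ∧ T ⊓ Ideal.span {f ^ N} = ⊥ ∧ Ideal.Quotient.mk T f ∈ nonZeroDivisors (A ⧸ T) := by
  let a : ℕ → Ideal A := fun n => LinearMap.ker (LinearMap.lsmul A A (f ^ n))
  have hmono : Monotone a := monotone_nat_of_le_succ fun n x hx => LinearMap.mem_ker.2 (by
    show f ^ (n + 1) * x = 0
    rw [pow_succ', mul_assoc, show f ^ n * x = 0 from hx, mul_zero])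
  obtain ⟨N, hN⟩ := monotone_stabilizes_iff_noetherian.2 (inferInstanceAs (IsNoetherian A A)) ⟨a, hmono⟩
  refine ⟨a N, N, fun x => Iff.rfl, eq_bot_iff.2 fun x hx => ?_, ?_⟩
  · obtain ⟨y, rfl⟩ := Ideal.mem_span_singleton.1 hx.2
    have hy : y ∈ a (N + N) := by
      show f ^ (N + N) * y = 0
      rw [pow_add, mul_assoc]
      exact hx.1
    rw [← show a N = a (N + N) from hN (N + N) (Nat.le_add_right N N)] at hy
    exact (Submodule.mem_bot A).2 hy
  · refine mem_nonZeroDivisors_iff_right.2 fun x hx => ?_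
    obtain ⟨x, rfl⟩ := Ideal.Quotient.mk_surjective x
    rw [← map_mul, Ideal.Quotient.eq_zero_iff_mem] at hx
    refine Ideal.Quotient.eq_zero_iff_mem.2 ?_
    rw [show a N = a (N + 1) from hN (N + 1) (Nat.le_succ N)]
    show f ^ (N + 1) * x = 0
    rw [pow_succ, mul_assoc, mul_comm f x]
    exact hx

variable [IsLocalRing A] {ω : Dual.D A} (hω : Dual.IsDualizing A ω) (hn : Dual.IsNormalized A ω) {f : A}
include hω hn

/-- A power of `f` makes `H^i_m((A/T)/f^k)` finite over `A`, `1 ≤ i ≤ b`, uniformly in `k`, when powers of `f`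
kill `Hom_D(A/T, ω[j])`, `-b-1 ≤ j ≤ -1`, near `f = 0` off the closed point. -/
theorem exists_killFin_of_kill (T : Ideal A) (hnz : Ideal.Quotient.mk T f ∈ nonZeroDivisors (A ⧸ T)) (b : ℕ)
    (hA' : ∀ j : ℤ, -(b : ℤ) - 1 ≤ j → j ≤ -1 → ∃ n, ∀ p : PrimeSpectrum A, f ∈ p.asIdeal → p ≠ closedPoint A →
      ∃ u ∉ p.asIdeal, ∀ x : DualCx.T ω (A ⧸ T) j, u • f ^ n • x = 0) :
    ∃ c : ℕ, ∀ (i : ℕ), 1 ≤ i → i ≤ b → ∀ k : ℕ, KillFin (f ^ c)
      (LocCoh.H (maximalIdeal A) i ((A ⧸ T) ⧸ Ideal.span {Ideal.Quotient.mk T f ^ k})) := by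
  classical
  let f' := Ideal.Quotient.mk T f
  let G : PrimeSpectrum A → Prop := fun p => f ∈ p.asIdeal ∧ p ≠ closedPoint A
  choose n hn' using fun j : Set.Icc (-(b : ℤ) - 1) (-1) => hA' j.1 j.2.1 j.2.2
  let n0 := ∑ j, n j
  have hkill : ∀ j : ℤ, -(b : ℤ) - 1 ≤ j → j ≤ -1 → ∀ p, G p → ∃ u ∉ p.asIdeal, ∀ x : DualCx.T ω (A ⧸ T) j,
      u • f ^ n0 • x = 0 := fun j h1 h2 p hp => by
    obtain ⟨u, hu, hux⟩ := hn' ⟨j, h1, h2⟩ p hp.1 hp.2
    refine ⟨u, hu, fun x => ?_⟩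
    obtain ⟨d, hd⟩ := Nat.exists_eq_add_of_le (Finset.single_le_sum (f := n) (fun _ _ => Nat.zero_le _)
      (Finset.mem_univ (⟨j, h1, h2⟩ : Set.Icc (-(b : ℤ) - 1) (-1))))
    rw [show n0 = _ from hd, pow_add, mul_smul]
    exact hux _
  refine ⟨n0 + n0, fun i hi1 hi2 k => ?_⟩
  -- the quotient by `f'^k`
  let K : Ideal (A ⧸ T) := Ideal.span {f' ^ k}
  let g : (A ⧸ T) →ₗ[A] (A ⧸ T) ⧸ K := (Submodule.mkQ K).restrictScalars A
  have hfk : ∀ z : A ⧸ T, f ^ k • z = f' ^ k * z := fun z => by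
    obtain ⟨z, rfl⟩ := Ideal.Quotient.mk_surjective z
    rw [← map_pow, ← map_mul]
    rfl
  have hses' : DualCx.SES (f ^ k • (LinearMap.id : (A ⧸ T) →ₗ[A] A ⧸ T)) g := by
    refine ⟨(injective_iff_map_eq_zero _).2 fun z hz => ?_, fun z => ⟨fun hz => ?_, ?_⟩, Submodule.mkQ_surjective K⟩
    · refine mem_nonZeroDivisors_iff_right.1 (pow_mem hnz k) z ?_
      rw [mul_comm, ← hfk]
      exact hz
    · obtain ⟨w, hw⟩ := Ideal.mem_span_singleton.1 ((Submodule.Quotient.mk_eq_zero K).1 hz)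
      exact ⟨w, (hfk w).trans hw.symm⟩
    · rintro ⟨w, rfl⟩
      refine (Submodule.Quotient.mk_eq_zero K).2 ?_
      rw [show (f ^ k • (LinearMap.id : (A ⧸ T) →ₗ[A] A ⧸ T)) w = f' ^ k * w from hfk w]
      exact Ideal.mem_span_singleton.2 ⟨w, rfl⟩
  let M := (A ⧸ T) ⧸ K
  let j : ℤ := -(i : ℤ)
  haveI : Module.Finite A M := Module.Finite.of_surjective g (Submodule.mkQ_surjective K)
  haveI := DualCx.finite_T hω M j
  let W : Submodule A (DualCx.T ω M j) := LinearMap.range (f ^ (n0 + n0) • LinearMap.id)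
  haveI : Module.Finite A W := Module.Finite.range _
  have hW : IsFiniteLength A W := by
    let b : Ideal A := Module.annihilator A W
    have hb : maximalIdeal A ≤ b.radical := by
      rw [Ideal.radical_eq_sInf]
      refine le_sInf fun q hq => ?_
      obtain ⟨hbq, hqp⟩ := hq
      by_contra hne
      let p : PrimeSpectrum A := ⟨q, hqp⟩
      have hpm : p ≠ closedPoint A := fun he => hne (by rw [show q = maximalIdeal A from congrArg PrimeSpectrum.asIdeal he])
      suffices ∃ u ∉ q, ∀ x : DualCx.T ω M j, u • f ^ (n0 + n0) • x = 0 by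
        obtain ⟨u, hu, hux⟩ := this
        refine hu (hbq (Module.mem_annihilator.2 ?_))
        rintro ⟨_, x, rfl⟩
        exact Subtype.ext (hux x)
      by_cases hf : f ∈ q
      swap
      · refine ⟨f ^ k, fun h => hf (hqp.mem_of_pow_mem k h), fun x => DualCx.smul_eq_zero_of_killed (fun z => ?_) _⟩
        obtain ⟨z, rfl⟩ := (Submodule.mkQ_surjective K) z
        rw [show f ^ k • (Submodule.mkQ K) z = g (f ^ k • z) from (map_smul g (f ^ k) z).symm]
        exact (Submodule.Quotient.mk_eq_zero K).2 (Ideal.mem_span_singleton.2 ⟨z, hfk z⟩)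
      obtain ⟨u, hu, hux⟩ := hkill j (by lia) (by lia) p ⟨hf, hpm⟩
      obtain ⟨v, hv, hvy⟩ := hkill (j - 1) (by lia) (by lia) p ⟨hf, hpm⟩
      refine ⟨v * u, fun h => (hqp.mem_or_mem h).elim hv hu, fun x => ?_⟩
      obtain ⟨y, hy⟩ := hses'.exact_right (show j - 1 + 1 = j by lia) (u • f ^ n0 • x)
        (by rw [map_smul, map_smul, hux])
      calc (v * u) • f ^ (n0 + n0) • x = v • f ^ n0 • u • f ^ n0 • x := by
            rw [pow_add, mul_smul, mul_smul, smul_comm u (f ^ n0)]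
        _ = 0 := by rw [← hy, ← map_smul, ← map_smul, hvy, map_zero]
    obtain ⟨r, hr⟩ := Ideal.exists_pow_le_of_le_radical_of_fg hb (IsNoetherian.noetherian _)
    exact InjHull.isFiniteLength_of_pow_smul_eq_zero (maximalIdeal A) r W inferInstance
      fun a ha x => Module.mem_annihilator.1 (hr ha) x
  obtain ⟨E, _, _, g₀, hg₀⟩ := InjHull.exists_isInjectiveHull A (A ⧸ maximalIdeal A)
  haveI := finite_hom_of_isFiniteLength hg₀ hW
  have hk : KillFin (f ^ (n0 + n0)) (DualCx.T ω M j →ₗ[A] E) := by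
    refine ⟨LinearMap.range (LinearMap.lcomp A E ((f ^ (n0 + n0) • LinearMap.id : DualCx.T ω M j →ₗ[A] _).rangeRestrict)),
      Submodule.fg_range _, fun φ => ⟨φ.comp W.subtype, LinearMap.ext fun x => ?_⟩⟩
    show φ (f ^ (n0 + n0) • x) = f ^ (n0 + n0) • φ x
    exact map_smul φ _ x
  obtain ⟨e⟩ := DualCx.localDuality hω hn hg₀ M i
  exact hk.equiv e.symm


/-- A power of `f` makes `H^i_m((A/T)/f^k)` finite over `A`, `i = 1, 2`, uniformly in `k`. -/
theorem exists_killFin_base (hc : ((LocCoh.HasSk 2 (Localization.Away f) (Localization.Away f) ∧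
      ∀ p : Ideal A, p ∈ minimalPrimes A → f ∉ p → (4 : WithBot ℕ∞) ≤ ringKrullDim (A ⧸ p)) ∨
    (∀ p : Ideal A, ∀ _ : p.IsPrime, f ∉ p → (p ⊔ Ideal.span {f}).radical ≠ maximalIdeal A →
      (3 : WithBot ℕ∞) < (LocCoh.depth (Localization.AtPrime p) (Localization.AtPrime p) : WithBot ℕ∞) +
        ringKrullDim (A ⧸ p))))
    (T : Ideal A) (N : ℕ) (hT : ∀ x ∈ T, f ^ N * x = 0) (hnz : Ideal.Quotient.mk T f ∈ nonZeroDivisors (A ⧸ T))
    :
    ∃ c : ℕ, ∀ (i : ℕ), 1 ≤ i → i ≤ 2 → ∀ k : ℕ, KillFin (f ^ c)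
      (LocCoh.H (maximalIdeal A) i ((A ⧸ T) ⧸ Ideal.span {Ideal.Quotient.mk T f ^ k})) := by
  classical
  let G : PrimeSpectrum A → Prop := fun p => f ∈ p.asIdeal ∧ p ≠ closedPoint A
  -- powers of `f` kill `T(A, j)` and `T(A/T, j)` near `f = 0`
  have hA : ∀ j : ℤ, -3 ≤ j → ∃ n, ∀ p, G p → ∃ u ∉ p.asIdeal, ∀ x : DualCx.T ω A j, u • f ^ n • x = 0 := fun j hj => by
    haveI := DualCx.finite_T hω A j
    exact exists_pow_kill_local _ G fun q p hq hqp hp x => van_of_hyp hω hn hc hq hqp hp.1 hp.2 hj x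
  have hses : DualCx.SES (T.subtype) (T.mkQ : A →ₗ[A] A ⧸ T) :=
    ⟨Subtype.val_injective, LinearMap.exact_subtype_mkQ T, Submodule.mkQ_surjective T⟩
  have hA' : ∀ j : ℤ, -3 ≤ j → ∃ n, ∀ p, G p → ∃ u ∉ p.asIdeal, ∀ x : DualCx.T ω (A ⧸ T) j,
      u • f ^ n • x = 0 := fun j hj => by
    obtain ⟨n, hn'⟩ := hA j hj
    refine ⟨N + n, fun p hp => ?_⟩
    obtain ⟨u, hu, hux⟩ := hn' p hp
    refine ⟨u, hu, fun x => ?_⟩
    obtain ⟨y, hy⟩ := hses.exact_right (show j - 1 + 1 = j by lia) (u • f ^ n • x)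
      (by rw [map_smul, map_smul, hux])
    rw [pow_add, mul_smul, smul_comm u (f ^ N), ← hy, ← map_smul,
      DualCx.smul_eq_zero_of_killed (fun t => Subtype.ext (hT t t.2)) y, map_zero]
  exact exists_killFin_of_kill hω hn T hnz 2 fun j hj _ => by
    obtain ⟨n, hn'⟩ := hA' j hj
    exact ⟨n, fun p hp hp' => hn' p ⟨hp, hp'⟩⟩

/-- A power of `f` makes `H^i_m((A/T)/f^k)` finite, `i = 1, 2`, uniformly in `k`. -/
theorem exists_killFin (hc : ((LocCoh.HasSk 2 (Localization.Away f) (Localization.Away f) ∧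
      ∀ p : Ideal A, p ∈ minimalPrimes A → f ∉ p → (4 : WithBot ℕ∞) ≤ ringKrullDim (A ⧸ p)) ∨
    (∀ p : Ideal A, ∀ _ : p.IsPrime, f ∉ p → (p ⊔ Ideal.span {f}).radical ≠ maximalIdeal A →
      (3 : WithBot ℕ∞) < (LocCoh.depth (Localization.AtPrime p) (Localization.AtPrime p) : WithBot ℕ∞) +
        ringKrullDim (A ⧸ p))))
    (T : Ideal A) (N : ℕ) (hT : ∀ x ∈ T, f ^ N * x = 0) (hnz : Ideal.Quotient.mk T f ∈ nonZeroDivisors (A ⧸ T))
    [IsLocalRing (A ⧸ T)] :
    ∃ c : ℕ, ∀ (i : ℕ), 1 ≤ i → i ≤ 2 → ∀ k : ℕ, KillFin (Ideal.Quotient.mk T f ^ c)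
      (LocCoh.H (maximalIdeal (A ⧸ T)) i ((A ⧸ T) ⧸ Ideal.span {Ideal.Quotient.mk T f ^ k})) := by
  obtain ⟨c, hc⟩ := exists_killFin_base hω hn hc T N hT hnz
  refine ⟨c, fun i hi1 hi2 k => ?_⟩
  obtain ⟨φ, hφ⟩ := LocH.exists_semilinearEquiv (R := A) (R' := A ⧸ T) (maximalIdeal A) i
    ((A ⧸ T) ⧸ Ideal.span {Ideal.Quotient.mk T f ^ k})
  have hmax : (maximalIdeal A).map (algebraMap A (A ⧸ T)) = maximalIdeal (A ⧸ T) :=
    IsLocalRing.map_maximalIdeal_of_surjective (algebraMap A (A ⧸ T)) Ideal.Quotient.mk_surjective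
  have hfin := killFin_of_semilinear (A' := A ⧸ T) φ hφ (hc i hi1 hi2 k)
  rw [hmax, map_pow] at hfin
  exact hfin

end Groth.Agent.LefEssSurj.DualKill
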