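import Groth.Agent.DualCx.Local
import Groth.Agent.DualCx.Apps
import Groth.Agent.LocH.AdjDepthChange
import Groth.Agent.Purity.DepthPair

/-!
Vanishing of `Hom_D(A, ω[j])`, `-3 ≤ j ≤ -1`, at primes off `f` whose closure meets `f = 0` outside the closed point,
from depth hypotheses.
-/

universe u

open IsLocalRing

set_option autoImplicit false
set_option maxHeartbeats 1000000
set_option linter.style.haveILetI false

noncomputable section

namespace Groth.Agent.LefEssSurj.DualKill

variable {A : Type u} [CommRing A] [IsNoetherianRing A]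

/-- Depth and dimension of a localization at a prime avoiding `f` seen in the ring with `f` inverted. -/
theorem exists_prime_away {f : A} (q : PrimeSpectrum A) (hq : f ∉ q.asIdeal) :
    ∃ (P : Ideal (Localization.Away f)) (_ : P.IsPrime),
      Module.supportDim (Localization.AtPrime P) (LocalizedModule P.primeCompl (Localization.Away f)) =
        ringKrullDim (Localization.AtPrime q.asIdeal) ∧
      LocCoh.depth (Localization.AtPrime P) (LocalizedModule P.primeCompl (Localization.Away f)) =
        LocCoh.depth (Localization.AtPrime q.asIdeal) (Localization.AtPrime q.asIdeal) := by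
  let P : Ideal (Localization.Away f) := q.asIdeal.map (algebraMap A (Localization.Away f))
  have hd : Disjoint (Submonoid.powers f : Set A) (q.asIdeal : Set A) :=
    Set.disjoint_left.2 fun x ⟨n, hn⟩ hxq => hq (q.isPrime.mem_of_pow_mem n (by rw [show f ^ n = x from hn]; exact hxq))
  haveI hP : P.IsPrime := IsLocalization.isPrime_of_isPrime_disjoint (Submonoid.powers f) _ _ q.isPrime hd
  refine ⟨P, hP, ?_⟩
  have hcomap : P.comap (algebraMap A (Localization.Away f)) = q.asIdeal :=
    IsLocalization.comap_map_of_isPrime_disjoint (Submonoid.powers f) _ q.isPrime hd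
  haveI hloc : IsLocalization.AtPrime (Localization.AtPrime P) q.asIdeal := by
    have h := IsLocalization.isLocalization_isLocalization_atPrime_isLocalization (Submonoid.powers f)
      (Localization.AtPrime P) P
    unfold IsLocalization.AtPrime at h ⊢
    convert h using 2
    ext x
    simp only [Ideal.primeCompl, Submonoid.mem_mk, Subsemigroup.mem_mk, Set.mem_compl_iff, SetLike.mem_coe, hcomap]
  let e : Localization.AtPrime q.asIdeal ≃+* Localization.AtPrime P :=
    (IsLocalization.algEquiv q.asIdeal.primeCompl _ _).toRingEquiv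
  haveI : IsNoetherianRing (Localization.AtPrime P) :=
    IsLocalization.isNoetherianRing P.primeCompl _ (inferInstance)
  obtain ⟨l⟩ := DualCx.nonempty_localized_self (A := Localization.Away f) P
  refine ⟨?_, ?_⟩
  · rw [Module.supportDim_eq_of_equiv l, Module.supportDim_self_eq_ringKrullDim]
    exact (ringKrullDim_eq_of_ringEquiv e).symm
  · rw [LocCoh.depth, LocH.idealDepth_congr l, ← LocCoh.depth]
    exact Groth.Agent.Purity.depth_eq_of_ringEquiv e

variable [IsLocalRing A] {ω : Dual.D A} (hω : Dual.IsDualizing A ω) (hn : Dual.IsNormalized A ω) {f : A}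
include hω hn

theorem del_nonneg (q : PrimeSpectrum A) : 0 ≤ DualCx.del hω q := by
  rw [← DualCx.del_closed hω hn]
  exact DualCx.del_le hω (show q.asIdeal ≤ maximalIdeal A from le_maximalIdeal q.isPrime.ne_top)

theorem ringKrullDim_eq_del (q : PrimeSpectrum A) :
    ∃ d : ℕ, (d : ℤ) = DualCx.del hω q ∧ ringKrullDim (A ⧸ q.asIdeal) = (d : WithBot ℕ∞) :=
  ⟨(DualCx.del hω q).toNat, Int.toNat_of_nonneg (del_nonneg hω hn q), DualCx.ringKrullDim_quotient_eq hω hn q⟩

/-- The numerical hypothesis in both cases. -/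
theorem three_lt (hc : ((LocCoh.HasSk 2 (Localization.Away f) (Localization.Away f) ∧
      ∀ p : Ideal A, p ∈ minimalPrimes A → f ∉ p → (4 : WithBot ℕ∞) ≤ ringKrullDim (A ⧸ p)) ∨
    (∀ p : Ideal A, ∀ _ : p.IsPrime, f ∉ p → (p ⊔ Ideal.span {f}).radical ≠ maximalIdeal A →
      (3 : WithBot ℕ∞) < (LocCoh.depth (Localization.AtPrime p) (Localization.AtPrime p) : WithBot ℕ∞) +
        ringKrullDim (A ⧸ p))))
    {q p : PrimeSpectrum A} (hq : f ∉ q.asIdeal) (hqp : q ≤ p) (hfp : f ∈ p.asIdeal) (hp : p ≠ closedPoint A)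
    {n : ℕ} (hdep : LocCoh.depth (Localization.AtPrime q.asIdeal) (Localization.AtPrime q.asIdeal) ≤ n) :
    (3 : ℤ) < n + DualCx.del hω q := by
  obtain ⟨d, hd, hdim⟩ := ringKrullDim_eq_del hω hn q
  rcases hc with ⟨hS, hmin⟩ | hc
  swap
  · have hne : (q.asIdeal ⊔ Ideal.span {f}).radical ≠ maximalIdeal A := fun he => by
      refine hp (PrimeSpectrum.ext (le_antisymm (le_maximalIdeal p.isPrime.ne_top) ?_))
      show maximalIdeal A ≤ p.asIdeal
      rw [← he]
      exact p.isPrime.radical_le_iff.2 (sup_le hqp ((Ideal.span_singleton_le_iff_mem p.asIdeal).2 hfp))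
    have h := hc q.asIdeal q.isPrime hq hne
    rw [hdim] at h
    have h' : (3 : WithBot ℕ∞) < ((n : ℕ∞) : WithBot ℕ∞) + (d : WithBot ℕ∞) :=
      lt_of_lt_of_le h (add_le_add_left (WithBot.coe_le_coe.2 hdep) _)
    have : 3 < n + d := by
      have h'' : ((3 : ℕ∞) : WithBot ℕ∞) < (((n + d : ℕ) : ℕ∞) : WithBot ℕ∞) := by push_cast; exact h'
      exact_mod_cast WithBot.coe_lt_coe.1 h''
    lia
  obtain ⟨P, hP, hsd, hdp⟩ := exists_prime_away q hq
  have h := hS P
  rw [hsd, hdp] at h
  have h' := h.trans (WithBot.coe_le_coe.2 hdep)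
  rcases min_le_iff.1 h' with h2 | h2
  · have : 2 ≤ n := by
      have h'' : ((2 : ℕ∞) : WithBot ℕ∞) ≤ ((n : ℕ∞) : WithBot ℕ∞) := h2
      exact_mod_cast WithBot.coe_le_coe.1 h''
    have h1 : DualCx.del hω p < DualCx.del hω q := DualCx.del_lt hω (lt_of_le_of_ne hqp fun he => hq (he ▸ hfp))
    have h0 : DualCx.del hω (closedPoint A) < DualCx.del hω p :=
      DualCx.del_lt hω (lt_of_le_of_ne (show p.asIdeal ≤ maximalIdeal A from le_maximalIdeal p.isPrime.ne_top) hp)
    rw [DualCx.del_closed hω hn] at h0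
    lia
  · obtain ⟨p₀, hp₀, hp₀q⟩ := Ideal.exists_minimalPrimes_le (show (⊥ : Ideal A) ≤ q.asIdeal from bot_le)
    let r : PrimeSpectrum A := ⟨p₀, hp₀.1.1⟩
    obtain ⟨dr, hdr, hdimr⟩ := ringKrullDim_eq_del hω hn r
    have h4 := hmin p₀ hp₀ fun hm => hq (hp₀q hm)
    rw [hdimr] at h4
    have h4' : 4 ≤ dr := by exact_mod_cast h4
    have hle : DualCx.del hω q ≤ DualCx.del hω r := DualCx.del_le hω hp₀q
    have hsup : (((DualCx.del hω r - DualCx.del hω q).toNat : ℕ) : WithBot ℕ∞) ≤
        Module.supportDim (Localization.AtPrime q.asIdeal) (LocalizedModule q.asIdeal.primeCompl A) :=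
      DualCx.le_supportDim_localized hω (p := r) (Module.mem_support_iff_of_finite.2 (by
        rw [show Module.annihilator A A = ⊥ from le_bot_iff.1 fun a ha => by
          simpa using Module.mem_annihilator.1 ha 1]
        exact bot_le)) hp₀q _ (by lia)
    obtain ⟨l⟩ := DualCx.nonempty_localized_self (A := A) q.asIdeal
    rw [Module.supportDim_eq_of_equiv l, Module.supportDim_self_eq_ringKrullDim] at hsup
    have h5 : (DualCx.del hω r - DualCx.del hω q).toNat ≤ n := by exact_mod_cast hsup.trans h2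
    lia

theorem van_of_hyp (hc : ((LocCoh.HasSk 2 (Localization.Away f) (Localization.Away f) ∧
      ∀ p : Ideal A, p ∈ minimalPrimes A → f ∉ p → (4 : WithBot ℕ∞) ≤ ringKrullDim (A ⧸ p)) ∨
    (∀ p : Ideal A, ∀ _ : p.IsPrime, f ∉ p → (p ⊔ Ideal.span {f}).radical ≠ maximalIdeal A →
      (3 : WithBot ℕ∞) < (LocCoh.depth (Localization.AtPrime p) (Localization.AtPrime p) : WithBot ℕ∞) +
        ringKrullDim (A ⧸ p))))
    {q p : PrimeSpectrum A} (hq : f ∉ q.asIdeal) (hqp : q ≤ p) (hfp : f ∈ p.asIdeal) (hp : p ≠ closedPoint A)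
    {j : ℤ} (hj : -3 ≤ j) : DualCx.Van ω q.asIdeal A j := by
  by_cases hgt : -DualCx.del hω q < j
  · exact DualCx.van_gt hω hgt
  by_contra hv
  let l := (-DualCx.del hω q - j).toNat
  have hl : -DualCx.del hω q - (l : ℤ) = j := by lia
  have hd := (DualCx.depth_le_iff hω (M := A) q l).2 ⟨l, le_rfl, by rwa [hl]⟩
  obtain ⟨e⟩ := DualCx.nonempty_localized_self (A := A) q.asIdeal
  rw [LocCoh.depth, LocH.idealDepth_congr e, ← LocCoh.depth] at hd
  have := three_lt hω hn hc hq hqp hfp hp hd
  lia

end Groth.Agent.LefEssSurj.DualKill
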