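import Groth.Agent.LefEssSurj.PurStep
import Groth.Agent.S2947
import Groth.Agent.S0239

/-!
Extensions of single finite étale covers, through quotients by a formal parameter.
-/

universe u

open CategoryTheory CategoryTheory.Limits AlgebraicGeometry TopologicalSpace Opposite
open Groth.Agent.FormAlg

set_option autoImplicit false
set_option maxHeartbeats 1000000
set_option backward.isDefEq.respectTransparency false
set_option backward.isDefEq.respectTransparency.types false
set_option linter.style.haveILetI false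

noncomputable section

namespace Groth.Agent.LefEssSurj

/-- A cover of `U` extends along `j`. -/
def Extends {U X : Scheme.{u}} (j : U ⟶ X) (E : FEt.Cat U) : Prop :=
  ∃ G : FEt.Cat X, Nonempty ((FEt.restrict j).obj G ≅ E)

theorem extends_of_purityHolds {A : Type u} [CommRing A] [IsLocalRing A] (h : FEt.PurityHolds A)
    (E : FEt.Cat (FEt.puncturedSpec A : Scheme.{u})) : Extends (FEt.puncturedSpec A).ι E := by
  haveI : (FEt.restrict (FEt.puncturedSpec A).ι).EssSurj := h
  exact ⟨_, ⟨(FEt.restrict (FEt.puncturedSpec A).ι).objObjPreimageIso E⟩⟩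

theorem purityHolds_of_extends {A : Type u} [CommRing A] [IsLocalRing A]
    (h : ∀ E, Extends (FEt.puncturedSpec A).ι E) : FEt.PurityHolds A := ⟨h⟩

section Square

variable {X U X₀ Y : Scheme.{u}} {j : U ⟶ X} {i : Y ⟶ U} {j₀ : Y ⟶ X₀} {S : X₀ ⟶ X} (w : i ≫ j = j₀ ≫ S)

include w in
/-- Extension through a pair on which restriction is an equivalence. -/
theorem extends_of_square [(FEt.restrict S).EssSurj] [(FEt.restrict i).Full] [(FEt.restrict i).Faithful]
    (E : FEt.Cat U) (h : Extends j₀ ((FEt.restrict i).obj E)) : Extends j E := by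
  obtain ⟨G₀, ⟨η⟩⟩ := h
  let G := (FEt.restrict S).objPreimage G₀
  exact ⟨G, ⟨(FEt.restrict i).preimageIso (((restrictComp i j _ rfl).app G).symm ≪≫
    (restrictComp j₀ S _ w.symm).app G ≪≫ (FEt.restrict j₀).mapIso ((FEt.restrict S).objObjPreimageIso G₀) ≪≫ η)⟩⟩

include w in
/-- The equivalence through such a pair. -/
theorem isEquivalence_of_square [(FEt.restrict S).IsEquivalence] [(FEt.restrict i).Full]
    [(FEt.restrict i).Faithful] [(FEt.restrict j₀).IsEquivalence] : (FEt.restrict j).IsEquivalence := by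
  let e : FEt.restrict j ⋙ FEt.restrict i ≅ FEt.restrict S ⋙ FEt.restrict j₀ :=
    (restrictComp i j _ rfl).symm ≪≫ restrictComp j₀ S _ w.symm
  haveI : (FEt.restrict j ⋙ FEt.restrict i).Full := Functor.Full.of_iso e.symm
  haveI : (FEt.restrict j ⋙ FEt.restrict i).Faithful := Functor.Faithful.of_iso e.symm
  haveI : (FEt.restrict j).Faithful := Functor.Faithful.of_comp (FEt.restrict j) (FEt.restrict i)
  haveI : (FEt.restrict j).Full := Functor.Full.of_comp_faithful (FEt.restrict j) (FEt.restrict i)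
  haveI : (FEt.restrict j).EssSurj := ⟨fun E => extends_of_square w E
    ⟨_, ⟨(FEt.restrict j₀).objObjPreimageIso _⟩⟩⟩
  exact { }

end Square

/-- Under the Lefschetz condition restriction to the subscheme is fully faithful. -/
theorem full_faithful_of_lefCond {X : Scheme.{u}} [IsLocallyNoetherian X] (𝓘 : X.IdealSheafData)
    (h : Lef.LefCond X 𝓘) : (FEt.restrict 𝓘.subschemeι).Full ∧ (FEt.restrict 𝓘.subschemeι).Faithful := by
  obtain ⟨hfull, hfaith⟩ := Groth.Agent.S2947.result X 𝓘 h ⊤ (by simp)
  haveI := hfull; haveI := hfaith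
  haveI : IsIso (⊤ : X.Opens).ι := (Scheme.topIso X).isIso_hom
  haveI := restrict_isEquivalence_of_isIso (⊤ : X.Opens).ι
  obtain ⟨i, hi⟩ : ∃ i : 𝓘.subscheme ⟶ ((⊤ : X.Opens) : Scheme.{u}), i ≫ (⊤ : X.Opens).ι = 𝓘.subschemeι :=
    ⟨𝓘.subschemeι ≫ inv (⊤ : X.Opens).ι, by simp⟩
  obtain ⟨φ, hφ⟩ := exists_iso_comap (⊤ : X.Opens).ι 𝓘 i hi
  haveI := restrict_isEquivalence_of_isIso φ.hom
  let e : FEt.restrict 𝓘.subschemeι ≅ FEt.restrict (⊤ : X.Opens).ι ⋙
      (FEt.restrict (𝓘.comap (⊤ : X.Opens).ι).subschemeι ⋙ FEt.restrict φ.hom) :=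
    restrictComp i _ _ hi ≪≫ Functor.isoWhiskerLeft _ (restrictComp φ.hom _ _ hφ)
  exact ⟨Functor.Full.of_iso e.symm, Functor.Faithful.of_iso e.symm⟩

section Punct

variable {A : Type u} [CommRing A] [IsLocalRing A] (I : Ideal A) [IsLocalRing (A ⧸ I)]

theorem preimage_quotient : Spec.map (CommRingCat.ofHom (Ideal.Quotient.mk I)) ⁻¹ᵁ FEt.puncturedSpec A =
    FEt.puncturedSpec (A ⧸ I) := by
  haveI : IsLocalHom (Ideal.Quotient.mk I) := IsLocalHom.of_surjective _ Ideal.Quotient.mk_surjective
  exact preimage_punctured _ (by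
    rw [IsLocalRing.map_maximalIdeal_of_surjective _ Ideal.Quotient.mk_surjective]; exact Ideal.le_radical)

/-- The inclusion of the punctured spectrum of a quotient. -/
def punctMap : (FEt.puncturedSpec (A ⧸ I) : Scheme.{u}) ⟶ FEt.puncturedSpec A :=
  (Scheme.isoOfEq _ (preimage_quotient I)).inv ≫
    Spec.map (CommRingCat.ofHom (Ideal.Quotient.mk I)) ∣_ FEt.puncturedSpec A

theorem punctMap_ι : punctMap I ≫ (FEt.puncturedSpec A).ι =
    (FEt.puncturedSpec (A ⧸ I)).ι ≫ Spec.map (CommRingCat.ofHom (Ideal.Quotient.mk I)) := by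
  rw [punctMap, Category.assoc, morphismRestrict_ι, Scheme.isoOfEq_inv_ι_assoc]

instance : IsClosedImmersion (punctMap I) := by
  haveI : IsClosedImmersion (Spec.map (CommRingCat.ofHom (Ideal.Quotient.mk I))) :=
    IsClosedImmersion.spec_of_surjective _ Ideal.Quotient.mk_surjective
  haveI : IsClosedImmersion (Spec.map (CommRingCat.ofHom (Ideal.Quotient.mk I)) ∣_ FEt.puncturedSpec A) :=
    MorphismProperty.of_isPullback (P := @IsClosedImmersion) (isPullback_morphismRestrict _ _).flip inferInstance
  rw [punctMap]; infer_instance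

theorem ker_punctMap : (punctMap I).ker =
    (Spec.map (CommRingCat.ofHom (Ideal.Quotient.mk I))).ker.comap (FEt.puncturedSpec A).ι := by
  haveI : IsClosedImmersion (Spec.map (CommRingCat.ofHom (Ideal.Quotient.mk I))) :=
    IsClosedImmersion.spec_of_surjective _ Ideal.Quotient.mk_surjective
  refine Scheme.IdealSheafData.ext (funext fun V => ?_)
  rw [Scheme.IdealSheafData.ideal_comap_of_isOpenImmersion]
  exact Scheme.ker_ideal_of_isPullback_of_isOpenImmersion (Spec.map (CommRingCat.ofHom (Ideal.Quotient.mk I)))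
    (punctMap I) (FEt.puncturedSpec (A ⧸ I)).ι (FEt.puncturedSpec A).ι
    (by
      refine (isPullback_morphismRestrict (Spec.map (CommRingCat.ofHom (Ideal.Quotient.mk I)))
        (FEt.puncturedSpec A)).of_iso (Scheme.isoOfEq _ (preimage_quotient I))
        (Iso.refl _) (Iso.refl _) (Iso.refl _) ?_ ?_ ?_ ?_ <;> simp [punctMap]) V

/-- Restriction to the punctured spectrum of the quotient is fully faithful under the Lefschetz condition. -/
theorem full_faithful_punctMap [IsNoetherianRing A]
    (h : Lef.LefCond (↑(FEt.puncturedSpec A) : Scheme.{u})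
      ((Spec.map (CommRingCat.ofHom (Ideal.Quotient.mk I))).ker.comap (FEt.puncturedSpec A).ι)) :
    (FEt.restrict (punctMap I)).Full ∧ (FEt.restrict (punctMap I)).Faithful := by
  haveI : IsIso (punctMap I).toImage := inferInstance
  haveI := restrict_isEquivalence_of_isIso (punctMap I).toImage
  rw [← ker_punctMap] at h
  obtain ⟨h1, h2⟩ := full_faithful_of_lefCond _ h
  haveI := h1; haveI := h2
  let e : FEt.restrict (punctMap I) ≅ FEt.restrict (punctMap I).ker.subschemeι ⋙ FEt.restrict (punctMap I).toImage :=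
    restrictComp (punctMap I).toImage _ _ (punctMap I).toImage_imageι
  exact ⟨Functor.Full.of_iso e.symm, Functor.Faithful.of_iso e.symm⟩

end Punct

theorem isEquivalence_transfer {X Y X' Y' : Scheme.{u}} (j : X ⟶ Y) (j' : X' ⟶ Y') (a : X' ⟶ X) (b : Y' ⟶ Y)
    [IsIso a] [IsIso b] (w : a ≫ j = j' ≫ b) [(FEt.restrict j').IsEquivalence] :
    (FEt.restrict j).IsEquivalence := by
  haveI := restrict_isEquivalence_of_isIso a
  haveI := restrict_isEquivalence_of_isIso b
  exact isEquivalence_of_square w

theorem isPurePair_punctured_iff {A : Type u} [CommRing A] [IsLocalRing A] :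
    SGA2.IsPurePair (Spec (CommRingCat.of A)) (FEt.puncturedSpec A) ↔
      (FEt.restrict (FEt.puncturedSpec A).ι).IsEquivalence := by
  let T : (Spec (CommRingCat.of A)).Opens := ⊤
  have hTU : T ⊓ FEt.puncturedSpec A = FEt.puncturedSpec A := top_inf_eq _
  haveI : IsIso T.ι := (Scheme.topIso _).isIso_hom
  constructor
  · intro h
    haveI := h T
    exact isEquivalence_transfer (FEt.puncturedSpec A).ι
      ((Spec (CommRingCat.of A)).homOfLE (inf_le_left : T ⊓ FEt.puncturedSpec A ≤ T)) (Scheme.isoOfEq _ hTU).hom T.ι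
      (by simp [Scheme.homOfLE_ι])
  · intro h V
    by_cases hc : IsLocalRing.closedPoint A ∈ V
    · obtain rfl : V = T := top_le_iff.1 fun x _ =>
        ((PrimeSpectrum.le_iff_specializes x (IsLocalRing.closedPoint A)).1 (show x.asIdeal ≤ IsLocalRing.maximalIdeal A from
          IsLocalRing.le_maximalIdeal x.2.ne_top)).mem_open V.isOpen hc
      exact isEquivalence_transfer _ (FEt.puncturedSpec A).ι (Scheme.isoOfEq _ hTU).inv
        (inv T.ι) (by rw [← cancel_mono T.ι]; simp [Scheme.homOfLE_ι])
    · have hle : V ≤ FEt.puncturedSpec A := fun x hx (e : x = _) => hc (e ▸ hx)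
      haveI : IsIso ((Spec (CommRingCat.of A)).homOfLE (inf_le_left : V ⊓ FEt.puncturedSpec A ≤ V)) :=
        ⟨(Spec (CommRingCat.of A)).homOfLE (le_inf le_rfl hle), by simp, by simp⟩
      exact restrict_isEquivalence_of_isIso _

/-- One step: a cover of the punctured spectrum extends if its restriction modulo a parameter does. -/
theorem extends_of_quotient {A : Type u} [CommRing A] [IsNoetherianRing A] [IsLocalRing A] {R : Type u}
    [CommRing R] [IsRegularRing R] (π : R →+* A) (hπ : Function.Surjective π) (t : A)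
    (ht : t ∈ IsLocalRing.maximalIdeal A) (hreg : IsSMulRegular A t) [IsAdicComplete (Ideal.span {t}) A]
    [IsLocalRing (A ⧸ Ideal.span {t})]
    (hdepth : ∀ p : PrimeSpectrum A, ringKrullDim (A ⧸ p.asIdeal) = 1 →
      (2 : ℕ∞) ≤ LocCoh.depth (Localization.AtPrime p.asIdeal) (Localization.AtPrime p.asIdeal))
    (E : FEt.Cat (FEt.puncturedSpec A : Scheme.{u}))
    (h : Extends (FEt.puncturedSpec (A ⧸ Ideal.span {t})).ι ((FEt.restrict (punctMap (Ideal.span {t}))).obj E)) :
    Extends (FEt.puncturedSpec A).ι E := by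
  haveI := Groth.Agent.S0239.result A (Ideal.span {t})
  obtain ⟨h1, h2⟩ := full_faithful_punctMap (Ideal.span {t}) (lefCond_punctured π hπ t ht hreg hdepth)
  haveI := h1; haveI := h2
  exact extends_of_square (punctMap_ι (Ideal.span {t})) E h

end Groth.Agent.LefEssSurj
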