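import Groth.Agent.LocH.Sequence
import Groth.Agent.LocH.Vanishing
import Groth.Agent.FormAlg.KillFin

/-!
Finiteness of local cohomology of `A/f` passes to all `A/f^k`.
-/

universe u

open CategoryTheory
open Groth.Agent.FormAlg (KillFin)

set_option autoImplicit false
set_option linter.style.haveILetI false

noncomputable section

namespace Groth.Agent.LefEssSurj

theorem finite_H_quotient_pow {A : Type u} [CommRing A] [IsNoetherianRing A] {f : A} (hnz : f ∈ nonZeroDivisors A)
    (I : Ideal A) (i : ℕ) (h : Module.Finite A (LocCoh.H I i (A ⧸ Ideal.span {f}))) :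
    ∀ k : ℕ, KillFin (1 : A) (LocCoh.H I i (A ⧸ Ideal.span {f ^ k})) := by
  intro k
  induction k with
  | zero =>
    haveI : Subsingleton (A ⧸ Ideal.span {f ^ 0}) := by
      rw [pow_zero, Ideal.span_singleton_one]
      exact Ideal.Quotient.subsingleton_iff.2 rfl
    have hz : Limits.IsZero (ModuleCat.of A (A ⧸ Ideal.span {f ^ 0})) := ModuleCat.isZero_of_subsingleton _
    haveI : Subsingleton (LocCoh.H I i (A ⧸ Ideal.span {f ^ 0})) :=
      ModuleCat.subsingleton_of_isZero (Functor.map_isZero (localCohomology I i) hz)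
    exact KillFin.of_finite
  | succ k ih =>
    haveI := h
    let a : (A ⧸ Ideal.span {f}) →ₗ[A] A ⧸ Ideal.span {f ^ (k + 1)} :=
      Submodule.mapQ (Ideal.span {f}) (Ideal.span {f ^ (k + 1)}) (f ^ k • LinearMap.id) (by
        rw [Ideal.span, Submodule.span_le, Set.singleton_subset_iff]
        exact Ideal.mem_span_singleton.2 ⟨1, by rw [mul_one]; exact (pow_succ f k).symm⟩)
    let b : (A ⧸ Ideal.span {f ^ (k + 1)}) →ₗ[A] A ⧸ Ideal.span {f ^ k} :=
      Submodule.mapQ _ _ LinearMap.id (Ideal.span_singleton_le_span_singleton.2 (pow_dvd_pow f (Nat.le_succ k)))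
    have hab : b ∘ₗ a = 0 := Submodule.linearMap_qext _ (LinearMap.ext fun x =>
      (Submodule.Quotient.mk_eq_zero _).2 (Ideal.mem_span_singleton.2 ⟨x, rfl⟩))
    let S : ShortComplex (ModuleCat.{u} A) :=
      ShortComplex.mk (ModuleCat.ofHom a) (ModuleCat.ofHom b) (ModuleCat.hom_ext hab)
    have hS : S.ShortExact :=
      { exact := (ShortComplex.moduleCat_exact_iff S).2 fun x hx => by
          obtain ⟨x, rfl⟩ := Submodule.mkQ_surjective _ x
          obtain ⟨y, hy⟩ := Ideal.mem_span_singleton.1 ((Submodule.Quotient.mk_eq_zero (Ideal.span {f ^ k})).1 hx)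
          exact ⟨Submodule.Quotient.mk y, congrArg (Submodule.Quotient.mk (p := Ideal.span {f ^ (k + 1)}))
            (show f ^ k • y = x from hy.symm)⟩
        mono_f := (ModuleCat.mono_iff_injective _).2 ((injective_iff_map_eq_zero a).2 fun x hx => by
          obtain ⟨x, rfl⟩ := Submodule.mkQ_surjective _ x
          obtain ⟨y, hy⟩ := Ideal.mem_span_singleton.1
            ((Submodule.Quotient.mk_eq_zero (Ideal.span {f ^ (k + 1)})).1 hx)
          refine (Submodule.Quotient.mk_eq_zero _).2 (Ideal.mem_span_singleton.2 ⟨y, ?_⟩)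
          refine sub_eq_zero.1 (mem_nonZeroDivisors_iff_right.1 (pow_mem hnz k) _ ?_)
          have hy' : f ^ k * x = f ^ (k + 1) * y := hy
          linear_combination hy')
        epi_g := (ModuleCat.epi_iff_surjective _).2 fun x => by
          obtain ⟨x, rfl⟩ := Submodule.mkQ_surjective _ x
          exact ⟨Submodule.Quotient.mk x, rfl⟩ }
    have h1 : KillFin (1 : A) (LocCoh.H I i (A ⧸ Ideal.span {f})) := KillFin.of_finite
    have := KillFin.of_exact ((localCohomology I i).map S.f).hom ((localCohomology I i).map S.g).hom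
      (fun x hx => LocH.exact₂ hS i hx) h1 ih
    rwa [one_mul] at this

end Groth.Agent.LefEssSurj
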