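import Groth.Agent.LefEssSurj.Extends
import Groth.Agent.FlatDepth.Serre
import Groth.Agent.TorCI.CIFlat
import Groth.Agent.S11650
import Groth.Agent.S5777
import Groth.Agent.S0238
import Groth.Agent.S0320

/-!
Extension of covers from the closed fibre of a flat local homomorphism.
-/

universe u

open CategoryTheory CategoryTheory.Limits AlgebraicGeometry TopologicalSpace Opposite
open Groth.Agent.FormAlg IsLocalRing

set_option autoImplicit false
set_option maxHeartbeats 1000000
set_option backward.isDefEq.respectTransparency false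
set_option backward.isDefEq.respectTransparency.types false
set_option linter.style.haveILetI false

noncomputable section

namespace Groth.Agent.LefEssSurj

section PMap

variable {B C D : Type u} [CommRing B] [IsLocalRing B] [CommRing C] [IsLocalRing C] [CommRing D] [IsLocalRing D]
  (φ : B →+* C) (hφ : Function.Surjective φ) (ψ : C →+* D) (hψ : Function.Surjective ψ)

include hφ in
theorem preimage_surj : Spec.map (CommRingCat.ofHom φ) ⁻¹ᵁ FEt.puncturedSpec B = FEt.puncturedSpec C := by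
  haveI : IsLocalHom φ := IsLocalHom.of_surjective _ hφ
  exact preimage_punctured _ (by rw [map_maximalIdeal_of_surjective _ hφ]; exact Ideal.le_radical)

/-- The map of punctured spectra of a surjection. -/
def pmap : (FEt.puncturedSpec C : Scheme.{u}) ⟶ FEt.puncturedSpec B :=
  (Scheme.isoOfEq _ (preimage_surj φ hφ)).inv ≫ Spec.map (CommRingCat.ofHom φ) ∣_ FEt.puncturedSpec B

theorem pmap_ι : pmap φ hφ ≫ (FEt.puncturedSpec B).ι =
    (FEt.puncturedSpec C).ι ≫ Spec.map (CommRingCat.ofHom φ) := by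
  rw [pmap, Category.assoc, morphismRestrict_ι, Scheme.isoOfEq_inv_ι_assoc]

theorem pmap_comp : pmap (ψ.comp φ) (hψ.comp hφ) = pmap ψ hψ ≫ pmap φ hφ := by
  rw [← cancel_mono (FEt.puncturedSpec B).ι, pmap_ι, Category.assoc, pmap_ι, ← Category.assoc, pmap_ι,
    Category.assoc, ← Spec.map_comp]
  rfl

/-- The restriction to the punctured spectrum of `C` extends. -/
def ExtTo (E : FEt.Cat (FEt.puncturedSpec B : Scheme.{u})) : Prop :=
  Extends (FEt.puncturedSpec C).ι ((FEt.restrict (pmap φ hφ)).obj E)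

end PMap

theorem Extends.of_iso {U X : Scheme.{u}} {j : U ⟶ X} {E E' : FEt.Cat U} (h : Extends j E) (e : E ≅ E') :
    Extends j E' := let ⟨G, ⟨η⟩⟩ := h; ⟨G, ⟨η ≪≫ e⟩⟩

theorem ExtTo.restrict {B C D : Type u} [CommRing B] [IsLocalRing B] [CommRing C] [IsLocalRing C] [CommRing D]
    [IsLocalRing D] {φ : B →+* C} {hφ : Function.Surjective φ} {ψ : C →+* D} {hψ : Function.Surjective ψ}
    {χ : B →+* D} {hχ : Function.Surjective χ} (hc : ψ.comp φ = χ) {E : FEt.Cat (FEt.puncturedSpec B : Scheme.{u})}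
    (h : ExtTo χ hχ E) : ExtTo ψ hψ ((FEt.restrict (pmap φ hφ)).obj E) := by
  subst hc
  exact h.of_iso ((restrictComp (pmap ψ hψ) (pmap φ hφ) _ (pmap_comp φ hφ ψ hψ).symm).app E)

/-- A nilpotent quotient does not matter. -/
theorem extends_of_nilpotent {B C : Type u} [CommRing B] [IsLocalRing B] [CommRing C] [IsLocalRing C]
    (φ : B →+* C) (hφ : Function.Surjective φ) (hnil : RingHom.ker φ ≤ nilradical B)
    (E : FEt.Cat (FEt.puncturedSpec B : Scheme.{u})) (h : ExtTo φ hφ E) :
    Extends (FEt.puncturedSpec B).ι E := by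
  let S := Spec.map (CommRingCat.ofHom φ)
  haveI : IsClosedImmersion S := IsClosedImmersion.spec_of_surjective _ hφ
  haveI : Surjective S := ⟨fun x => by
    have hx : x ∈ PrimeSpectrum.zeroLocus (RingHom.ker φ : Set B) :=
      fun a ha => (nilpotent_iff_mem_prime.1 (mem_nilradical.1 (hnil ha)) x.asIdeal x.isPrime)
    rw [← range_comap_of_surjective _ φ hφ] at hx
    exact hx⟩
  haveI : IsClosedImmersion (S ∣_ FEt.puncturedSpec B) :=
    MorphismProperty.of_isPullback (P := @IsClosedImmersion) (isPullback_morphismRestrict _ _).flip inferInstance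
  haveI : Surjective (S ∣_ FEt.puncturedSpec B) :=
    MorphismProperty.of_isPullback (P := @Surjective) (isPullback_morphismRestrict _ _).flip inferInstance
  haveI : IsClosedImmersion (pmap φ hφ) := by rw [pmap]; infer_instance
  haveI : Surjective (pmap φ hφ) := by rw [pmap]; infer_instance
  haveI := Groth.Agent.S0238.result (pmap φ hφ)
  haveI := Groth.Agent.S0238.result S
  exact extends_of_square (pmap_ι φ hφ) E h

/-- Base change of flatness to a quotient of the base. -/
theorem flat_quotientMap {A B : Type u} [CommRing A] [CommRing B] (φ : A →+* B) (hflat : φ.Flat) (I : Ideal A) :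
    (Ideal.quotientMap (I.map φ) φ Ideal.le_comap_map).Flat := by
  letI := φ.toAlgebra
  haveI : Module.Flat A B := hflat
  let ψ := Ideal.quotientMap (I.map φ) φ Ideal.le_comap_map
  letI := ψ.toAlgebra
  haveI : IsScalarTower A (A ⧸ I) (B ⧸ I.map φ) := IsScalarTower.of_algebraMap_eq fun a =>
    (Ideal.quotientMap_mk (H := Ideal.le_comap_map) (x := a)).symm
  have hJ : (I • ⊤ : Submodule A B) = (I.map φ).restrictScalars A := Ideal.smul_top_eq_map I
  let e : (B ⧸ (I • ⊤ : Submodule A B)) ≃ₗ[A] B ⧸ I.map φ :=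
    (Submodule.quotEquivOfEq _ _ hJ).trans (Submodule.Quotient.restrictScalarsEquiv A (I.map φ))
  haveI := S5777.flat_quot I B
  exact (Module.Flat.of_linearEquiv (e.extendScalarsOfSurjective (S := A ⧸ I) Ideal.Quotient.mk_surjective).symm :
    Module.Flat (A ⧸ I) (B ⧸ I.map φ))

theorem isLocalHom_quotientMap {A B : Type u} [CommRing A] [CommRing B] (φ : A →+* B) [IsLocalHom φ] (I : Ideal A)
    [IsLocalRing A] [IsLocalRing B] [IsLocalRing (A ⧸ I)] [IsLocalRing (B ⧸ I.map φ)] :
    IsLocalHom (Ideal.quotientMap (I.map φ) φ Ideal.le_comap_map) := by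
  haveI : IsLocalHom (Ideal.Quotient.mk (I.map φ)) := IsLocalHom.of_surjective _ Ideal.Quotient.mk_surjective
  refine ⟨fun a ha => ?_⟩
  obtain ⟨a, rfl⟩ := Ideal.Quotient.mk_surjective a
  rw [Ideal.quotientMap_mk] at ha
  exact (isUnit_of_map_unit φ a (isUnit_of_map_unit (Ideal.Quotient.mk (I.map φ)) _ ha)).map _

/-- The fibre map after dividing the base. -/
theorem exists_fibre_lift {A B F : Type u} [CommRing A] [IsLocalRing A] [CommRing B] [CommRing F]
    (φ : A →+* B) (q : B →+* F) (hq : Function.Surjective q)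
    (hker : RingHom.ker q = (maximalIdeal A).map φ) (I : Ideal A) [IsLocalRing (A ⧸ I)] (hI : I ≤ maximalIdeal A) :
    ∃ (q' : B ⧸ I.map φ →+* F) (_ : Function.Surjective q'), q'.comp (Ideal.Quotient.mk (I.map φ)) = q ∧
      RingHom.ker q' = (maximalIdeal (A ⧸ I)).map (Ideal.quotientMap (I.map φ) φ Ideal.le_comap_map) := by
  have hle : ∀ b ∈ I.map φ, q b = 0 := fun b hb =>
    RingHom.mem_ker.1 (hker ▸ Ideal.map_mono hI hb)
  refine ⟨Ideal.Quotient.lift _ q hle, fun x => ?_, RingHom.ext fun b => rfl, ?_⟩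
  · obtain ⟨b, rfl⟩ := hq x
    exact ⟨Ideal.Quotient.mk _ b, rfl⟩
  · rw [Ideal.ker_quotient_lift, hker, ← map_maximalIdeal_of_surjective (Ideal.Quotient.mk I)
      Ideal.Quotient.mk_surjective, Ideal.map_map, Ideal.map_map]
    rfl

/-- The saturation of zero, and a parameter regular modulo it. -/
theorem exists_saturation (A : Type u) [CommRing A] [IsNoetherianRing A] [IsLocalRing A]
    (hdim : maximalIdeal A ∉ minimalPrimes A) :
    ∃ J : Ideal A, J ≤ nilradical A ∧ J ≤ maximalIdeal A ∧ ∃ t ∈ maximalIdeal A,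
      ∀ x : A, x * t ∈ J → x ∈ J := by
  classical
  obtain ⟨J, ⟨k, hk⟩, hmax⟩ := (wellFounded_gt (α := Ideal A)).has_min
    {J : Ideal A | ∃ k, J * maximalIdeal A ^ k = ⊥} ⟨⊥, 0, by simp⟩
  have hnil : J ≤ nilradical A := by
    rw [nilradical_eq_sInf]
    refine le_sInf fun p hp => ?_
    haveI : p.IsPrime := hp
    obtain ⟨p₀, hp₀, hle⟩ := Ideal.exists_minimalPrimes_le (bot_le : ⊥ ≤ p)
    refine le_trans ?_ hle
    haveI := hp₀.1.1
    rcases (Ideal.IsPrime.mul_le hp₀.1.1).1 (hk.le.trans bot_le) with h | h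
    · exact h
    · exact absurd ((maximalIdeal.isMaximal A).eq_of_le hp₀.1.1.ne_top (Ideal.IsPrime.le_of_pow_le h)).symm
        (fun e => hdim (e ▸ hp₀))
  have hJm : J ≤ maximalIdeal A := hnil.trans (nilradical_le_prime _)
  refine ⟨J, hnil, hJm, ?_⟩
  have hsat : ∀ x : A, (∀ a ∈ maximalIdeal A, x * a ∈ J) → x ∈ J := fun x hx => by
    by_contra hxJ
    refine hmax (J ⊔ Ideal.span {x}) ⟨k + 1, ?_⟩ (lt_of_le_of_ne le_sup_left fun e =>
      hxJ (e ▸ Ideal.mem_sup_right (Ideal.mem_span_singleton_self x)))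
    have e1 : J * maximalIdeal A ^ (k + 1) = ⊥ := by rw [pow_succ, ← mul_assoc, hk, Ideal.bot_mul]
    have e2 : Ideal.span {x} * maximalIdeal A ^ (k + 1) = ⊥ := by
      rw [pow_succ', ← mul_assoc]
      exact le_bot_iff.1 ((Ideal.mul_mono_left (Ideal.span_singleton_mul_le_iff.2 fun a ha => hx a ha)).trans hk.le)
    rw [Ideal.sup_mul, e1, e2, sup_bot_eq]
  haveI : Module.Finite A (A ⧸ J) := Module.Finite.quotient A J
  by_contra hc
  push_neg at hc
  have hsub : (maximalIdeal A : Set A) ⊆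
      ⋃ p ∈ (↑(associatedPrimes.finite A (A ⧸ J)).toFinset : Set (Ideal A)), (p : Set A) := fun t ht => by
    obtain ⟨x, hxt, hx⟩ := hc t ht
    have : t ∈ {a : A | ¬ IsSMulRegular (A ⧸ J) a} := fun hr => hx (Ideal.Quotient.eq_zero_iff_mem.1
      (hr (show t • Ideal.Quotient.mk J x = t • 0 by
        rw [smul_zero, Algebra.smul_def, Ideal.Quotient.algebraMap_eq, ← map_mul, mul_comm,
          Ideal.Quotient.eq_zero_iff_mem.2 hxt])))
    replace this : t ∈ {a : A | IsSMulRegular (A ⧸ J) a}ᶜ := this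
    rw [← biUnion_associatedPrimes_eq_compl_regular] at this
    obtain ⟨p, hp, htp⟩ := Set.mem_iUnion₂.1 this
    exact Set.mem_biUnion ((associatedPrimes.finite A (A ⧸ J)).mem_toFinset.2 hp) htp
  obtain ⟨p, hp, hmp⟩ := (Ideal.subset_union_prime ⊥ ⊥ fun p hp _ _ =>
    ((associatedPrimes.finite A (A ⧸ J)).mem_toFinset.1 hp).isPrime).1 hsub
  obtain ⟨hpp, x, hx⟩ := isAssociatedPrime_iff.1 ((associatedPrimes.finite A (A ⧸ J)).mem_toFinset.1 hp)
  obtain ⟨x, rfl⟩ := Ideal.Quotient.mk_surjective x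
  have hxJ : x ∈ J := hsat x fun a ha => by
    have h' := hmp ha
    rw [hx, Submodule.mem_colon_singleton, Submodule.mem_bot, Algebra.smul_def,
      Ideal.Quotient.algebraMap_eq, ← map_mul, Ideal.Quotient.eq_zero_iff_mem, mul_comm] at h'
    exact h'
  exact hpp.ne_top (hx.trans (by rw [Ideal.Quotient.eq_zero_iff_mem.2 hxJ]; ext; simp [Submodule.mem_colon_singleton]))

/-- A regular element in the maximal ideal gives positive depth. -/
theorem one_le_depth_of_regular {A : Type u} [CommRing A] [IsNoetherianRing A] [IsLocalRing A] {t : A}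
    (ht : t ∈ maximalIdeal A) (hreg : t ∈ nonZeroDivisors A) : (1 : ℕ∞) ≤ LocCoh.depth A A := by
  have hIM : maximalIdeal A • (⊤ : Submodule A A) ≠ ⊤ :=
    (Submodule.top_ne_ideal_smul_of_le_jacobson_annihilator (maximalIdeal_le_jacobson _)).symm
  have h1 := Groth.Agent.S0320.result A (maximalIdeal A) A hIM t ht fun a b hab => sub_eq_zero.1
    (mem_nonZeroDivisors_iff_right.1 hreg (a - b) (by
      simp only [smul_eq_mul] at hab; rw [sub_mul, mul_comm a, hab, mul_comm t b, sub_self]))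
  exact le_add_self.trans_eq h1

/-- Depth at primes of coheight one. -/
theorem depth_coheight_one {B : Type u} [CommRing B] [IsNoetherianRing B] [IsLocalRing B]
    (h : (3 : ℕ∞) ≤ LocCoh.depth B B) (p : PrimeSpectrum B) (hp : ringKrullDim (B ⧸ p.asIdeal) = 1) :
    (2 : ℕ∞) ≤ LocCoh.depth (Localization.AtPrime p.asIdeal) (Localization.AtPrime p.asIdeal) := by
  have hm : p.asIdeal ≤ maximalIdeal B := le_maximalIdeal p.isPrime.ne_top
  have key := Groth.Agent.S11650.result B B p.asIdeal (maximalIdeal B) hm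
  haveI : IsLocalRing (B ⧸ p.asIdeal) := .of_surjective' _ Ideal.Quotient.mk_surjective
  rw [map_maximalIdeal_of_surjective _ Ideal.Quotient.mk_surjective] at key
  have hht : (maximalIdeal (B ⧸ p.asIdeal)).height = 1 := by
    rw [← WithBot.coe_inj, maximalIdeal_height_eq_ringKrullDim, hp]; rfl
  rw [hht] at key
  haveI : IsNoetherianRing (Localization.AtPrime (maximalIdeal B)) :=
    IsLocalization.isNoetherianRing (maximalIdeal B).primeCompl _ inferInstance
  haveI : IsNoetherianRing (Localization.AtPrime p.asIdeal) :=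
    IsLocalization.isNoetherianRing p.asIdeal.primeCompl _ inferInstance
  have e1 : ∀ (q : Ideal B) [q.IsPrime] [IsNoetherianRing (Localization.AtPrime q)],
      LocCoh.depth (Localization.AtPrime q) (LocalizedModule q.primeCompl B) =
        LocCoh.depth (Localization.AtPrime q) (Localization.AtPrime q) := fun q _ _ =>
    LocH.idealDepth_congr ((IsLocalizedModule.iso q.primeCompl (Algebra.linearMap B (Localization.AtPrime q))).extendScalarsOfIsLocalization
      q.primeCompl (Localization.AtPrime q)) _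
  rw [e1, e1, FlatDepth.depth_ringEquiv (IsLocalization.atUnits B (maximalIdeal B).primeCompl
    (fun x hx => notMem_maximalIdeal.1 hx)).symm.toRingEquiv] at key
  have h' := h.trans key
  exact (WithTop.add_le_add_iff_right (by simp : (1 : ℕ∞) ≠ ⊤)).1 (le_of_eq_of_le (by norm_num) h')

theorem dim_quotient_le {A : Type u} [CommRing A] (I : Ideal A) : ringKrullDim (A ⧸ I) ≤ ringKrullDim A :=
  ringKrullDim_quotient_le I

/-- Covers of the punctured spectrum extend when they extend on the closed fibre. -/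
theorem extends_of_fibre : ∀ (n : ℕ) (A : Type u) [CommRing A] [IsNoetherianRing A] [IsLocalRing A],
    ringKrullDim A ≤ n → ∀ (B : Type u) [CommRing B] [IsNoetherianRing B] [IsLocalRing B]
    [IsAdicComplete (maximalIdeal B) B] (φ : A →+* B) [IsLocalHom φ], φ.Flat →
    ∀ (F : Type u) [CommRing F] [IsNoetherianRing F] [IsLocalRing F] (q : B →+* F) (hq : Function.Surjective q),
    RingHom.ker q = (maximalIdeal A).map φ → (2 : ℕ∞) ≤ LocCoh.depth F F →
    ∀ E : FEt.Cat (FEt.puncturedSpec B : Scheme.{u}), ExtTo q hq E → Extends (FEt.puncturedSpec B).ι E := by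
  intro n
  induction n with
  | zero =>
    intro A _ _ _ hn B _ _ _ _ φ _ _ F _ _ _ q hq hker _ E h
    haveI : Ring.KrullDimLE 0 A := Ring.krullDimLE_iff.2 hn
    refine extends_of_nilpotent q hq ?_ E h
    rw [hker, Ideal.map_le_iff_le_comap]
    intro a ha
    rw [Ideal.mem_comap, mem_nilradical]
    exact IsNilpotent.map (Ring.KrullDimLE.isNilpotent_iff_mem_maximalIdeal.2 ha) φ
  | succ n ih =>
    intro A _ _ _ hn B _ _ _ _ φ _ hflat F _ _ _ q hq hker hdF E h
    by_cases hsmall : ringKrullDim A ≤ n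
    · exact ih A hsmall B φ hflat F q hq hker hdF E h
    have hdim : maximalIdeal A ∉ minimalPrimes A := fun hmin => hsmall (by
      haveI : Ring.KrullDimLE 0 A := Ring.KrullDimLE.mk₀ fun p hp => by
        have hpm := le_maximalIdeal hp.ne_top
        rw [le_antisymm hpm (hmin.2 ⟨hp, bot_le⟩ hpm)]; infer_instance
      exact (Ring.krullDimLE_iff.1 this).trans (by exact_mod_cast Nat.zero_le n))
    obtain ⟨J, hJnil, hJm, t₀, ht₀, hreg⟩ := exists_saturation A hdim
    haveI : Nontrivial (A ⧸ J) := Ideal.Quotient.nontrivial_iff.2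
      fun e => (maximalIdeal.isMaximal A).ne_top (top_le_iff.1 (e ▸ hJm))
    haveI : IsLocalRing (A ⧸ J) := .of_surjective' _ Ideal.Quotient.mk_surjective
    have hJB : J.map φ ≤ nilradical B := Ideal.map_le_iff_le_comap.2 fun a ha =>
      mem_nilradical.2 (IsNilpotent.map (mem_nilradical.1 (hJnil ha)) φ)
    haveI : Nontrivial (B ⧸ J.map φ) := Ideal.Quotient.nontrivial_iff.2
      fun e => (maximalIdeal.isMaximal B).ne_top (top_le_iff.1 (e ▸ hJB.trans (nilradical_le_prime _)))
    haveI : IsLocalRing (B ⧸ J.map φ) := .of_surjective' _ Ideal.Quotient.mk_surjective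
    haveI : IsAdicComplete (maximalIdeal (B ⧸ J.map φ)) (B ⧸ J.map φ) := EGA41FS.isAdicComplete_quotient _
    obtain ⟨q₁, hq₁, hc₁, hker₁⟩ := exists_fibre_lift φ q hq hker J hJm
    let φ₁ := Ideal.quotientMap (J.map φ) φ Ideal.le_comap_map
    haveI : IsLocalHom φ₁ := isLocalHom_quotientMap φ J
    have hflat₁ : φ₁.Flat := flat_quotientMap φ hflat J
    refine extends_of_nilpotent (Ideal.Quotient.mk (J.map φ)) Ideal.Quotient.mk_surjective
      (by rw [Ideal.mk_ker]; exact hJB) E ?_
    let E₁ := (FEt.restrict (pmap (Ideal.Quotient.mk (J.map φ)) Ideal.Quotient.mk_surjective)).obj E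
    have h₁ : ExtTo q₁ hq₁ E₁ := ExtTo.restrict hc₁ h
    show Extends (FEt.puncturedSpec (B ⧸ J.map φ)).ι E₁
    let t := Ideal.Quotient.mk J t₀
    have htm : t ∈ maximalIdeal (A ⧸ J) := by
      rw [← map_maximalIdeal_of_surjective _ Ideal.Quotient.mk_surjective]; exact Ideal.mem_map_of_mem _ ht₀
    have htnz : t ∈ nonZeroDivisors (A ⧸ J) := mem_nonZeroDivisors_iff_right.2 fun z hz => by
      obtain ⟨z, rfl⟩ := Ideal.Quotient.mk_surjective z
      rw [← map_mul, Ideal.Quotient.eq_zero_iff_mem] at hz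
      exact Ideal.Quotient.eq_zero_iff_mem.2 (hreg z hz)
    haveI : Nontrivial ((A ⧸ J) ⧸ Ideal.span {t}) := Ideal.Quotient.nontrivial_iff.2
      fun e => (maximalIdeal.isMaximal (A ⧸ J)).ne_top (top_le_iff.1 (e ▸ (Ideal.span_singleton_le_iff_mem _).2 htm))
    haveI : IsLocalRing ((A ⧸ J) ⧸ Ideal.span {t}) := .of_surjective' _ Ideal.Quotient.mk_surjective
    have hmap : (Ideal.span {t}).map φ₁ = Ideal.span {φ₁ t} := by rw [Ideal.map_span, Set.image_singleton]
    have hsm : φ₁ t ∈ maximalIdeal (B ⧸ J.map φ) := map_nonunit φ₁ t htm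
    haveI : Nontrivial ((B ⧸ J.map φ) ⧸ (Ideal.span {t}).map φ₁) := Ideal.Quotient.nontrivial_iff.2
      fun e => (maximalIdeal.isMaximal (B ⧸ J.map φ)).ne_top
        (top_le_iff.1 (e ▸ hmap.le.trans ((Ideal.span_singleton_le_iff_mem _).2 hsm)))
    haveI : IsLocalRing ((B ⧸ J.map φ) ⧸ (Ideal.span {t}).map φ₁) := .of_surjective' _ Ideal.Quotient.mk_surjective
    haveI : IsAdicComplete (maximalIdeal ((B ⧸ J.map φ) ⧸ (Ideal.span {t}).map φ₁))
        ((B ⧸ J.map φ) ⧸ (Ideal.span {t}).map φ₁) := EGA41FS.isAdicComplete_quotient _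
    obtain ⟨q₂, hq₂, hc₂, hker₂⟩ := exists_fibre_lift φ₁ q₁ hq₁ hker₁ (Ideal.span {t})
      ((Ideal.span_singleton_le_iff_mem _).2 htm)
    let φ₂ := Ideal.quotientMap ((Ideal.span {t}).map φ₁) φ₁ Ideal.le_comap_map
    haveI : IsLocalHom φ₂ := isLocalHom_quotientMap φ₁ (Ideal.span {t})
    have hdim₂ : ringKrullDim ((A ⧸ J) ⧸ Ideal.span {t}) ≤ n := by
      have h1 := ringKrullDim_quotient_succ_le_of_nonZeroDivisor htnz
      obtain ⟨a, ha⟩ := GrpAct.exists_nat_ringKrullDim ((A ⧸ J) ⧸ Ideal.span {t})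
      have h2 := h1.trans ((dim_quotient_le J).trans hn)
      rw [ha] at h2 ⊢
      norm_cast at h2 ⊢
      omega
    have h₂ : Extends (FEt.puncturedSpec ((B ⧸ J.map φ) ⧸ (Ideal.span {t}).map φ₁)).ι
        ((FEt.restrict (pmap (Ideal.Quotient.mk ((Ideal.span {t}).map φ₁)) Ideal.Quotient.mk_surjective)).obj E₁) :=
      ih _ hdim₂ _ φ₂ (flat_quotientMap φ₁ hflat₁ (Ideal.span {t})) F q₂ hq₂ hker₂ hdF _ (ExtTo.restrict hc₂ h₁)
    haveI : IsNoetherianRing (B ⧸ J.map φ) := inferInstance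
    obtain ⟨R, _, _, π, hπ⟩ := TorCI.exists_regular_cover (B ⧸ J.map φ)
    haveI : IsRegularRing R := SerreReg.isRegularRing_of_isRegularLocalRing R
    haveI : IsAdicComplete ((Ideal.span {t}).map φ₁) (B ⧸ J.map φ) :=
      EGA41Cohen.isAdicComplete_ideal _ fun e => (maximalIdeal.isMaximal (B ⧸ J.map φ)).ne_top
        (top_le_iff.1 (e ▸ hmap.le.trans ((Ideal.span_singleton_le_iff_mem _).2 hsm)))
    letI := φ₁.toAlgebra
    haveI : Module.Flat (A ⧸ J) (B ⧸ J.map φ) := hflat₁
    haveI : IsLocalHom (algebraMap (A ⧸ J) (B ⧸ J.map φ)) := ‹IsLocalHom φ₁›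
    have hsreg : IsSMulRegular (B ⧸ J.map φ) (φ₁ t) := fun x y hxy =>
      Module.Flat.isSMulRegular_of_nonZeroDivisors htnz (by
        show t • x = t • y
        rw [Algebra.smul_def, Algebra.smul_def, RingHom.algebraMap_toAlgebra]
        exact hxy)
    let eF : ((B ⧸ J.map φ) ⧸ (maximalIdeal (A ⧸ J)).map (algebraMap (A ⧸ J) (B ⧸ J.map φ))) ≃+* F :=
      (Ideal.quotEquivOfEq hker₁.symm).trans (RingHom.quotientKerEquivOfSurjective hq₁)
    haveI : IsLocalRing ((B ⧸ J.map φ) ⧸ (maximalIdeal (A ⧸ J)).map (algebraMap (A ⧸ J) (B ⧸ J.map φ))) :=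
      eF.symm.isLocalRing
    have hdB : (3 : ℕ∞) ≤ LocCoh.depth (B ⧸ J.map φ) (B ⧸ J.map φ) := by
      rw [FlatDepth.depth_eq_add (R := A ⧸ J), FlatDepth.depth_ringEquiv eF]
      exact le_trans (by norm_num) (add_le_add (one_le_depth_of_regular htm htnz) hdF)
    have main : ∀ (I : Ideal (B ⧸ J.map φ)) [IsAdicComplete I (B ⧸ J.map φ)] [IsLocalRing ((B ⧸ J.map φ) ⧸ I)],
        I = Ideal.span {φ₁ t} → Extends (FEt.puncturedSpec ((B ⧸ J.map φ) ⧸ I)).ι
          ((FEt.restrict (pmap (Ideal.Quotient.mk I) Ideal.Quotient.mk_surjective)).obj E₁) →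
        Extends (FEt.puncturedSpec (B ⧸ J.map φ)).ι E₁ := by
      rintro I _ _ rfl hI
      refine extends_of_quotient π hπ (φ₁ t) hsm hsreg (depth_coheight_one hdB) E₁ ?_
      rwa [show punctMap (Ideal.span {φ₁ t}) = pmap (Ideal.Quotient.mk (Ideal.span {φ₁ t})) Ideal.Quotient.mk_surjective by
        rw [← cancel_mono (FEt.puncturedSpec (B ⧸ J.map φ)).ι, punctMap_ι, pmap_ι]]
    exact main _ hmap h₂

end Groth.Agent.LefEssSurj
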