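import Groth.Agent.LefEssSurj.FlatFibre
import Groth.Agent.PurePair.Open

/-!
Purity along flat local homomorphisms, from the closed fibre.
-/

universe u

open CategoryTheory CategoryTheory.Limits AlgebraicGeometry TopologicalSpace Opposite
open Groth.Agent.FormAlg IsLocalRing

set_option autoImplicit false
set_option maxHeartbeats 1000000
set_option backward.isDefEq.respectTransparency false
set_option backward.isDefEq.respectTransparency.types false
set_option linter.style.haveILetI false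

noncomputable section

namespace Groth.Agent.LefEssSurj

/-- Extensions pull back along squares. -/
theorem Extends.comap {U X U' X' : Scheme.{u}} {j : U ⟶ X} {j' : U' ⟶ X'} {a : U' ⟶ U} {b : X' ⟶ X}
    (w : a ≫ j = j' ≫ b) {E : FEt.Cat U} (h : Extends j E) : Extends j' ((FEt.restrict a).obj E) :=
  let ⟨G, ⟨η⟩⟩ := h
  ⟨(FEt.restrict b).obj G, ⟨((restrictComp j' b _ w.symm).app G).symm ≪≫ (restrictComp a j _ rfl).app G ≪≫
    (FEt.restrict a).mapIso η⟩⟩

/-- A single extension descends along a flat cover. -/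
theorem extends_of_descent {V U W W' : Scheme.{u}} (j : U ⟶ V) [QuasiCompact j] [QuasiSeparated j]
    (hj : ∀ O : V.Opens, IsAffineOpen O → Function.Bijective (j.app O))
    (j₁ : W' ⟶ W) (f' : W' ⟶ U) (fV : W ⟶ V) [Flat fV] [Surjective fV] [QuasiCompact fV]
    (sq : IsPullback j₁ f' fV j) (E : FEt.Cat U) (h : Extends j₁ ((FEt.restrict f').obj E)) : Extends j E := by
  obtain ⟨F, ⟨ε⟩⟩ := h
  let E₁ := (FEt.restrict f').obj E
  haveI : IsFinite F.hom := F.prop.1
  haveI : Etale F.hom := F.prop.2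
  let η : pullback F.hom j₁ ≅ pullback E.hom f' :=
    { hom := ε.hom.left
      inv := ε.inv.left
      hom_inv_id := congrArg (·.left) ε.hom_inv_id
      inv_hom_id := congrArg (·.left) ε.inv_hom_id }
  have hη : η.hom ≫ pullback.snd E.hom f' = pullback.snd F.hom j₁ := MorphismProperty.Over.w ε.hom
  let i := pullback.fst F.hom j₁
  let u := pullback.snd F.hom j₁ ≫ f'
  let a := η.hom ≫ pullback.fst E.hom f'
  have H₀ : IsPullback i u (F.hom ≫ fV) j := (IsPullback.of_hasPullback F.hom j₁).paste_vert sq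
  have hae : a ≫ E.hom = u := by
    rw [Category.assoc, pullback.condition, reassoc_of% hη]
  have H₁ : IsPullback a (i ≫ F.hom) (E.hom ≫ j) fV := by
    refine ((IsPullback.of_hasPullback E.hom f').paste_vert sq.flip).of_iso η.symm (Iso.refl _) (Iso.refl _)
      (Iso.refl _) ?_ ?_ ?_ ?_
    · simp [a]
    · simp only [Iso.refl_hom, Category.comp_id, Iso.symm_hom]
      rw [show i ≫ F.hom = η.hom ≫ pullback.snd E.hom f' ≫ j₁ from by
        rw [reassoc_of% hη]; exact pullback.condition, Iso.inv_hom_id_assoc]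
    · simp
    · simp
  obtain ⟨G, γ, hfin, het, θ, hθ⟩ := PurePair.exists_extension hj H₀ hae H₁
  exact ⟨MorphismProperty.Over.mk ⊤ γ ⟨hfin, het⟩, ⟨MorphismProperty.Over.isoMk θ hθ⟩⟩

/-- Purity along a flat local homomorphism whose closed fibre is pure of depth at least two. -/
theorem purityHolds_of_fibre (A B : Type u) [CommRing A] [CommRing B] [IsLocalRing A] [IsLocalRing B]
    [IsNoetherianRing A] [IsNoetherianRing B] [Algebra A B] [IsLocalHom (algebraMap A B)] [Module.Flat A B]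
    [IsLocalRing (B ⧸ (maximalIdeal A).map (algebraMap A B))]
    (hd : (2 : ℕ∞) ≤ LocCoh.depth (B ⧸ (maximalIdeal A).map (algebraMap A B))
      (B ⧸ (maximalIdeal A).map (algebraMap A B)))
    (h0 : FEt.PurityHolds (B ⧸ (maximalIdeal A).map (algebraMap A B))) : FEt.PurityHolds B := by
  refine purityHolds_of_extends fun E => ?_
  let I := (maximalIdeal A).map (algebraMap A B)
  let B' := AdicCompletion (maximalIdeal B) B
  let ψ := algebraMap B B'
  haveI : IsLocalHom ψ := inferInstanceAs (IsLocalHom (algebraMap B B'))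
  have hflatψ : ψ.Flat := RingHom.flat_algebraMap_iff.2 inferInstance
  have hrad : maximalIdeal B' ≤ ((maximalIdeal B).map ψ).radical := by
    rw [AdicCompletion.maximalIdeal_eq_map]; exact Ideal.le_radical
  let g := Spec.map (CommRingCat.ofHom ψ)
  let U := FEt.puncturedSpec B
  haveI : NoetherianSpace (Spec (CommRingCat.of B)) := inferInstanceAs (NoetherianSpace (PrimeSpectrum B))
  haveI : QuasiCompact U.ι := inferInstance
  haveI : Flat g := Flat.SpecMap_iff.2 hflatψ
  haveI : Surjective g := by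
    haveI : Module.FaithfullyFlat B B' := Module.FaithfullyFlat.of_flat_of_isLocalHom
    exact ⟨fun p => PrimeSpectrum.comap_surjective_of_faithfullyFlat (A := B) (B := B') p⟩
  have hdB : (2 : ℕ∞) ≤ LocCoh.depth B B := by
    rw [FlatDepth.depth_eq_add (R := A)]
    exact hd.trans le_add_self
  have hj : ∀ V : (Spec (CommRingCat.of B)).Opens, IsAffineOpen V → Function.Bijective (U.ι.app V) :=
    PurePair.bijective_app_of_depth U.ι fun x hx => by
      obtain rfl : x = IsLocalRing.closedPoint B := not_not.1 fun hne => hx ⟨⟨x, hne⟩, rfl⟩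
      exact hdB.trans_eq (Purity.depth_stalk_closedPoint B).symm
  let e := Scheme.isoOfEq _ (preimage_punctured ψ hrad)
  have sq : IsPullback (FEt.puncturedSpec B').ι (e.inv ≫ g ∣_ U) g U.ι :=
    (isPullback_morphismRestrict g U).flip.of_iso e (Iso.refl _) (Iso.refl _) (Iso.refl _)
      (by simp [e, g, U]) (by simp [e, g, U]) (by simp) (by simp)
  refine extends_of_descent U.ι hj (FEt.puncturedSpec B').ι (e.inv ≫ g ∣_ U) g sq E ?_
  let φ : A →+* B' := ψ.comp (algebraMap A B)
  haveI : IsLocalHom φ := ⟨fun a ha => isUnit_of_map_unit (algebraMap A B) a (isUnit_of_map_unit ψ _ ha)⟩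
  have hflat : φ.Flat := RingHom.Flat.comp (RingHom.flat_algebraMap_iff.2 inferInstance) hflatψ
  have hImap : (maximalIdeal A).map φ = I.map ψ := (Ideal.map_map _ _).symm
  have hIm : I.map ψ ≤ maximalIdeal B' := hImap.ge.trans (((local_hom_TFAE φ).out 0 2).1 ‹_›)
  haveI : Nontrivial (B' ⧸ I.map ψ) := Ideal.Quotient.nontrivial_iff.2
    fun e => (maximalIdeal.isMaximal B').ne_top (top_le_iff.1 (e ▸ hIm))
  haveI : IsLocalRing (B' ⧸ I.map ψ) := .of_surjective' _ Ideal.Quotient.mk_surjective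
  let ψ₀ := Ideal.quotientMap (I.map ψ) ψ Ideal.le_comap_map
  haveI : IsLocalHom ψ₀ := isLocalHom_quotientMap ψ I
  have hflat₀ : ψ₀.Flat := flat_quotientMap ψ hflatψ I
  have hdF : (2 : ℕ∞) ≤ LocCoh.depth (B' ⧸ I.map ψ) (B' ⧸ I.map ψ) := by
    letI := ψ₀.toAlgebra
    haveI : Module.Flat (B ⧸ I) (B' ⧸ I.map ψ) := hflat₀
    haveI : IsLocalHom (algebraMap (B ⧸ I) (B' ⧸ I.map ψ)) := ‹IsLocalHom ψ₀›
    haveI : Nontrivial ((B' ⧸ I.map ψ) ⧸ (maximalIdeal (B ⧸ I)).map (algebraMap (B ⧸ I) (B' ⧸ I.map ψ))) :=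
      FlatDepth.nontrivial_fibre
    haveI : IsLocalRing ((B' ⧸ I.map ψ) ⧸ (maximalIdeal (B ⧸ I)).map (algebraMap (B ⧸ I) (B' ⧸ I.map ψ))) :=
      .of_surjective' _ Ideal.Quotient.mk_surjective
    rw [FlatDepth.depth_eq_add (R := B ⧸ I)]
    exact hd.trans le_self_add
  obtain ⟨n, hn⟩ := GrpAct.exists_nat_ringKrullDim A
  refine extends_of_fibre n A hn.le B' φ hflat (B' ⧸ I.map ψ) (Ideal.Quotient.mk _) Ideal.Quotient.mk_surjective
    (by rw [Ideal.mk_ker, hImap]) hdF _ ?_
  have hcomm : (Ideal.Quotient.mk (I.map ψ)).comp ψ = ψ₀.comp (Ideal.Quotient.mk I) :=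
    RingHom.ext fun b => (Ideal.quotientMap_mk (H := Ideal.le_comap_map) (x := b)).symm
  have hrad₀ : maximalIdeal (B' ⧸ I.map ψ) ≤ ((maximalIdeal (B ⧸ I)).map ψ₀).radical := by
    rw [← map_maximalIdeal_of_surjective (Ideal.Quotient.mk (I.map ψ)) Ideal.Quotient.mk_surjective,
      ← map_maximalIdeal_of_surjective (Ideal.Quotient.mk I) Ideal.Quotient.mk_surjective,
      AdicCompletion.maximalIdeal_eq_map]
    exact le_of_eq_of_le ((Ideal.map_map _ _).trans
      ((congrArg (fun f => Ideal.map f (maximalIdeal B)) hcomm).trans (Ideal.map_map _ _).symm)) Ideal.le_radical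
  let e₀ := Scheme.isoOfEq _ (preimage_punctured ψ₀ hrad₀)
  let a := e₀.inv ≫ Spec.map (CommRingCat.ofHom ψ₀) ∣_ FEt.puncturedSpec (B ⧸ I)
  have ha : a ≫ (FEt.puncturedSpec (B ⧸ I)).ι =
      (FEt.puncturedSpec (B' ⧸ I.map ψ)).ι ≫ Spec.map (CommRingCat.ofHom ψ₀) := by
    simp [a, e₀]
  have hw : a ≫ pmap (Ideal.Quotient.mk I) Ideal.Quotient.mk_surjective =
      pmap (Ideal.Quotient.mk (I.map ψ)) Ideal.Quotient.mk_surjective ≫ e.inv ≫ g ∣_ U := by
    rw [← cancel_mono U.ι]
    simp only [U, g, Category.assoc, morphismRestrict_ι, pmap_ι]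
    rw [reassoc_of% ha]
    simp only [e, Scheme.isoOfEq_inv_ι_assoc]
    rw [reassoc_of% (pmap_ι (Ideal.Quotient.mk (I.map ψ)) Ideal.Quotient.mk_surjective),
      ← Spec.map_comp, ← Spec.map_comp, ← CommRingCat.ofHom_comp, ← CommRingCat.ofHom_comp, hcomm]
  have h1 : Extends (FEt.puncturedSpec (B ⧸ I)).ι
      ((FEt.restrict (pmap (Ideal.Quotient.mk I) Ideal.Quotient.mk_surjective)).obj E) :=
    extends_of_purityHolds h0 _
  exact (h1.comap ha).of_iso (((restrictComp a _ _ rfl).app E).symm ≪≫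
    (restrictComp (pmap (Ideal.Quotient.mk (I.map ψ)) Ideal.Quotient.mk_surjective) (e.inv ≫ g ∣_ U) _ hw.symm).app E)

end Groth.Agent.LefEssSurj
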