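import Groth.Agent.LefEssSurj.ClopenGerm
import Groth.Agent.Purity.CompFF

/-!
Restriction of finite étale covers to `f = 0` from the system of its open neighbourhoods is fully faithful when
clopen subsets spread out.
-/

universe u

open CategoryTheory CategoryTheory.Limits AlgebraicGeometry TopologicalSpace Opposite

set_option autoImplicit false
set_option maxHeartbeats 1000000
set_option backward.isDefEq.respectTransparency false
set_option linter.style.haveILetI false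

noncomputable section

namespace Groth.Agent.LefEssSurj.GermFF

/-- A cartesian square stays cartesian after removing a monomorphism from its base. -/
theorem isPullback_cancel_mono {C : Type*} [Category C] {P X Y Z W : C} {fst : P ⟶ X} {snd : P ⟶ Y} {f : X ⟶ Z}
    {g : Y ⟶ Z} (i : Z ⟶ W) [Mono i] (h : IsPullback fst snd (f ≫ i) (g ≫ i)) : IsPullback fst snd f g := by
  have w : fst ≫ f = snd ≫ g := by rw [← cancel_mono i, Category.assoc, Category.assoc]; exact h.w
  refine IsPullback.of_isLimit' ⟨w⟩ (PullbackCone.IsLimit.mk _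
    (fun s => h.lift s.fst s.snd (by rw [reassoc_of% s.condition])) (fun s => h.lift_fst _ _ _)
    (fun s => h.lift_snd _ _ _) fun s m h1 h2 => h.hom_ext ?_ ?_)
  · rw [h.lift_fst]; exact h1
  · rw [h.lift_snd]; exact h2

theorem pullbackComp_hom_fst {X Y Z : Scheme.{u}} (f : X ⟶ Y) (g : Y ⟶ Z) (fg : X ⟶ Z) (hfg : fg = f ≫ g)
    (E : FEt.Cat Z) :
    ((MorphismProperty.Over.pullbackComp f g fg hfg).hom.app E).left ≫ pullback.fst (pullback.snd E.hom g) f ≫
      pullback.fst E.hom g = pullback.fst E.hom fg := by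
  subst hfg
  exact MorphismProperty.Over.pullbackComp_left_fst_fst f g E

theorem pullbackComp_inv_fst {X Y Z : Scheme.{u}} (f : X ⟶ Y) (g : Y ⟶ Z) (fg : X ⟶ Z) (hfg : fg = f ≫ g)
    (E : FEt.Cat Z) :
    ((MorphismProperty.Over.pullbackComp f g fg hfg).inv.app E).left ≫ pullback.fst E.hom fg =
      pullback.fst (pullback.snd E.hom g) f ≫ pullback.fst E.hom g := by
  rw [← pullbackComp_hom_fst f g fg hfg E]
  have h := congrArg (fun m => m.left) ((MorphismProperty.Over.pullbackComp f g fg hfg).inv_hom_id_app E)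
  exact (Category.assoc _ _ _).symm.trans ((congrArg (· ≫ _) h).trans (Category.id_comp _))

/-- The section of `E₁ ×_X E₂ → E₁` given by a morphism. -/
theorem isClopen_range_section {E₁ E₂ X : Scheme.{u}} (π₁ : E₁ ⟶ X) (π₂ : E₂ ⟶ X) [IsFinite π₂] [Etale π₂]
    (γ : E₁ ⟶ pullback π₁ π₂) (h : γ ≫ pullback.fst π₁ π₂ = 𝟙 E₁) : IsClopen (Set.range γ) ∧ IsOpenImmersion γ := by
  haveI : IsFinite (pullback.fst π₁ π₂) := MorphismProperty.pullback_fst (P := @IsFinite) _ _ inferInstance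
  haveI : Etale (pullback.fst π₁ π₂) := MorphismProperty.pullback_fst (P := @Etale) _ _ inferInstance
  haveI : IsOpenImmersion γ := EtaleSections.isOpenImmersion_section _ γ h
  haveI : IsClosedImmersion γ := by
    haveI : IsClosedImmersion (γ ≫ pullback.fst π₁ π₂) := by rw [h]; infer_instance
    exact IsClosedImmersion.of_comp γ (pullback.fst π₁ π₂)
  exact ⟨⟨γ.isClosedEmbedding.isClosed_range, γ.isOpenEmbedding.isOpen_range⟩, ‹_›⟩

variable {A : Type u} [CommRing A] {U : (Spec (CommRingCat.of A)).Opens} {f : A}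
  {U' : (Spec (CommRingCat.of A)).Opens} {T : Scheme.{u}} (u' : T ⟶ (↑U' : Scheme.{u})) [IsClosedImmersion u']
  (hr : ∀ x : (↑U' : Scheme.{u}), x ∈ Set.range u' ↔ f ∈ (U'.ι x).asIdeal)

/-- The lift to a neighbourhood. -/
theorem exists_lift_nhd (U'' : (Spec (CommRingCat.of A)).Opens) (h : U'' ≤ U')
    (hU'' : ∀ t : T, U'.ι (u' t) ∈ U'') : ∃ u'' : T ⟶ (↑U'' : Scheme.{u}),
      u'' ≫ (Spec (CommRingCat.of A)).homOfLE h = u' := by
  refine ⟨IsOpenImmersion.lift U''.ι (u' ≫ U'.ι) (by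
    rintro _ ⟨t, rfl⟩
    rw [Scheme.Opens.range_ι]
    exact hU'' t), ?_⟩
  rw [← cancel_mono U'.ι, Category.assoc, Scheme.homOfLE_ι, IsOpenImmersion.lift_fac]

/-- Faithfulness in germs. -/
theorem faithful (V' W' : FEt.Cat (↑U' : Scheme.{u})) (φ ψ : V' ⟶ W')
    (heq : (FEt.restrict u').map φ = (FEt.restrict u').map ψ) :
    ∃ (U'' : (Spec (CommRingCat.of A)).Opens) (h : U'' ≤ U') (u'' : T ⟶ (↑U'' : Scheme.{u})),
      u'' ≫ (Spec (CommRingCat.of A)).homOfLE h = u' ∧
      (FEt.restrict ((Spec (CommRingCat.of A)).homOfLE h)).map φ =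
        (FEt.restrict ((Spec (CommRingCat.of A)).homOfLE h)).map ψ := by
  haveI : IsFinite V'.hom := V'.prop.1
  haveI : Etale V'.hom := V'.prop.2
  haveI : IsFinite W'.hom := W'.prop.1
  haveI : Etale W'.hom := W'.prop.2
  let Z := pullback V'.hom W'.hom
  let p : Z ⟶ V'.left := pullback.fst _ _
  haveI : IsFinite p := MorphismProperty.pullback_fst (P := @IsFinite) _ _ inferInstance
  let sec : (V' ⟶ W') → (V'.left ⟶ Z) := fun χ =>
    pullback.lift (𝟙 V'.left) χ.left (by rw [Category.id_comp, MorphismProperty.Over.w χ])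
  have hsec : ∀ χ, sec χ ≫ p = 𝟙 V'.left := fun χ => pullback.lift_fst _ _ _
  have hagree : pullback.fst V'.hom u' ≫ sec φ = pullback.fst V'.hom u' ≫ sec ψ := by
    refine pullback.hom_ext ?_ ?_
    · rw [Category.assoc, Category.assoc, pullback.lift_fst, pullback.lift_fst]
    · have hmap : ∀ χ : V' ⟶ W', ((FEt.restrict u').map χ).left ≫ pullback.fst W'.hom u' =
          pullback.fst V'.hom u' ≫ χ.left := fun χ => pullback.lift_fst _ _ _
      rw [Category.assoc, Category.assoc, pullback.lift_snd, pullback.lift_snd, ← hmap, heq, hmap]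
  let Bad : Set Z := (Set.range (sec φ) \ Set.range (sec ψ)) ∪ (Set.range (sec ψ) \ Set.range (sec φ))
  obtain ⟨hcφ, hoφ⟩ := isClopen_range_section V'.hom W'.hom (sec φ) (hsec φ)
  obtain ⟨hcψ, hoψ⟩ := isClopen_range_section V'.hom W'.hom (sec ψ) (hsec ψ)
  haveI := hoφ
  haveI := hoψ
  have hBad : IsClosed Bad := ((hcφ.diff hcψ).union (hcψ.diff hcφ)).1
  have hclosed : IsClosed ((p ≫ V'.hom) '' Bad) := by
    haveI : IsFinite (p ≫ V'.hom) := inferInstance
    exact (p ≫ V'.hom).isClosedMap _ hBad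
  let U'' : (Spec (CommRingCat.of A)).Opens := U'.ι ''ᵁ ⟨((p ≫ V'.hom) '' Bad)ᶜ, hclosed.isOpen_compl⟩
  have hle : U'' ≤ U' := U'.ι_image_le _
  have hT : ∀ t : T, U'.ι (u' t) ∈ U'' := fun t => by
    refine ⟨u' t, ?_, rfl⟩
    rintro ⟨z, hz, hzt⟩
    have hkey : ∀ x : V'.left, V'.hom x = u' t → sec φ x = sec ψ x := fun x hx => by
      obtain ⟨y, rfl⟩ : x ∈ Set.range (pullback.fst V'.hom u') := by
        rw [Scheme.Pullback.range_fst]
        exact ⟨t, hx.symm⟩
      exact (Scheme.Hom.comp_apply _ _ _).symm.trans ((congrArg (fun m => m y) hagree).trans (Scheme.Hom.comp_apply _ _ _))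
    rcases hz with ⟨⟨x, rfl⟩, hn⟩ | ⟨⟨x, rfl⟩, hn⟩
    · refine hn ⟨x, (hkey x ?_).symm⟩
      rw [← hzt, ← Scheme.Hom.comp_apply, ← Category.assoc, hsec, Category.id_comp]; rfl
    · refine hn ⟨x, hkey x ?_⟩
      rw [← hzt, ← Scheme.Hom.comp_apply, ← Category.assoc, hsec, Category.id_comp]; rfl
  obtain ⟨u'', hu''⟩ := exists_lift_nhd u' U'' hle hT
  refine ⟨U'', hle, u'', hu'', ?_⟩
  let g := (Spec (CommRingCat.of A)).homOfLE hle
  let a : pullback V'.hom g ⟶ V'.left := pullback.fst V'.hom g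
  have hrange : Set.range (a ≫ sec φ) ⊆ Set.range (a ≫ sec ψ) := by
    rintro _ ⟨y, rfl⟩
    rw [Scheme.Hom.comp_apply]
    have hgood : sec φ (a y) ∉ Bad := fun hb => by
      obtain ⟨w, hw, hwe⟩ : U'.ι (V'.hom (a y)) ∈ U'' := by
        rw [show U'.ι (V'.hom (a y)) = ((a ≫ V'.hom) ≫ U'.ι) y from rfl,
          show a ≫ V'.hom = pullback.snd V'.hom g ≫ g from pullback.condition, Category.assoc,
          Scheme.homOfLE_ι, Scheme.Hom.comp_apply]
        exact (pullback.snd V'.hom g y).2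
      refine hw ⟨sec φ (a y), hb, ?_⟩
      rw [U'.ι.isOpenEmbedding.injective hwe]
      rw [← Scheme.Hom.comp_apply, ← Category.assoc, hsec, Category.id_comp]
      rfl
    obtain ⟨x, hx⟩ : sec φ (a y) ∈ Set.range (sec ψ) := by_contra fun hn => hgood (Or.inl ⟨⟨_, rfl⟩, hn⟩)
    have : x = a y := by
      have h := congrArg p hx
      rwa [← Scheme.Hom.comp_apply, ← Scheme.Hom.comp_apply, hsec, hsec] at h
    exact ⟨y, (congrArg (sec ψ) this.symm).trans hx⟩
  let b := IsOpenImmersion.lift (a ≫ sec ψ) (a ≫ sec φ) hrange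
  have hb : b ≫ a ≫ sec ψ = a ≫ sec φ := IsOpenImmersion.lift_fac _ _ _
  have hb1 : b = 𝟙 _ := by
    rw [← cancel_mono a, Category.id_comp]
    have h := hb =≫ p
    simpa only [Category.assoc, hsec, Category.comp_id] using h
  rw [hb1, Category.id_comp] at hb
  have h2 : a ≫ φ.left = a ≫ ψ.left := by
    have h := hb =≫ pullback.snd V'.hom W'.hom
    simpa only [Category.assoc, sec, pullback.lift_snd] using h.symm
  refine MorphismProperty.Over.Hom.ext (pullback.hom_ext ?_ ?_)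
  · rw [show ((FEt.restrict g).map φ).left ≫ pullback.fst W'.hom g = a ≫ φ.left from pullback.lift_fst _ _ _,
      show ((FEt.restrict g).map ψ).left ≫ pullback.fst W'.hom g = a ≫ ψ.left from pullback.lift_fst _ _ _]
    exact h2
  · exact (MorphismProperty.Over.w ((FEt.restrict g).map φ)).trans
      (MorphismProperty.Over.w ((FEt.restrict g).map ψ)).symm

include hr in
/-- Fullness in germs from spreading out of clopen subsets. -/
theorem full (h : ClopenGerm U f) (hU' : U' ≤ U) (hY : ∀ p ∈ U, f ∈ p.asIdeal → p ∈ U')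
    (V' W' : FEt.Cat (↑U' : Scheme.{u})) (φ₀ : (FEt.restrict u').obj V' ⟶ (FEt.restrict u').obj W') :
    ∃ (U'' : (Spec (CommRingCat.of A)).Opens) (h : U'' ≤ U') (u'' : T ⟶ (↑U'' : Scheme.{u}))
      (hu : u'' ≫ (Spec (CommRingCat.of A)).homOfLE h = u')
      (φ : (FEt.restrict ((Spec (CommRingCat.of A)).homOfLE h)).obj V' ⟶
        (FEt.restrict ((Spec (CommRingCat.of A)).homOfLE h)).obj W'),
      (FEt.restrict u'').map φ = (MorphismProperty.Over.pullbackComp u'' ((Spec (CommRingCat.of A)).homOfLE h) u'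
          hu.symm).inv.app V' ≫ φ₀ ≫ (MorphismProperty.Over.pullbackComp u''
          ((Spec (CommRingCat.of A)).homOfLE h) u' hu.symm).hom.app W' := by
  haveI : IsFinite V'.hom := V'.prop.1
  haveI : Etale V'.hom := V'.prop.2
  haveI : IsFinite W'.hom := W'.prop.1
  haveI : Etale W'.hom := W'.prop.2
  let π₁ : V'.left ⟶ (↑U' : Scheme.{u}) := V'.hom
  let π₂ : W'.left ⟶ (↑U' : Scheme.{u}) := W'.hom
  haveI : IsFinite π₁ := V'.prop.1
  haveI : Etale π₁ := V'.prop.2
  haveI : IsFinite π₂ := W'.prop.1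
  haveI : Etale π₂ := W'.prop.2
  let φ : pullback π₁ u' ⟶ W'.left := φ₀.left ≫ pullback.fst π₂ u'
  have hφ : φ ≫ π₂ = pullback.fst π₁ u' ≫ π₁ := by
    have hw : φ₀.left ≫ pullback.snd π₂ u' = pullback.snd π₁ u' := MorphismProperty.Over.w φ₀
    rw [Category.assoc, pullback.condition, reassoc_of% hw, pullback.condition]
  let Z := pullback π₁ π₂
  let p : Z ⟶ V'.left := pullback.fst π₁ π₂
  let πZ : Z ⟶ (↑U' : Scheme.{u}) := p ≫ π₁
  haveI : IsFinite p := MorphismProperty.pullback_fst (P := @IsFinite) _ _ inferInstance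
  haveI : Etale p := MorphismProperty.pullback_fst (P := @Etale) _ _ inferInstance
  haveI : IsFinite πZ := MorphismProperty.comp_mem _ _ _ ‹IsFinite p› (inferInstance : IsFinite π₁)
  haveI : Etale πZ := MorphismProperty.comp_mem _ _ _ ‹Etale p› (inferInstance : Etale π₁)
  let q := pullback.fst πZ u'
  let r : pullback πZ u' ⟶ pullback π₁ u' :=
    pullback.lift (q ≫ p) (pullback.snd πZ u') (by rw [Category.assoc]; exact pullback.condition)
  have hB : IsPullback r q (pullback.fst π₁ u') p := by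
    refine IsPullback.of_right ?_ (pullback.lift_fst _ _ _) (IsPullback.of_hasPullback π₁ u').flip
    rw [show r ≫ pullback.snd π₁ u' = pullback.snd πZ u' from pullback.lift_snd _ _ _]
    exact (IsPullback.of_hasPullback πZ u').flip
  haveI : IsFinite r := MorphismProperty.of_isPullback (P := @IsFinite) hB.flip ‹_›
  haveI : Etale r := MorphismProperty.of_isPullback (P := @Etale) hB.flip ‹_›
  let g : pullback π₁ u' ⟶ Z := pullback.lift (pullback.fst π₁ u') φ hφ.symm
  have hgp : g ≫ p = pullback.fst π₁ u' := pullback.lift_fst _ _ _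
  let s : pullback π₁ u' ⟶ pullback πZ u' :=
    pullback.lift g (pullback.snd π₁ u') (by rw [← Category.assoc, hgp]; exact pullback.condition)
  have hsq : s ≫ q = g := pullback.lift_fst _ _ _
  have hsr : s ≫ r = 𝟙 _ := by
    apply pullback.hom_ext
    · rw [Category.assoc, pullback.lift_fst, ← Category.assoc, hsq, hgp, Category.id_comp]
    · rw [Category.assoc, pullback.lift_snd, pullback.lift_snd, Category.id_comp]
  haveI : IsOpenImmersion s := EtaleSections.isOpenImmersion_section r s hsr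
  haveI : IsClosedImmersion s := by
    haveI : IsClosedImmersion (s ≫ r) := by rw [hsr]; infer_instance
    exact IsClosedImmersion.of_comp s r
  have hC : IsClopen (Set.range s) := ⟨s.isClosedEmbedding.isClosed_range, s.isOpenEmbedding.isOpen_range⟩
  haveI : IsClosedImmersion q := inferInstance
  obtain ⟨U₂, hU₂, W, K, hW, hK, hCW, hDK, hWK⟩ := h U' hU' hY Z πZ inferInstance inferInstance
    (q '' Set.range s) (q '' (Set.range s)ᶜ) (q.isClosedEmbedding.isClosedMap _ hC.1)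
    (q.isClosedEmbedding.isClosedMap _ hC.2.isClosed_compl)
    ((Set.disjoint_image_iff q.isClosedEmbedding.injective).2 disjoint_compl_right) (fun z => by
      rw [← Set.image_union, Set.union_compl_self, Set.image_univ, Scheme.Pullback.range_fst, Set.mem_preimage, hr,
        Scheme.Hom.comp_apply]
      rfl)
  -- the neighbourhood and the cover over it
  let U₁ : (↑U' : Scheme.{u}).Opens := U'.ι ⁻¹ᵁ U₂
  let V₁ : V'.left.Opens := π₁ ⁻¹ᵁ U₁
  let p₁ := p ∣_ V₁
  haveI : IsFinite p₁ := MorphismProperty.of_isPullback (isPullback_morphismRestrict p V₁).flip inferInstance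
  haveI : Etale p₁ := MorphismProperty.of_isPullback (isPullback_morphismRestrict p V₁).flip inferInstance
  let O : (↑(p ⁻¹ᵁ V₁) : Scheme.{u}).Opens :=
    ⟨(p ⁻¹ᵁ V₁).ι ⁻¹' Kᶜ, hK.isOpen_compl.preimage (p ⁻¹ᵁ V₁).ι.continuous⟩
  have hmemV₁ : ∀ z : Z, z ∈ p ⁻¹ᵁ V₁ ↔ (πZ ≫ U'.ι) z ∈ U₂ := fun z => Iff.rfl
  have hO : (O : Set (↑(p ⁻¹ᵁ V₁) : Scheme.{u})) = (p ⁻¹ᵁ V₁).ι ⁻¹' W := Set.ext fun z =>
    (hWK _ ((hmemV₁ _).1 z.2)).symm
  haveI : IsClosedImmersion O.ι :=
    IsClosedImmersion.of_isPreimmersion O.ι (by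
      rw [Scheme.Opens.range_ι, hO]
      exact hW.preimage (p ⁻¹ᵁ V₁).ι.continuous)
  let hh : (↑O : Scheme.{u}) ⟶ (↑V₁ : Scheme.{u}) := O.ι ≫ p₁
  haveI : IsFinite hh := MorphismProperty.comp_mem _ _ _ (inferInstance : IsFinite O.ι) ‹IsFinite p₁›
  haveI : Etale hh := MorphismProperty.comp_mem _ _ _ (inferInstance : Etale O.ι) ‹Etale p₁›
  let ιO : (↑O : Scheme.{u}) ⟶ Z := O.ι ≫ (p ⁻¹ᵁ V₁).ι
  have hιO : ιO ≫ p = hh ≫ V₁.ι := by
    rw [Category.assoc, Category.assoc, morphismRestrict_ι]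
  have hmem : ∀ y : (pullback πZ u' : Scheme.{u}), q y ∈ Set.range ιO ↔ y ∈ Set.range s := fun y => by
    have hy : q y ∈ p ⁻¹ᵁ V₁ := by
      rw [hmemV₁, show (πZ ≫ U'.ι) (q y) = U'.ι ((q ≫ πZ) y) from rfl,
        show q ≫ πZ = pullback.snd πZ u' ≫ u' from pullback.condition, Scheme.Hom.comp_apply]
      exact hU₂ _ (hU' (u' _).2) ((hr _).1 ⟨_, rfl⟩)
    constructor
    · rintro ⟨o, ho⟩
      by_contra hn
      exact o.2 (show (p ⁻¹ᵁ V₁).ι (O.ι o) ∈ K by
        rw [← Scheme.Hom.comp_apply, show O.ι ≫ (p ⁻¹ᵁ V₁).ι = ιO from rfl, ho]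
        exact hDK ⟨y, hn, rfl⟩)
    · intro hs
      refine ⟨⟨⟨q y, hy⟩, fun hk => ?_⟩, rfl⟩
      exact (hWK (q y) ((hmemV₁ _).1 hy)).1 (hCW ⟨y, hs, rfl⟩) hk
  let g' := IsOpenImmersion.lift ιO g (by
    rintro _ ⟨x, rfl⟩
    rw [← hsq, Scheme.Hom.comp_apply]
    exact (hmem _).2 ⟨x, rfl⟩)
  have hg' : g' ≫ ιO = g := IsOpenImmersion.lift_fac _ _ _
  have hA : IsPullback g' s ιO q := IsOpenImmersion.isPullback g' s ιO q (hsq.trans hg'.symm) (by
    ext x
    simp only [Scheme.Hom.coe_preimage, Scheme.Hom.coe_opensRange]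
    exact hmem x)
  let e := IsOpenImmersion.lift V₁.ι (pullback.fst π₁ u') (by
    rintro _ ⟨x, rfl⟩
    rw [Scheme.Opens.range_ι]
    show U'.ι (π₁ (pullback.fst π₁ u' x)) ∈ U₂
    rw [show π₁ (pullback.fst π₁ u' x) = (pullback.fst π₁ u' ≫ π₁) x from rfl, pullback.condition,
      Scheme.Hom.comp_apply]
    exact hU₂ _ (hU' (u' _).2) ((hr _).1 ⟨_, rfl⟩))
  have he : e ≫ V₁.ι = pullback.fst π₁ u' := IsOpenImmersion.lift_fac _ _ _
  have hP : IsPullback g' (𝟙 _) hh e := by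
    refine isPullback_cancel_mono V₁.ι ?_
    have := hA.paste_vert hB.flip
    rwa [hsr, hιO, ← he] at this
  -- the locus where it is an isomorphism
  let Bad : Set (↑V₁ : Scheme.{u}) := {y | Scheme.Hom.finrank hh y ≠ 1}
  have hBad : IsClosed Bad :=
    ((isClopen_discrete ({1}ᶜ : Set ℕ)).preimage (Scheme.Hom.isLocallyConstant_finrank hh).continuous).1
  have hclosed : IsClosed ((π₁ ∣_ U₁) '' Bad) := by
    haveI : IsFinite (π₁ ∣_ U₁) := MorphismProperty.of_isPullback (isPullback_morphismRestrict π₁ U₁).flip inferInstance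
    exact (π₁ ∣_ U₁).isClosedMap _ hBad
  let U₁' : (↑U' : Scheme.{u}).Opens := U₁.ι ''ᵁ ⟨((π₁ ∣_ U₁) '' Bad)ᶜ, hclosed.isOpen_compl⟩
  let U'' : (Spec (CommRingCat.of A)).Opens := U'.ι ''ᵁ U₁'
  have hle : U'' ≤ U' := U'.ι_image_le _
  have hgood : ∀ y : (↑V₁ : Scheme.{u}), π₁ (V₁.ι y) ∈ U₁' → Scheme.Hom.finrank hh y = 1 := fun y ⟨w, hw, hwy⟩ => by
    by_contra hne
    refine hw ⟨y, hne, U₁.ι.isOpenEmbedding.injective ?_⟩
    rw [← Scheme.Hom.comp_apply, morphismRestrict_ι, Scheme.Hom.comp_apply]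
    exact hwy.symm
  have hT : ∀ t : T, U'.ι (u' t) ∈ U'' := fun t => by
    refine ⟨u' t, ⟨⟨u' t, hU₂ _ (hU' (u' t).2) ((hr _).1 ⟨_, rfl⟩)⟩, ?_, rfl⟩, rfl⟩
    rintro ⟨y, hy, hyt⟩
    obtain ⟨x, hx⟩ : V₁.ι y ∈ Set.range (pullback.fst π₁ u') := by
      rw [Scheme.Pullback.range_fst]
      refine ⟨t, ?_⟩
      rw [show π₁ (V₁.ι y) = ((π₁ ∣_ U₁) ≫ U₁.ι) y from (congrArg (fun m => m y) (morphismRestrict_ι π₁ U₁)).symm,
        Scheme.Hom.comp_apply, hyt]
      rfl
    refine hy ?_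
    obtain rfl : e x = y := V₁.ι.isOpenEmbedding.injective
      ((Scheme.Hom.comp_apply _ _ _).symm.trans ((congrArg (fun m => m x) he).trans hx))
    rw [← Scheme.Hom.finrank_of_isPullback g' (𝟙 _) hh e hP, Scheme.Hom.finrank_eq_one_of_isIso]
    rfl
  obtain ⟨u'', hu''⟩ := exists_lift_nhd u' U'' hle hT
  let V₂ : (↑V₁ : Scheme.{u}).Opens := V₁.ι ⁻¹ᵁ (π₁ ⁻¹ᵁ U₁')
  haveI : IsFinite (hh ∣_ V₂) := MorphismProperty.of_isPullback (isPullback_morphismRestrict hh V₂).flip inferInstance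
  haveI : Etale (hh ∣_ V₂) := MorphismProperty.of_isPullback (isPullback_morphismRestrict hh V₂).flip inferInstance
  haveI : IsIso (hh ∣_ V₂) := (Scheme.Hom.isIso_iff_finrank_eq (hh ∣_ V₂)).2 (funext fun y => by
    rw [Scheme.Hom.finrank_of_isPullback _ (hh ∣_ V₂) hh V₂.ι (isPullback_morphismRestrict hh V₂).flip]
    exact hgood _ y.2)
  let gl := (Spec (CommRingCat.of A)).homOfLE hle
  let a := pullback.fst π₁ gl
  have hsub : ∀ x, π₁ (a x) ∈ U₁' := fun x => by
    obtain ⟨w, hw, hwe⟩ := (show U'.ι (π₁ (a x)) ∈ U'' by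
      rw [show U'.ι (π₁ (a x)) = ((a ≫ π₁) ≫ U'.ι) x from rfl,
        show a ≫ π₁ = pullback.snd π₁ gl ≫ gl from pullback.condition, Category.assoc,
        Scheme.homOfLE_ι, Scheme.Hom.comp_apply]
      exact (pullback.snd π₁ gl x).2)
    rwa [← U'.ι.isOpenEmbedding.injective hwe]
  let a₂ := IsOpenImmersion.lift (V₂.ι ≫ V₁.ι) a (by
    rintro _ ⟨x, rfl⟩
    obtain ⟨w, hw, hwe⟩ := hsub x
    refine ⟨⟨⟨a x, ?_⟩, hsub x⟩, rfl⟩
    show U'.ι (π₁ (a x)) ∈ U₂
    rw [← hwe]
    exact w.2)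
  have ha₂ : a₂ ≫ V₂.ι ≫ V₁.ι = a := IsOpenImmersion.lift_fac _ _ _
  let σ : pullback π₁ gl ⟶ Z := a₂ ≫ inv (hh ∣_ V₂) ≫ (hh ⁻¹ᵁ V₂).ι ≫ ιO
  have hσ : σ ≫ p = a := by
    simp only [σ, Category.assoc, hιO]
    rw [← morphismRestrict_ι_assoc, IsIso.inv_hom_id_assoc]
    exact ha₂
  have hσπ : (σ ≫ pullback.snd π₁ π₂) ≫ π₂ = pullback.fst π₁ gl ≫ π₁ := by
    rw [Category.assoc, ← pullback.condition, ← Category.assoc, hσ]
  let ψ : pullback π₁ gl ⟶ pullback π₂ gl :=
    pullback.lift (σ ≫ pullback.snd π₁ π₂) (pullback.snd π₁ gl) (hσπ.trans pullback.condition)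
  let φ' : (FEt.restrict gl).obj V' ⟶ (FEt.restrict gl).obj W' :=
    MorphismProperty.Over.homMk ψ (pullback.lift_snd _ _ _)
  let L := (FEt.restrict u'').map φ'
  let R := (MorphismProperty.Over.pullbackComp u'' gl u' hu''.symm).inv.app V' ≫ φ₀ ≫
    (MorphismProperty.Over.pullbackComp u'' gl u' hu''.symm).hom.app W'
  have hsnd : L.left ≫ pullback.snd (pullback.snd π₂ gl) u'' = R.left ≫ pullback.snd (pullback.snd π₂ gl) u'' :=
    (MorphismProperty.Over.w L).trans (MorphismProperty.Over.w R).symm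
  refine ⟨U'', hle, u'', hu'', φ', MorphismProperty.Over.Hom.ext (pullback.hom_ext (pullback.hom_ext ?_ ?_) hsnd)⟩
  · -- the component in the target
    let x : pullback (pullback.snd π₁ gl) u'' ⟶ pullback π₁ u' :=
      ((MorphismProperty.Over.pullbackComp u'' gl u' hu''.symm).inv.app V').left
    have hx : x ≫ pullback.fst π₁ u' = pullback.fst (pullback.snd π₁ gl) u'' ≫ a :=
      pullbackComp_inv_fst u'' gl u' hu''.symm V'
    let b := pullback.fst (pullback.snd π₁ gl) u''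
    let b' := b ≫ a₂ ≫ inv (hh ∣_ V₂) ≫ (hh ⁻¹ᵁ V₂).ι
    have hb' : b' ≫ hh = x ≫ e := by
      rw [← cancel_mono V₁.ι]
      simp only [b', Category.assoc, he]
      rw [← morphismRestrict_ι_assoc, IsIso.inv_hom_id_assoc, ha₂]
      exact hx.symm
    have hb : b' = x ≫ g' := by
      rw [← hP.lift_fst b' x hb']
      refine congrArg (· ≫ g') ?_
      exact (Category.comp_id _).symm.trans (hP.lift_snd b' x hb')
    have hbσ : b ≫ σ = x ≫ g := by
      rw [← hg', ← reassoc_of% hb]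
      simp only [b', σ, Category.assoc]
    have h1 : L.left ≫ pullback.fst (pullback.snd π₂ gl) u'' = b ≫ ψ := pullback.lift_fst _ _ _
    have h2 : R.left ≫ pullback.fst (pullback.snd π₂ gl) u'' ≫ pullback.fst π₂ gl = x ≫ φ := by
      show (x ≫ φ₀.left ≫ ((MorphismProperty.Over.pullbackComp u'' gl u' hu''.symm).hom.app W').left) ≫ _ = _
      rw [Category.assoc, Category.assoc]
      exact congrArg (fun m => x ≫ φ₀.left ≫ m) (pullbackComp_hom_fst u'' gl u' hu''.symm W')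
    refine (Category.assoc _ _ _).trans (Eq.trans ?_ (h2.symm.trans (Category.assoc _ _ _).symm))
    refine (Category.assoc _ _ _).symm.trans ((congrArg (· ≫ pullback.fst π₂ gl) h1).trans ?_)
    refine (Category.assoc _ _ _).trans ((congrArg (b ≫ ·) (pullback.lift_fst _ _ _)).trans ?_)
    refine ((Category.assoc _ _ _).symm.trans (congrArg (· ≫ pullback.snd π₁ π₂) hbσ)).trans ?_
    exact (Category.assoc _ _ _).trans (congrArg (x ≫ ·) (pullback.lift_snd _ _ _))
  · refine (Category.assoc _ _ _).trans (Eq.trans ?_ (Category.assoc _ _ _).symm)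
    show L.left ≫ pullback.fst (pullback.snd π₂ gl) u'' ≫ pullback.snd π₂ gl =
      R.left ≫ pullback.fst (pullback.snd π₂ gl) u'' ≫ pullback.snd π₂ gl
    rw [pullback.condition, ← Category.assoc, ← Category.assoc, hsnd]

end Groth.Agent.LefEssSurj.GermFF
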