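import Groth.Agent.LefEssSurj.GlueNhd
import Groth.Agent.Pinch.Spec

/-!
Extension of covers to neighbourhoods of `f = 0` may be checked modulo an ideal meeting a power of `f` in zero.
-/

universe u

open CategoryTheory CategoryTheory.Limits AlgebraicGeometry TopologicalSpace Opposite
open Groth.Agent.FormAlg

set_option autoImplicit false
set_option maxHeartbeats 800000
set_option backward.isDefEq.respectTransparency false
set_option backward.isDefEq.respectTransparency.types false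
set_option linter.style.haveILetI false

noncomputable section

namespace Groth.Agent.LefEssSurj

theorem surjective_specMap_of_nil {R S : Type u} [CommRing R] [CommRing S] (φ : R →+* S) (hφ : Function.Surjective φ)
    (hn : ∀ x, φ x = 0 → IsNilpotent x) : Surjective (Spec.map (CommRingCat.ofHom φ)) := by
  refine ⟨fun p => ?_⟩
  have hp : (show PrimeSpectrum R from p) ∈ Set.range (PrimeSpectrum.comap φ) := by
    rw [range_comap_of_surjective _ φ hφ, PrimeSpectrum.mem_zeroLocus]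
    intro x hx
    obtain ⟨n, hn'⟩ := hn x hx
    exact (show PrimeSpectrum R from p).isPrime.mem_of_pow_mem n (hn' ▸ zero_mem _)
  obtain ⟨q, hq⟩ := hp
  exact ⟨q, hq⟩

theorem preimage_puncturedSpec {R S : Type u} [CommRing R] [CommRing S] [IsLocalRing R] [IsLocalRing S] (φ : R →+* S)
    (hφ : Function.Surjective φ) :
    Spec.map (CommRingCat.ofHom φ) ⁻¹ᵁ FEt.puncturedSpec R = FEt.puncturedSpec S := by
  have hinj : Function.Injective (PrimeSpectrum.comap φ) := PrimeSpectrum.comap_injective_of_surjective φ hφ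
  have hcl : PrimeSpectrum.comap φ (IsLocalRing.closedPoint S) = IsLocalRing.closedPoint R := by
    haveI : IsLocalHom φ := Function.Surjective.isLocalHom φ hφ
    exact IsLocalRing.comap_closedPoint φ
  refine TopologicalSpace.Opens.ext (Set.ext fun q => ?_)
  show (PrimeSpectrum.comap φ (show PrimeSpectrum S from q) ≠ IsLocalRing.closedPoint R) ↔
    (show PrimeSpectrum S from q) ≠ IsLocalRing.closedPoint S
  rw [← hcl, hinj.ne_iff]

variable {A : Type u} [CommRing A] [IsLocalRing A] {f : A}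

/-- It is enough to extend covers of the fibre product. -/
theorem extendsNearDiv_of_pullback
    (h : ∀ V₀ : FEt.Cat (pullback (FEt.puncturedSpec A).ι
      (Spec.map (CommRingCat.ofHom (Ideal.Quotient.mk (Ideal.span {f}))))),
      ∃ (U : (↑(FEt.puncturedSpec A) : Scheme.{u}).Opens) (R' : FEt.Cat (U : Scheme.{u}))
        (u₀ : pullback (FEt.puncturedSpec A).ι
          (Spec.map (CommRingCat.ofHom (Ideal.Quotient.mk (Ideal.span {f})))) ⟶ (U : Scheme.{u})),
        u₀ ≫ U.ι = hyperMap A f ∧ Nonempty ((FEt.restrict u₀).obj R' ≅ V₀)) : ExtendsNearDiv A f := by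
  intro R
  obtain ⟨a, ha, hfac⟩ := exists_iso_hyper (A := A) (f := f)
  haveI := ha
  haveI := restrict_isEquivalence_of_isIso a
  obtain ⟨U, R', u₀, hu₀, ⟨η⟩⟩ := h ((FEt.restrict a).obj R)
  refine ⟨U, R', fun y hy => ?_, fun i hi => ⟨(FEt.restrict a).preimageIso
    (((restrictComp a i u₀ (by rw [← cancel_mono U.ι, Category.assoc, hi, hfac, hu₀])).app R').symm ≪≫ η)⟩⟩
  rw [← Scheme.IdealSheafData.range_subschemeι] at hy
  obtain ⟨z, rfl⟩ := hy
  have h' : (inv a ≫ u₀) ≫ U.ι = (divisorIdeal (FEt.puncturedSpec A) f).subschemeι := by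
    rw [Category.assoc, hu₀, ← hfac, IsIso.inv_hom_id_assoc]
  rw [← h', Scheme.Hom.comp_apply]
  exact ((inv a ≫ u₀) z).2

/-- Reduction modulo an ideal meeting a power of `f` in zero. -/
theorem extendsNearDiv_of_inf_eq_bot (T : Ideal A) [IsLocalRing (A ⧸ T)] (c : ℕ)
    (hT : T ⊓ Ideal.span {f ^ c} = ⊥) (h : ExtendsNearDiv (A ⧸ T) (Ideal.Quotient.mk T f)) :
    ExtendsNearDiv A f := by
  refine extendsNearDiv_of_pullback fun V₀ => ?_
  let F : Ideal A := Ideal.span {f ^ (c + 1)}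
  have hT' : T ⊓ F = ⊥ := eq_bot_iff.2 ((inf_le_inf_left T
    (Ideal.span_singleton_le_span_singleton.2 (pow_dvd_pow f (Nat.le_succ c)))).trans hT.le)
  let I₀ : Ideal A := Ideal.span {f}
  let f' := Ideal.Quotient.mk T f
  let I₀' : Ideal (A ⧸ T) := Ideal.span {f'}
  have hFI : F ≤ I₀ := Ideal.span_singleton_le_span_singleton.2 (dvd_pow_self f (Nat.succ_ne_zero c))
  have hI' : ∀ x ∈ T ⊔ F, (Ideal.Quotient.mk I₀').comp (Ideal.Quotient.mk T) x = 0 := fun x hx => by
    obtain ⟨t, ht, s, hs, rfl⟩ := Submodule.mem_sup.1 hx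
    rw [RingHom.comp_apply, map_add (Ideal.Quotient.mk T), Ideal.Quotient.eq_zero_iff_mem.2 ht, zero_add]
    refine Ideal.Quotient.eq_zero_iff_mem.2 ?_
    obtain ⟨r, rfl⟩ := Ideal.mem_span_singleton.1 (hFI hs)
    rw [map_mul]
    exact Ideal.mul_mem_right _ _ (Ideal.mem_span_singleton_self _)
  let πA := CommRingCat.ofHom (Ideal.Quotient.mk T)
  let πB := CommRingCat.ofHom (Ideal.Quotient.mk F)
  let p : CommRingCat.of (A ⧸ T) ⟶ CommRingCat.of (A ⧸ (T ⊔ F)) := CommRingCat.ofHom (Ideal.Quotient.factor le_sup_left)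
  let q : CommRingCat.of (A ⧸ F) ⟶ CommRingCat.of (A ⧸ (T ⊔ F)) := CommRingCat.ofHom (Ideal.Quotient.factor le_sup_right)
  let σY : CommRingCat.of (A ⧸ F) ⟶ CommRingCat.of (A ⧸ I₀) := CommRingCat.ofHom (Ideal.Quotient.factor hFI)
  let σZ : CommRingCat.of (A ⧸ (T ⊔ F)) ⟶ CommRingCat.of ((A ⧸ T) ⧸ I₀') :=
    CommRingCat.ofHom (Ideal.Quotient.lift (T ⊔ F) _ hI')
  let ρ : CommRingCat.of (A ⧸ I₀) ⟶ CommRingCat.of ((A ⧸ T) ⧸ I₀') :=
    CommRingCat.ofHom (Ideal.Quotient.lift I₀ ((Ideal.Quotient.mk I₀').comp (Ideal.Quotient.mk T)) fun x hx => by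
      obtain ⟨r, rfl⟩ := Ideal.mem_span_singleton.1 hx
      rw [RingHom.comp_apply, map_mul]
      exact Ideal.Quotient.eq_zero_iff_mem.2 (Ideal.mul_mem_right _ _ (Ideal.mem_span_singleton_self _)))
  have hρ : σY ≫ ρ = q ≫ σZ := by ext x; rfl
  have hπA : πA ≫ p = πB ≫ q := by ext x; rfl
  have hp : Pinch.IsPinch (Spec.map p) (Spec.map q) (Spec.map πA) (Spec.map πB) := by
    refine Pinch.spec_isPinch πB πA q p hπA (Ideal.Quotient.factor_surjective le_sup_left) (fun b a h => ?_)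
      fun r r' h1 h2 => ?_
    · obtain ⟨b, rfl⟩ := Ideal.Quotient.mk_surjective b
      obtain ⟨a, rfl⟩ := Ideal.Quotient.mk_surjective a
      obtain ⟨t, ht, s, hs, e⟩ := Submodule.mem_sup.1 ((Ideal.Quotient.eq (I := T ⊔ F) (x := b) (y := a)).1 h)
      refine ⟨b - s, Ideal.Quotient.eq.2 ?_, Ideal.Quotient.eq.2 ?_⟩
      · rw [show b - s - b = -s by ring]; exact F.neg_mem hs
      · rw [show b - s - a = t by linear_combination -e]; exact ht
    · exact sub_eq_zero.1 ((Submodule.mem_bot A).1 (hT' ▸ ⟨Ideal.Quotient.eq.1 h2, Ideal.Quotient.eq.1 h1⟩))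
  have hs : ∀ {R S : CommRingCat.{u}} (φ : R ⟶ S), Function.Surjective φ.hom → IsClosedImmersion (Spec.map φ) :=
    fun φ hφ => IsClosedImmersion.spec_of_surjective φ hφ
  haveI : IsClosedImmersion (Spec.map p) := hs p (Ideal.Quotient.factor_surjective le_sup_left)
  haveI : IsClosedImmersion (Spec.map q) := hs q (Ideal.Quotient.factor_surjective le_sup_right)
  haveI : IsClosedImmersion (Spec.map πA) := hs πA Ideal.Quotient.mk_surjective
  haveI : IsClosedImmersion (Spec.map πB) := hs πB Ideal.Quotient.mk_surjective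
  have hσY : Function.Surjective σY.hom := Ideal.Quotient.factor_surjective hFI
  haveI : IsClosedImmersion (Spec.map σY) := hs σY hσY
  haveI : Surjective (Spec.map σY) := by
    refine surjective_specMap_of_nil _ hσY fun x hx => ?_
    obtain ⟨x, rfl⟩ := Ideal.Quotient.mk_surjective x
    obtain ⟨r, rfl⟩ := Ideal.mem_span_singleton.1 (Ideal.Quotient.eq_zero_iff_mem.1
      (show Ideal.Quotient.mk I₀ x = 0 from hx))
    refine ⟨c + 1, ?_⟩
    rw [← map_pow, mul_pow]
    exact Ideal.Quotient.eq_zero_iff_mem.2 (Ideal.mul_mem_right _ _ (Ideal.mem_span_singleton_self _))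
  have hσZ : Function.Surjective σZ.hom := fun z => by
    obtain ⟨z, rfl⟩ := Ideal.Quotient.mk_surjective z
    obtain ⟨z, rfl⟩ := Ideal.Quotient.mk_surjective z
    exact ⟨Ideal.Quotient.mk _ z, rfl⟩
  haveI : IsClosedImmersion (Spec.map σZ) := hs σZ hσZ
  haveI : Surjective (Spec.map σZ) := by
    refine surjective_specMap_of_nil _ hσZ fun x hx => ?_
    obtain ⟨x, rfl⟩ := Ideal.Quotient.mk_surjective x
    obtain ⟨r, hr⟩ := Ideal.mem_span_singleton.1 (Ideal.Quotient.eq_zero_iff_mem.1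
      (show Ideal.Quotient.mk I₀' (Ideal.Quotient.mk T x) = 0 from hx))
    obtain ⟨r, rfl⟩ := Ideal.Quotient.mk_surjective r
    refine ⟨c + 1, (map_pow (Ideal.Quotient.mk (T ⊔ F)) x (c + 1)).symm.trans (Ideal.Quotient.eq_zero_iff_mem.2 ?_)⟩
    have hx' : x ^ (c + 1) - (f * r) ^ (c + 1) ∈ T := Ideal.Quotient.eq.1 (by rw [map_pow, map_pow, map_mul, hr])
    rw [mul_pow] at hx'
    simpa using add_mem (Ideal.mem_sup_left hx' : _ ∈ T ⊔ F)
      (Ideal.mem_sup_right (Ideal.mul_mem_right (r ^ (c + 1)) F (Ideal.mem_span_singleton_self (f ^ (c + 1)))))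
  -- the punctured spectra
  let P := FEt.puncturedSpec A
  let P' := FEt.puncturedSpec (A ⧸ T)
  have hPP' : Spec.map πA ⁻¹ᵁ P = P' := preimage_puncturedSpec _ Ideal.Quotient.mk_surjective
  let g := Spec.map σY ≫ Spec.map πB
  have hg : g = Spec.map (CommRingCat.ofHom (Ideal.Quotient.mk I₀)) := by
    rw [show g = Spec.map (πB ≫ σY) from (Spec.map_comp _ _).symm]; rfl
  let j' := Spec.map (CommRingCat.ofHom (Ideal.Quotient.mk I₀'))
  have hj' : j' = Spec.map σZ ≫ Spec.map p := by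
    rw [← Spec.map_comp]
    exact congrArg Spec.map (by ext x; rfl)
  have hzg : Spec.map ρ ≫ g = j' ≫ Spec.map πA := by
    rw [hg, ← Spec.map_comp, ← Spec.map_comp]; rfl
  have hpb : IsPullback (g ∣_ P) (g ⁻¹ᵁ P).ι P.ι (Spec.map (CommRingCat.ofHom (Ideal.Quotient.mk I₀))) := by
    have := isPullback_morphismRestrict g P
    rwa [← hg] at *
  let φ := hpb.isoPullback
  haveI := restrict_isEquivalence_of_isIso φ.hom
  let R := (FEt.restrict φ.hom).obj V₀
  have hz : ∀ w, pullback.snd P'.ι j' w ∈ Spec.map ρ ⁻¹ᵁ (g ⁻¹ᵁ P) := fun w => by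
    show (Spec.map ρ ≫ g) (pullback.snd P'.ι j' w) ∈ P
    rw [hzg, Scheme.Hom.comp_apply, ← Scheme.Hom.comp_apply (pullback.snd P'.ι j') j', ← pullback.condition,
      Scheme.Hom.comp_apply]
    exact hPP'.ge (pullback.fst P'.ι j' w).2
  let z : pullback P'.ι j' ⟶ ((g ⁻¹ᵁ P : (Spec (CommRingCat.of (A ⧸ I₀))).Opens) : Scheme.{u}) :=
    IsOpenImmersion.lift (g ⁻¹ᵁ P).ι (pullback.snd P'.ι j' ≫ Spec.map ρ) (by
      rintro _ ⟨w, rfl⟩
      rw [Scheme.Opens.range_ι, Scheme.Hom.comp_apply]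
      exact hz w)
  have hzι : z ≫ (g ⁻¹ᵁ P).ι = pullback.snd P'.ι j' ≫ Spec.map ρ := IsOpenImmersion.lift_fac _ _ _
  obtain ⟨U, W, u₀, hu₀, hU, ⟨η⟩⟩ := exists_extension_hyper h ((FEt.restrict z).obj R)
  let O' := P'.ι ''ᵁ U
  have hO'P : O' ≤ Spec.map πA ⁻¹ᵁ P := (P'.ι_image_le U).trans hPP'.ge
  let ZO := (Spec.map σZ ≫ Spec.map p) ⁻¹ᵁ O'
  let ν : (ZO : Scheme.{u}) ⟶ pullback P'.ι j' :=
    pullback.lift (IsOpenImmersion.lift P'.ι (ZO.ι ≫ j') (by
      rintro _ ⟨w, rfl⟩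
      rw [Scheme.Opens.range_ι, Scheme.Hom.comp_apply, hj']
      exact P'.ι_image_le U w.2)) ZO.ι (IsOpenImmersion.lift_fac _ _ _)
  let e₀ := P'.ι.isoImage U
  haveI := restrict_isEquivalence_of_isIso e₀.hom
  let mX : (ZO : Scheme.{u}) ⟶ (O' : Scheme.{u}) := ν ≫ u₀ ≫ e₀.hom
  obtain ⟨V, T', u, hV, hu, ⟨ψ⟩⟩ := exists_glue_nhd hp (Spec.map σY) (Spec.map σZ) P O' hO'P
    (fun x y hxy hx => by
      have hxP : x ∈ P' := hPP'.le hx
      refine ⟨⟨x, hxP⟩, hU (mem_support_divisorIdeal P' f' ⟨x, hxP⟩ ?_), rfl⟩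
      show f ∈ (show PrimeSpectrum A from Spec.map πA x).asIdeal
      rw [hxy, show Spec.map πB (Spec.map σY y) = g y from rfl, hg]
      show Ideal.Quotient.mk I₀ f ∈ (show PrimeSpectrum (A ⧸ I₀) from y).asIdeal
      rw [Ideal.Quotient.eq_zero_iff_mem.2 (Ideal.mem_span_singleton_self f)]
      exact zero_mem _)
    R ((FEt.restrict e₀.hom).objPreimage W) mX (by
      simp only [mX, Category.assoc, O', e₀, Scheme.Hom.isoImage_hom_ι, reassoc_of% hu₀, ν, hyperMap, f']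
      rw [pullback.lift_fst_assoc, IsOpenImmersion.lift_fac, hj'])
    (ν ≫ z) (by
      rw [Category.assoc, reassoc_of% hzι, pullback.lift_snd_assoc]
      exact congrArg (ZO.ι ≫ ·) ((Spec.map_comp σY ρ).symm.trans ((congrArg Spec.map hρ).trans (Spec.map_comp q σZ))))
    ((restrictComp ν (u₀ ≫ e₀.hom) mX rfl).app _ ≪≫ (FEt.restrict ν).mapIso ((restrictComp u₀ e₀.hom _ rfl).app _ ≪≫
      (FEt.restrict u₀).mapIso ((FEt.restrict e₀.hom).objObjPreimageIso W) ≪≫ η) ≪≫
      ((restrictComp ν z _ rfl).app R).symm)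
  let κ := P.ι ∣_ V
  let v : pullback P.ι (Spec.map (CommRingCat.ofHom (Ideal.Quotient.mk I₀))) ⟶ (P.ι ⁻¹ᵁ V : Scheme.{u}) :=
    IsOpenImmersion.lift (P.ι ⁻¹ᵁ V).ι (hyperMap A f) (by
      rintro _ ⟨w, rfl⟩
      rw [Scheme.Opens.range_ι]
      show (hyperMap A f ≫ P.ι) w ∈ V
      have hw : (hyperMap A f ≫ P.ι) = φ.inv ≫ u ≫ V.ι := by
        rw [hu, ← Category.assoc, IsPullback.isoPullback_inv_snd, show Spec.map σY ≫ Spec.map πB = g from rfl, hg]
        exact pullback.condition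
      rw [hw, ← Category.assoc, Scheme.Hom.comp_apply]
      exact ((φ.inv ≫ u) w).2)
  have hv : v ≫ (P.ι ⁻¹ᵁ V).ι = hyperMap A f := IsOpenImmersion.lift_fac _ _ _
  refine ⟨P.ι ⁻¹ᵁ V, (FEt.restrict κ).obj T', v, hv, ⟨(FEt.restrict φ.hom).preimageIso
    (((restrictComp φ.hom v _ rfl).app _).symm ≪≫ ((restrictComp (φ.hom ≫ v) κ u ?_).app T').symm ≪≫ ψ)⟩⟩
  rw [← cancel_mono V.ι, Category.assoc, Category.assoc, morphismRestrict_ι, reassoc_of% hv, hu, hyperMap,
    pullback.condition, IsPullback.isoPullback_hom_snd_assoc]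
  exact congrArg ((g ⁻¹ᵁ P).ι ≫ ·) hg.symm

end Groth.Agent.LefEssSurj
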