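import Groth.Agent.LefEssSurj.GermPunct
import Groth.Agent.LefEssSurj.TorsionRed
import Groth.Agent.LefEssSurj.DualKill
import Groth.Agent.QGorD.Basic
import Groth.Agent.DualCx.GorCriterion
import Groth.Agent.AdicLim.Noetherian

/-!
Clopen subsets spread out from `f = 0` when the components off `f = 0` have dimension at least three: reduction to
the quotient by the intersection of those components.
-/

universe u

open CategoryTheory CategoryTheory.Limits AlgebraicGeometry TopologicalSpace Opposite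
open Groth.Agent.FormAlg (KillFin)

set_option autoImplicit false
set_option maxHeartbeats 1000000
set_option backward.isDefEq.respectTransparency false
set_option linter.style.haveILetI false

noncomputable section

namespace Groth.Agent.LefEssSurj

variable {A : Type u} [CommRing A]

/-- Spreading out may be tested modulo an ideal whose zero locus contains everything off `f = 0`. -/
theorem clopenGerm_of_quotient {U : (Spec (CommRingCat.of A)).Opens} {f : A} (T : Ideal A)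
    (hT : ∀ p : PrimeSpectrum A, T ≤ p.asIdeal ∨ f ∈ p.asIdeal)
    (h : ClopenGerm (Spec.map (CommRingCat.ofHom (Ideal.Quotient.mk T)) ⁻¹ᵁ U) (Ideal.Quotient.mk T f)) :
    ClopenGerm U f := by
  intro U' hU' hY Z π hfin het C D hC hD hCD hcov
  let s := Spec.map (CommRingCat.ofHom (Ideal.Quotient.mk T))
  haveI : IsClosedImmersion s := IsClosedImmersion.spec_of_surjective (CommRingCat.ofHom (Ideal.Quotient.mk T))
    Ideal.Quotient.mk_surjective
  let sU := s ∣_ U'
  haveI : IsClosedImmersion sU :=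
    MorphismProperty.of_isPullback (isPullback_morphismRestrict s U').flip inferInstance
  let ZB := pullback π sU
  let a : ZB ⟶ Z := pullback.fst π sU
  let πB : ZB ⟶ (↑(s ⁻¹ᵁ U') : Scheme.{u}) := pullback.snd π sU
  haveI : IsClosedImmersion a := inferInstance
  haveI : IsFinite πB := MorphismProperty.pullback_snd (P := @IsFinite) _ _ hfin
  haveI : Etale πB := MorphismProperty.pullback_snd (P := @Etale) _ _ het
  have hpt : ∀ w : ZB, (π ≫ U'.ι) (a w) = s ((πB ≫ (s ⁻¹ᵁ U').ι) w) := fun w => by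
    have e : a ≫ π ≫ U'.ι = (πB ≫ (s ⁻¹ᵁ U').ι) ≫ s := by
      rw [← Category.assoc, pullback.condition, Category.assoc, morphismRestrict_ι, Category.assoc]
    exact congrArg (fun m => m w) e
  have hmem : ∀ (q : Spec (CommRingCat.of (A ⧸ T))) (x : A),
      Ideal.Quotient.mk T x ∈ q.asIdeal ↔ x ∈ (s q).asIdeal := fun q x => Iff.rfl
  obtain ⟨U₂, hU₂, W, K, hW, hK, hCW, hDK, hWK⟩ := h (s ⁻¹ᵁ U') (fun q hq => hU' hq)
    (fun q hq hfq => hY _ hq hfq) ZB πB inferInstance inferInstance (a ⁻¹' C) (a ⁻¹' D)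
    (hC.preimage a.continuous) (hD.preimage a.continuous) (hCD.preimage a) (fun w => by
      show a w ∈ C ∪ D ↔ _
      rw [hcov, hpt, hmem])
  have hbad : IsClosed (s '' (↑U₂ : Set (Spec (CommRingCat.of (A ⧸ T))))ᶜ) :=
    s.isClosedEmbedding.isClosedMap _ U₂.2.isClosed_compl
  refine ⟨U' ⊓ ⟨(s '' (↑U₂ : Set (Spec (CommRingCat.of (A ⧸ T))))ᶜ)ᶜ, hbad.isOpen_compl⟩, fun p hp hfp => ⟨hY p hp hfp, ?_⟩,
    a '' W ∪ C, a '' K ∪ D, (a.isClosedEmbedding.isClosedMap _ hW).union hC,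
    (a.isClosedEmbedding.isClosedMap _ hK).union hD, Set.subset_union_right, Set.subset_union_right, fun z hz => ?_⟩
  · rintro ⟨q, hq, rfl⟩
    exact hq (hU₂ q hp hfp)
  obtain ⟨-, hz⟩ := hz
  have hinj := a.isClosedEmbedding.injective
  constructor
  · rintro (⟨w, hw, rfl⟩ | hzC) (⟨w', hw', he⟩ | hzD)
    · obtain rfl := hinj he
      refine (hWK _ ?_).1 hw hw'
      by_contra hn
      exact hz ⟨_, hn, (hpt _).symm⟩
    · refine (hWK w ?_).1 hw (hDK hzD)
      by_contra hn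
      exact hz ⟨_, hn, (hpt _).symm⟩
    · subst he
      refine (hWK w' ?_).1 (hCW hzC) hw'
      by_contra hn
      exact hz ⟨_, hn, (hpt _).symm⟩
    · exact Set.disjoint_left.1 hCD hzC hzD
  · intro hzK
    by_cases hfz : f ∈ ((π ≫ U'.ι) z).asIdeal
    · exact Or.inr (((hcov z).2 hfz).resolve_right fun h' => hzK (Or.inr h'))
    obtain ⟨w, hw⟩ : z ∈ Set.range a := by
      rw [Scheme.Pullback.range_fst, Set.mem_preimage]
      obtain ⟨q, hq⟩ : (π ≫ U'.ι) z ∈ Set.range s := by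
        show _ ∈ Set.range (PrimeSpectrum.comap (Ideal.Quotient.mk T))
        rw [range_comap_of_surjective _ _ Ideal.Quotient.mk_surjective, Ideal.mk_ker, PrimeSpectrum.mem_zeroLocus,
          SetLike.coe_subset_coe]
        exact (hT _).resolve_right hfz
      refine ⟨⟨q, ?_⟩, U'.ι.isOpenEmbedding.injective ?_⟩
      · show s q ∈ U'
        rw [hq]
        exact (π z).2
      · rw [← Scheme.Hom.comp_apply, morphismRestrict_ι, Scheme.Hom.comp_apply]
        exact hq
    refine Or.inl ⟨w, (hWK w ?_).2 fun hk => hzK (Or.inl ⟨w, hk, hw⟩), hw⟩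
    by_contra hn
    exact hz ⟨_, hn, by rw [← hpt, hw]⟩

/-- Everything spreads out when `f` vanishes everywhere. -/
theorem clopenGerm_of_forall_mem {U : (Spec (CommRingCat.of A)).Opens} {f : A}
    (hf : ∀ p : PrimeSpectrum A, f ∈ p.asIdeal) : ClopenGerm U f :=
  fun U' _ hY Z π _ _ C D hC hD hCD hcov => ⟨U', hY, C, D, hC, hD, subset_rfl, subset_rfl, fun z _ =>
    ⟨fun h h' => Set.disjoint_left.1 hCD h h', fun h => ((hcov z).2 (hf _)).resolve_right h⟩⟩

section

variable [IsNoetherianRing A] [IsLocalRing A] {ω : Dual.D A} (hω : Dual.IsDualizing A ω)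
  (hn : Dual.IsNormalized A ω) {f : A}
include hω hn

/-- The dualizing complex sees no cohomology in degrees `-2`, `-1` of the reduced union of big components. -/
theorem van_reduced (hc : ∀ p : Ideal A, p ∈ minimalPrimes A → f ∉ p → (3 : WithBot ℕ∞) ≤ ringKrullDim (A ⧸ p))
    (T : Ideal A) (hT : ∀ x, x ∈ T ↔ ∀ p ∈ minimalPrimes A, f ∉ p → x ∈ p)
    {q p : PrimeSpectrum A} (hq : f ∉ q.asIdeal) (hqp : q ≤ p) (hfp : f ∈ p.asIdeal)
    (hp : p ≠ IsLocalRing.closedPoint A) {j : ℤ} (hj : -2 ≤ j) : DualCx.Van ω q.asIdeal (A ⧸ T) j := by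
  classical
  by_cases hgt : -DualCx.del hω q < j
  · exact DualCx.van_gt hω hgt
  by_cases hTq : T ≤ q.asIdeal
  swap
  · obtain ⟨u, huT, huq⟩ := SetLike.not_le_iff_exists.1 hTq
    refine fun x => ⟨u, huq, DualCx.smul_eq_zero_of_killed (fun m => ?_) x⟩
    obtain ⟨m, rfl⟩ := Submodule.mkQ_surjective _ m
    exact (Submodule.Quotient.mk_eq_zero T).2 (Ideal.mul_mem_right _ _ huT)
  by_contra hv
  let S : Finset (Ideal A) := ((minimalPrimes.finite_of_isNoetherianRing A).subset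
    (fun p (hp : p ∈ minimalPrimes A ∧ f ∉ p) => hp.1)).toFinset
  have hS : ∀ p, p ∈ S ↔ p ∈ minimalPrimes A ∧ f ∉ p := fun p => Set.Finite.mem_toFinset _
  have hTS : S.inf id ≤ T := fun x hx => (hT x).2 fun p hp hfp =>
    (Finset.inf_le ((hS p).2 ⟨hp, hfp⟩) : S.inf id ≤ p) hx
  obtain ⟨p₀, hp₀S, hp₀q⟩ := (Ideal.IsPrime.inf_le' q.isPrime).1 (hTS.trans hTq)
  obtain ⟨hp₀, hp₀f⟩ := (hS p₀).1 hp₀S
  change p₀ ≤ q.asIdeal at hp₀q
  have hle : DualCx.del hω p < DualCx.del hω q :=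
    DualCx.del_lt hω (lt_of_le_of_ne hqp fun he => hq (he ▸ hfp))
  have h0 : DualCx.del hω (IsLocalRing.closedPoint A) < DualCx.del hω p := DualCx.del_lt hω
    (lt_of_le_of_ne (show p.asIdeal ≤ IsLocalRing.maximalIdeal A from IsLocalRing.le_maximalIdeal p.isPrime.ne_top) hp)
  rw [DualCx.del_closed hω hn] at h0
  by_cases heq : p₀ = q.asIdeal
  · obtain ⟨d, hd, hdim⟩ := DualKill.ringKrullDim_eq_del hω hn q
    have h3 := hc p₀ hp₀ hp₀f
    rw [heq, hdim] at h3
    have h3' : 3 ≤ d := by exact_mod_cast h3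
    lia
  let l := (-DualCx.del hω q - j).toNat
  have hl : -DualCx.del hω q - (l : ℤ) = j := by lia
  have hd := (DualCx.depth_le_iff hω (M := A ⧸ T) q l).2 ⟨l, le_rfl, by rwa [hl]⟩
  -- a regular element
  obtain ⟨a, haq, ha⟩ : ∃ a ∈ q.asIdeal, ∀ p₁ ∈ S, a ∉ p₁ := by
    by_contra! hcon
    have hsub : (q.asIdeal : Set A) ⊆ ⋃ p₁ ∈ (S : Set (Ideal A)), (p₁ : Set A) := fun x hx => by
      obtain ⟨p₁, h1, h2⟩ := hcon x hx
      exact Set.mem_iUnion₂.2 ⟨p₁, h1, h2⟩
    obtain ⟨p₁, hp₁, hqp₁⟩ := (Ideal.subset_union_prime (f := id) ⊥ ⊥ fun p₁ hp₁ _ _ =>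
      ((hS p₁).1 hp₁).1.1.1).1 hsub
    exact heq (le_antisymm hp₀q ((hqp₁.trans (((hS p₁).1 hp₁).1.2 hp₀.1 (hp₀q.trans hqp₁)))))
  have hreg : IsSMulRegular (LocalizedModule q.asIdeal.primeCompl (A ⧸ T))
      (algebraMap A (Localization.AtPrime q.asIdeal) a) := by
    intro x y hxy
    have hinj : Function.Injective (LinearMap.lsmul A (A ⧸ T) a) := (injective_iff_map_eq_zero _).2 fun m hm => by
      obtain ⟨m, rfl⟩ := Submodule.mkQ_surjective _ m
      have hm' : a * m ∈ T := (Submodule.Quotient.mk_eq_zero T).1 hm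
      exact (Submodule.Quotient.mk_eq_zero T).2 ((hT m).2 fun p₁ hp₁ hf₁ =>
        (hp₁.1.1.mem_or_mem ((hT _).1 hm' p₁ hp₁ hf₁)).resolve_left (ha p₁ ((hS p₁).2 ⟨hp₁, hf₁⟩)))
    let ℓ := LocalizedModule.mkLinearMap q.asIdeal.primeCompl (A ⧸ T)
    refine IsLocalizedModule.map_injective q.asIdeal.primeCompl ℓ ℓ _ hinj ?_
    have e : IsLocalizedModule.map q.asIdeal.primeCompl ℓ ℓ (LinearMap.lsmul A (A ⧸ T) a) =
        a • (LinearMap.id : LocalizedModule q.asIdeal.primeCompl (A ⧸ T) →ₗ[A] _) := by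
      refine IsLocalizedModule.ext q.asIdeal.primeCompl ℓ (fun s => IsLocalizedModule.map_units ℓ s) ?_
      rw [IsLocalizedModule.map_comp]
      exact LinearMap.ext fun m => map_smul ℓ a m
    rw [e]
    show a • x = a • y
    rw [← algebraMap_smul (Localization.AtPrime q.asIdeal) a x, ← algebraMap_smul (Localization.AtPrime q.asIdeal) a y]
    exact hxy
  have h1 : 1 ≤ LocCoh.depth (Localization.AtPrime q.asIdeal) (LocalizedModule q.asIdeal.primeCompl (A ⧸ T)) :=
    QGorD.one_le_of_regular ((IsLocalization.AtPrime.to_map_mem_maximal_iff _ q.asIdeal a).2 haq) hreg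
  have h1' : 1 ≤ l := by exact_mod_cast h1.trans hd
  lia

end

/-- Spreading out when all components off `f = 0` have dimension at least three. -/
theorem clopenGerm_of_minimalPrimes [IsNoetherianRing A] [IsLocalRing A]
    (hd : ∃ ω : Dual.D A, Dual.IsDualizing A ω) {f : A} [IsAdicComplete (Ideal.span {f}) A]
    (hc : ∀ p : Ideal A, p ∈ minimalPrimes A → f ∉ p → (3 : WithBot ℕ∞) ≤ ringKrullDim (A ⧸ p)) :
    ClopenGerm (FEt.puncturedSpec A) f := by
  let T : Ideal A :=
    { carrier := {x | ∀ p ∈ minimalPrimes A, f ∉ p → x ∈ p}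
      add_mem' := fun hx hy p hp hf => p.add_mem (hx p hp hf) (hy p hp hf)
      zero_mem' := fun p _ _ => p.zero_mem
      smul_mem' := fun c x hx p hp hf => p.smul_mem c (hx p hp hf) }
  have hTf : ∀ p : PrimeSpectrum A, T ≤ p.asIdeal ∨ f ∈ p.asIdeal := fun p => by
    by_cases hfp : f ∈ p.asIdeal
    · exact Or.inr hfp
    obtain ⟨p₀, hp₀, hp₀p⟩ := Ideal.exists_minimalPrimes_le (show (⊥ : Ideal A) ≤ p.asIdeal from bot_le)
    exact Or.inl fun x hx => hp₀p (hx p₀ hp₀ fun h => hfp (hp₀p h))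
  by_cases htop : T = ⊤
  · refine clopenGerm_of_forall_mem fun p => (hTf p).resolve_left fun h => p.isPrime.ne_top ?_
    exact top_le_iff.1 (htop ▸ h)
  haveI : Nontrivial (A ⧸ T) := Ideal.Quotient.nontrivial_iff.2 htop
  haveI : IsLocalRing (A ⧸ T) := IsLocalRing.of_surjective' (Ideal.Quotient.mk T) Ideal.Quotient.mk_surjective
  haveI : IsAdicComplete (Ideal.span {Ideal.Quotient.mk T f}) (A ⧸ T) := by
    have h := Groth.Agent.AdicLim.isAdicComplete_of_finite (Ideal.span {f}) (A ⧸ T)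
    rw [← IsAdicComplete.map_algebraMap_iff (S := A ⧸ T), Ideal.map_span, Set.image_singleton] at h
    exact h
  have hnz : Ideal.Quotient.mk T f ∈ nonZeroDivisors (A ⧸ T) := mem_nonZeroDivisors_iff_right.2 fun x hx => by
    obtain ⟨x, rfl⟩ := Ideal.Quotient.mk_surjective x
    rw [← map_mul, Ideal.Quotient.eq_zero_iff_mem] at hx
    exact Ideal.Quotient.eq_zero_iff_mem.2 fun p hp hf => (hp.1.1.mem_or_mem (hx p hp hf)).resolve_right hf
  obtain ⟨ω, hω⟩ := hd
  obtain ⟨n, hn⟩ := DualCx.exists_normalized_shift hω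
  have hω' := DualCx.isDualizing_shift hω n
  obtain ⟨c, hcK⟩ := DualKill.exists_killFin_of_kill hω' hn T hnz 1 fun j hj _ => by
    haveI := DualCx.finite_T hω' (A ⧸ T) j
    have hj2 : (-2 : ℤ) ≤ j := le_trans (by norm_num) hj
    obtain ⟨N, hN⟩ := DualKill.exists_pow_kill_local _
      (fun p : PrimeSpectrum A => f ∈ p.asIdeal ∧ p ≠ IsLocalRing.closedPoint A)
      fun q p hq hqp hp x => van_reduced hω' hn hc T (fun _ => Iff.rfl) hq hqp hp.1 hp.2 hj2 x
    exact ⟨N, fun p hp hp' => hN p ⟨hp, hp'⟩⟩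
  refine clopenGerm_of_quotient T hTf ?_
  rw [preimage_puncturedSpec _ Ideal.Quotient.mk_surjective]
  refine clopenGerm_of_kill (c := c) hnz (FormAlg.puncturedSpec_eq _) fun k => ?_
  obtain ⟨φ, hφ⟩ := LocH.exists_semilinearEquiv (R := A) (R' := A ⧸ T) (IsLocalRing.maximalIdeal A) 1
    ((A ⧸ T) ⧸ Ideal.span {Ideal.Quotient.mk T f ^ k})
  have hmax : (IsLocalRing.maximalIdeal A).map (algebraMap A (A ⧸ T)) = IsLocalRing.maximalIdeal (A ⧸ T) :=
    IsLocalRing.map_maximalIdeal_of_surjective (algebraMap A (A ⧸ T)) Ideal.Quotient.mk_surjective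
  have hfin := DualKill.killFin_of_semilinear (A' := A ⧸ T) φ hφ (hcK 1 le_rfl le_rfl k)
  rw [hmax, map_pow] at hfin
  exact hfin

end Groth.Agent.LefEssSurj
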