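import Groth.Agent.LefEssSurj.GermFF
import Groth.Agent.FormAlg.Existence
import Groth.Prelude.Def_Wider

/-!
The neighbourhood form of full faithfulness for the punctured spectrum.
-/

universe u

open CategoryTheory CategoryTheory.Limits AlgebraicGeometry TopologicalSpace Opposite

set_option autoImplicit false
set_option maxHeartbeats 1000000
set_option backward.isDefEq.respectTransparency false
set_option linter.style.haveILetI false

noncomputable section

namespace Groth.Agent.LefEssSurj.GermFF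

variable {A : Type u} [CommRing A] [IsLocalRing A] (f : A)

/-- The part over `f = 0` of the punctured spectrum inside an open containing it. -/
theorem closed_range_punct {U' : (Spec (CommRingCat.of A)).Opens} (hU' : U' ≤ FEt.puncturedSpec A)
    (u' : pullback (FEt.puncturedSpec A).ι (Spec.map (CommRingCat.ofHom (Ideal.Quotient.mk (Ideal.span {f})))) ⟶
      (↑U' : Scheme.{u}))
    (hu' : u' ≫ U'.ι = pullback.fst (FEt.puncturedSpec A).ι
      (Spec.map (CommRingCat.ofHom (Ideal.Quotient.mk (Ideal.span {f})))) ≫ (FEt.puncturedSpec A).ι) :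
    IsClosedImmersion u' ∧ (∀ x : (↑U' : Scheme.{u}), x ∈ Set.range u' ↔ f ∈ (U'.ι x).asIdeal) ∧
      ∀ p ∈ FEt.puncturedSpec A, f ∈ p.asIdeal → p ∈ U' := by
  let P := FEt.puncturedSpec A
  let s := Spec.map (CommRingCat.ofHom (Ideal.Quotient.mk (Ideal.span {f})))
  haveI : IsClosedImmersion s :=
    IsClosedImmersion.spec_of_surjective (CommRingCat.ofHom (Ideal.Quotient.mk (Ideal.span {f})))
      Ideal.Quotient.mk_surjective
  let c := pullback.fst P.ι s
  have hrs : ∀ q : (↑P : Scheme.{u}), q ∈ Set.range c ↔ f ∈ (P.ι q).asIdeal := fun q => by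
    rw [Scheme.Pullback.range_fst, Set.mem_preimage]
    show P.ι q ∈ Set.range (PrimeSpectrum.comap (Ideal.Quotient.mk (Ideal.span {f}))) ↔ _
    rw [range_comap_of_surjective _ _ Ideal.Quotient.mk_surjective, Ideal.mk_ker, PrimeSpectrum.mem_zeroLocus,
      SetLike.coe_subset_coe, Ideal.span_singleton_le_iff_mem]
  have hmem : ∀ p ∈ P, f ∈ p.asIdeal → p ∈ U' := fun p hp hfp => by
    obtain ⟨y, hy⟩ := (hrs ⟨p, hp⟩).2 hfp
    have h := congrArg (fun m => m y) hu'
    have h' : U'.ι (u' y) = p := h.trans ((Scheme.Hom.comp_apply _ _ _).trans (congrArg P.ι hy))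
    rw [← h']
    exact (u' y).2
  have hfac : u' ≫ (Spec (CommRingCat.of A)).homOfLE hU' = c := by
    rw [← cancel_mono P.ι, Category.assoc, Scheme.homOfLE_ι]
    exact hu'
  haveI : IsClosedImmersion (u' ≫ (Spec (CommRingCat.of A)).homOfLE hU') := by
    rw [hfac]
    infer_instance
  refine ⟨IsClosedImmersion.of_comp u' ((Spec (CommRingCat.of A)).homOfLE hU'), fun x => ⟨?_, fun hx => ?_⟩, hmem⟩
  · rintro ⟨y, rfl⟩
    rw [show U'.ι (u' y) = P.ι (c y) from congrArg (fun m => m y) hu']
    exact (hrs _).1 ⟨y, rfl⟩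
  · obtain ⟨y, hy⟩ := (hrs ⟨U'.ι x, hU' x.2⟩).2 hx
    refine ⟨y, U'.ι.isOpenEmbedding.injective ?_⟩
    rw [show U'.ι (u' y) = P.ι (c y) from congrArg (fun m => m y) hu', hy]
    rfl

/-- Full faithfulness near `f = 0` in the punctured spectrum from spreading out of clopen subsets. -/
theorem germ_full_faithful (h : ClopenGerm (FEt.puncturedSpec A) f) :
    ∀ (U' : (Spec (CommRingCat.of A)).Opens) (_ : U' ≤ (FEt.puncturedSpec A))
      (u' : pullback (FEt.puncturedSpec A).ι (Spec.map (CommRingCat.ofHom (Ideal.Quotient.mk (Ideal.span {f})))) ⟶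
        (U' : Scheme.{u}))
      (_ : u' ≫ U'.ι = (pullback.fst (FEt.puncturedSpec A).ι
        (Spec.map (CommRingCat.ofHom (Ideal.Quotient.mk (Ideal.span {f})))) ≫ (FEt.puncturedSpec A).ι))
      (V' W' : FEt.Cat (U' : Scheme.{u})),
      (∀ φ₀ : (FEt.restrict u').obj V' ⟶ (FEt.restrict u').obj W',
        ∃ (U'' : (Spec (CommRingCat.of A)).Opens) (h : U'' ≤ U')
          (u'' : pullback (FEt.puncturedSpec A).ι (Spec.map (CommRingCat.ofHom (Ideal.Quotient.mk (Ideal.span {f})))) ⟶
            (U'' : Scheme.{u}))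
          (hu : u'' ≫ (Spec (CommRingCat.of A)).homOfLE h = u')
          (φ : (FEt.restrict ((Spec (CommRingCat.of A)).homOfLE h)).obj V' ⟶
            (FEt.restrict ((Spec (CommRingCat.of A)).homOfLE h)).obj W'),
          (FEt.restrict u'').map φ = (MorphismProperty.Over.pullbackComp u'' ((Spec (CommRingCat.of A)).homOfLE h) u'
              hu.symm).inv.app V' ≫ φ₀ ≫
            (MorphismProperty.Over.pullbackComp u'' ((Spec (CommRingCat.of A)).homOfLE h) u' hu.symm).hom.app W') ∧
      (∀ φ ψ : V' ⟶ W', (FEt.restrict u').map φ = (FEt.restrict u').map ψ →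
        ∃ (U'' : (Spec (CommRingCat.of A)).Opens) (h : U'' ≤ U')
          (u'' : pullback (FEt.puncturedSpec A).ι (Spec.map (CommRingCat.ofHom (Ideal.Quotient.mk (Ideal.span {f})))) ⟶
            (U'' : Scheme.{u})),
          u'' ≫ (Spec (CommRingCat.of A)).homOfLE h = u' ∧
            (FEt.restrict ((Spec (CommRingCat.of A)).homOfLE h)).map φ =
              (FEt.restrict ((Spec (CommRingCat.of A)).homOfLE h)).map ψ) := by
  intro U' hU' u' hu' V' W'
  obtain ⟨hcl, hr, hY⟩ := closed_range_punct f hU' u' hu'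
  haveI := hcl
  exact ⟨fun φ₀ => full u' hr h hU' hY V' W' φ₀, fun φ ψ heq => faithful u' V' W' φ ψ heq⟩

end Groth.Agent.LefEssSurj.GermFF
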