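import Groth.Agent.LefEssSurj.PunctHyper
import Groth.Agent.Pinch.Charts
import Groth.Agent.Pinch.BaseChange
import Groth.Agent.S1186
import Groth.Agent.S0238

/-!
Finite étale covers near a closed subset glue along a union of two closed subschemes.
-/

universe u

open CategoryTheory CategoryTheory.Limits AlgebraicGeometry TopologicalSpace Opposite

set_option autoImplicit false
set_option maxHeartbeats 800000
set_option backward.isDefEq.respectTransparency false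
set_option backward.isDefEq.respectTransparency.types false
set_option linter.style.haveILetI false

noncomputable section

namespace Groth.Agent.LefEssSurj

/-- Two ways round a square. -/
def restrictSq {A B C D : Scheme.{u}} (f : A ⟶ B) (g : B ⟶ D) (f' : A ⟶ C) (g' : C ⟶ D) (h : f ≫ g = f' ≫ g')
    (W : FEt.Cat D) : (FEt.restrict f).obj ((FEt.restrict g).obj W) ≅ (FEt.restrict f').obj ((FEt.restrict g').obj W) :=
  ((restrictComp f g _ rfl).app W).symm ≪≫ (restrictComp f' g' (f ≫ g) h.symm).app W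

theorem exists_affine_of_closed {Z X Y : Scheme.{u}} (i : Z ⟶ X) (j : Z ⟶ Y) [IsClosedImmersion i]
    [IsClosedImmersion j] (y : Y) : ∃ U : X.Opens, IsAffineOpen U ∧ ∀ z : Z, j z = y → i z ∈ U := by
  obtain ⟨U, V, hUV, hy⟩ := Pinch.hasCharts_of_closed i j y
  refine ⟨U, hUV.affX, fun z hz => ?_⟩
  show z ∈ i ⁻¹ᵁ U
  rw [hUV.sat]
  show j z ∈ V
  rwa [hz]

variable {S X Y Z : Scheme.{u}} {i : Z ⟶ X} {j : Z ⟶ Y} {a : X ⟶ S} {b : Y ⟶ S}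

/-- The union square restricted to an open subset. -/
theorem isPushout_restrict [IsClosedImmersion i] [IsClosedImmersion j] (hp : Pinch.IsPinch i j a b) (V : S.Opens)
    (jT : ((i ⁻¹ᵁ (a ⁻¹ᵁ V) : Z.Opens) : Scheme.{u}) ⟶ (b ⁻¹ᵁ V : Scheme.{u}))
    (hjT : jT ≫ (b ⁻¹ᵁ V).ι = (i ⁻¹ᵁ (a ⁻¹ᵁ V)).ι ≫ j) :
    IsPushout (i ∣_ (a ⁻¹ᵁ V)) jT (a ∣_ V) (b ∣_ V) := by
  refine Pinch.isPushout_of_isPinch (Pinch.isPinch_baseChange_flat (Pinch.hasCharts_of_closed i j) hp (𝟙 S) V.ι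
    (pP := V.ι) (sPT := 𝟙 (V : Scheme.{u})) (IsPullback.of_vert_isIso ⟨by simp⟩) (isPullback_morphismRestrict a V).flip
    (isPullback_morphismRestrict b V).flip (isPullback_morphismRestrict i (a ⁻¹ᵁ V)).flip hjT ?_)
  rw [← cancel_mono V.ι, Category.assoc, Category.assoc, morphismRestrict_ι, morphismRestrict_ι, reassoc_of% hjT,
    morphismRestrict_ι_assoc, Pinch.w_of_isPinch hp]

variable [IsClosedImmersion i] [IsClosedImmersion j] [IsClosedImmersion a] [IsClosedImmersion b]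

/-- A cover of an open of one branch and a cover of a thickened closed piece of the other glue to a neighbourhood. -/
theorem exists_glue_nhd (hp : Pinch.IsPinch i j a b) {Y₀ Z₀ : Scheme.{u}} (sY : Y₀ ⟶ Y) (sZ : Z₀ ⟶ Z)
    [IsClosedImmersion sY] [Surjective sY] [IsClosedImmersion sZ] [Surjective sZ] (O : S.Opens) (O' : X.Opens)
    (hO' : O' ≤ a ⁻¹ᵁ O) (hsub : ∀ (x : X) (y : Y₀), a x = b (sY y) → a x ∈ O → x ∈ O')
    (R : FEt.Cat ((sY ≫ b) ⁻¹ᵁ O : Scheme.{u})) (W : FEt.Cat (O' : Scheme.{u}))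
    (mX : (((sZ ≫ i) ⁻¹ᵁ O' : Z₀.Opens) : Scheme.{u}) ⟶ (O' : Scheme.{u}))
    (hmX : mX ≫ O'.ι = ((sZ ≫ i) ⁻¹ᵁ O').ι ≫ sZ ≫ i)
    (mY : (((sZ ≫ i) ⁻¹ᵁ O' : Z₀.Opens) : Scheme.{u}) ⟶ ((sY ≫ b) ⁻¹ᵁ O : Scheme.{u}))
    (hmY : mY ≫ ((sY ≫ b) ⁻¹ᵁ O).ι ≫ sY = ((sZ ≫ i) ⁻¹ᵁ O').ι ≫ sZ ≫ j)
    (e : (FEt.restrict mX).obj W ≅ (FEt.restrict mY).obj R) :
    ∃ (V : S.Opens) (T : FEt.Cat (V : Scheme.{u})) (u : ((sY ≫ b) ⁻¹ᵁ O : Scheme.{u}) ⟶ (V : Scheme.{u})),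
      V ≤ O ∧ u ≫ V.ι = ((sY ≫ b) ⁻¹ᵁ O).ι ≫ sY ≫ b ∧ Nonempty ((FEt.restrict u).obj T ≅ R) := by
  have hcl : IsClosed (a '' ((O' : Set X)ᶜ)) := a.isClosedEmbedding.isClosedMap _ O'.2.isClosed_compl
  let V : S.Opens := O ⊓ ⟨(a '' ((O' : Set X)ᶜ))ᶜ, hcl.isOpen_compl⟩
  have hVa : a ⁻¹ᵁ V = O' := by
    refine TopologicalSpace.Opens.ext (Set.ext fun x => ⟨fun hx => ?_, fun hx => ⟨hO' hx, ?_⟩⟩)
    · by_contra h
      exact hx.2 ⟨x, h, rfl⟩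
    · rintro ⟨x', hx', he⟩
      exact hx' (a.isClosedEmbedding.injective he ▸ hx)
  have hVb : sY ⁻¹ᵁ (b ⁻¹ᵁ V) = (sY ≫ b) ⁻¹ᵁ O := by
    refine TopologicalSpace.Opens.ext (Set.ext fun y => ⟨fun hy => hy.1, fun hy => ⟨hy, ?_⟩⟩)
    rintro ⟨x, hx, he⟩
    exact hx (hsub x y he (by rw [he]; exact hy))
  let iT := i ∣_ (a ⁻¹ᵁ V)
  have hle : i ⁻¹ᵁ (a ⁻¹ᵁ V) ≤ j ⁻¹ᵁ (b ⁻¹ᵁ V) := (Pinch.preimage_eq (Pinch.w_of_isPinch hp) V).le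
  let jT := j.resLE (b ⁻¹ᵁ V) (i ⁻¹ᵁ (a ⁻¹ᵁ V)) hle
  have hjT : jT ≫ (b ⁻¹ᵁ V).ι = (i ⁻¹ᵁ (a ⁻¹ᵁ V)).ι ≫ j := Scheme.Hom.resLE_comp_ι _ _
  have hpo := isPushout_restrict hp V jT hjT
  haveI : IsClosedImmersion jT := by
    haveI : IsClosedImmersion (jT ≫ (b ∣_ V)) := by rw [← hpo.w]; infer_instance
    exact IsClosedImmersion.of_comp jT (b ∣_ V)
  let o : (a ⁻¹ᵁ V : Scheme.{u}) ⟶ (O' : Scheme.{u}) := X.homOfLE hVa.le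
  let κ := sY ∣_ (b ⁻¹ᵁ V)
  haveI : IsClosedImmersion κ := inferInstance
  haveI : Surjective κ := MorphismProperty.of_isPullback (isPullback_morphismRestrict sY (b ⁻¹ᵁ V)).flip ‹Surjective sY›
  haveI := Groth.Agent.S0238.result κ
  let o₂ : ((sY ⁻¹ᵁ (b ⁻¹ᵁ V) : Y₀.Opens) : Scheme.{u}) ⟶ ((sY ≫ b) ⁻¹ᵁ O : Scheme.{u}) := Y₀.homOfLE hVb.le
  haveI : IsIso o₂ := ⟨Y₀.homOfLE hVb.ge, by simp [o₂], by simp [o₂]⟩
  haveI := restrict_isEquivalence_of_isIso o₂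
  let E := (FEt.restrict κ).objPreimage ((FEt.restrict o₂).obj R)
  let κZ := sZ ∣_ (i ⁻¹ᵁ (a ⁻¹ᵁ V))
  haveI : IsClosedImmersion κZ := inferInstance
  haveI : Surjective κZ :=
    MorphismProperty.of_isPullback (isPullback_morphismRestrict sZ (i ⁻¹ᵁ (a ⁻¹ᵁ V))).flip ‹Surjective sZ›
  haveI := Groth.Agent.S0238.result κZ
  let d : ((sZ ⁻¹ᵁ (i ⁻¹ᵁ (a ⁻¹ᵁ V)) : Z₀.Opens) : Scheme.{u}) ⟶ (((sZ ≫ i) ⁻¹ᵁ O' : Z₀.Opens) : Scheme.{u}) :=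
    Z₀.homOfLE (le_of_eq (by rw [hVa]; rfl))
  let zy : ((sZ ⁻¹ᵁ (i ⁻¹ᵁ (a ⁻¹ᵁ V)) : Z₀.Opens) : Scheme.{u}) ⟶ ((sY ⁻¹ᵁ (b ⁻¹ᵁ V) : Y₀.Opens) : Scheme.{u}) :=
    d ≫ mY ≫ inv o₂
  have hX' : κZ ≫ iT ≫ o = d ≫ mX := by
    rw [← cancel_mono O'.ι]
    simp only [κZ, iT, o, d, Category.assoc, Scheme.homOfLE_ι, morphismRestrict_ι, morphismRestrict_ι_assoc, hmX,
      Scheme.homOfLE_ι_assoc]
  have hinv : inv o₂ ≫ (sY ⁻¹ᵁ (b ⁻¹ᵁ V)).ι = ((sY ≫ b) ⁻¹ᵁ O).ι := by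
    rw [IsIso.inv_comp_eq]; simp [o₂]
  have hY' : κZ ≫ jT = zy ≫ κ := by
    rw [← cancel_mono (b ⁻¹ᵁ V).ι]
    simp only [κZ, zy, κ, Category.assoc, hjT, morphismRestrict_ι, morphismRestrict_ι_assoc, reassoc_of% hinv, hmY,
      d, Scheme.homOfLE_ι_assoc]
  have hzy : zy ≫ o₂ = d ≫ mY := by simp [zy]
  let e1 : (FEt.restrict κZ).obj ((FEt.restrict iT).obj ((FEt.restrict o).obj W)) ≅
      (FEt.restrict d).obj ((FEt.restrict mX).obj W) :=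
    (FEt.restrict κZ).mapIso ((restrictComp iT o _ rfl).app W).symm ≪≫ restrictSq κZ (iT ≫ o) d mX hX' W
  let e2 : (FEt.restrict κZ).obj ((FEt.restrict jT).obj E) ≅ (FEt.restrict d).obj ((FEt.restrict mY).obj R) :=
    restrictSq κZ jT zy κ hY' E ≪≫ (FEt.restrict zy).mapIso ((FEt.restrict κ).objObjPreimageIso _) ≪≫
      restrictSq zy o₂ d mY hzy R
  let η : (FEt.restrict iT).obj ((FEt.restrict o).obj W) ≅ (FEt.restrict jT).obj E :=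
    (FEt.restrict κZ).preimageIso (e1 ≪≫ (FEt.restrict d).mapIso e ≪≫ e2.symm)
  obtain ⟨T, -, ⟨eT⟩⟩ := Groth.Agent.S1186.result iT jT (exists_affine_of_closed iT jT) (a ∣_ V) (b ∣_ V) hpo
    ((FEt.restrict o).obj W) E η
  refine ⟨V, T, inv o₂ ≫ κ ≫ (b ∣_ V), inf_le_left, ?_, ⟨?_⟩⟩
  · simp only [κ, Category.assoc, morphismRestrict_ι, morphismRestrict_ι_assoc, reassoc_of% hinv]
  · exact (FEt.restrict o₂).preimageIso (((restrictComp o₂ (inv o₂ ≫ κ ≫ (b ∣_ V)) (κ ≫ (b ∣_ V))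
      (IsIso.hom_inv_id_assoc o₂ _)).app T).symm ≪≫ (restrictComp κ (b ∣_ V) _ rfl).app T ≪≫
      (FEt.restrict κ).mapIso eT ≪≫ (FEt.restrict κ).objObjPreimageIso _)

end Groth.Agent.LefEssSurj
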