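import Groth.Agent.LefFEt.Pair
import Groth.Agent.TMul.Assoc
import Groth.Agent.ResDesc.Main

/-!
Morphisms from finite locally free modules into a finite locally free module, from compatible families of
morphisms into its reductions, under the Lefschetz bijectivity.
-/

universe u

open CategoryTheory CategoryTheory.Limits AlgebraicGeometry TopologicalSpace Opposite

set_option autoImplicit false
set_option backward.isDefEq.respectTransparency false
set_option backward.isDefEq.respectTransparency.types false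
set_option linter.style.haveILetI false

noncomputable section

namespace Groth.Agent.LefEssSurj

open Groth.Agent.QC Groth.Agent.ResDesc Groth.Agent.LefFEt
open Groth.Agent.WeakAssLib (mgerm mgerm_smul mgerm_res)

variable {X : Scheme.{u}}

/-- A compatible system of quotients `Q n` of `E` with kernels `J^(n+1) E`. -/
structure Formal (J : X.IdealSheafData) (E : X.Modules) (Q : ℕ → X.Modules) where
  /-- The quotient maps. -/
  θ : ∀ n, E ⟶ Q n
  /-- The transition maps. -/
  τ : ∀ n, Q (n + 1) ⟶ Q n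
  comp : ∀ n, θ (n + 1) ≫ τ n = θ n
  surj : ∀ n (U : X.affineOpens), Function.Surjective ((θ n).app U.1)
  ker : ∀ n (U : X.affineOpens) (a : Γ(E, U.1)), (θ n).app U.1 a = 0 ↔ Cong (J ^ (n + 1)) U a

namespace Formal

variable {J : X.IdealSheafData} {E : X.Modules} {Q : ℕ → X.Modules} (F : Formal J E Q)

lemma toSub_pair_eq (n : ℕ) (V : X.affineOpens) {a b : Γ(E, V.1)}
    (h : (F.θ n).app V.1 a = (F.θ n).app V.1 b) (d : Γ(RefHull.dual E, V.1)) :
    (ClSub.toSubscheme (J ^ (n + 1))).app V.1 (pair a d) =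
      (ClSub.toSubscheme (J ^ (n + 1))).app V.1 (pair b d) := by
  rw [← sub_eq_zero, ← map_sub, toSub_eq_zero_iff]
  have h0 : (F.θ n).app V.1 (a - b) = 0 := by rw [map_sub, h, sub_self]
  exact (pair_sub_left a b d) ▸ pair_mem _ V ((F.ker n V _).1 h0) d

/-- The characterisation of the value of a functional on a section of a quotient. -/
def IsVal (n : ℕ) {W : X.Opens} (z : Γ(Q n, W)) (d : Γ(RefHull.dual E, W))
    (P : Γ(ClSub.quotMod (J ^ (n + 1)), W)) : Prop :=
  ∀ (V : X.affineOpens) (h : V.1 ≤ W) (a : Γ(E, V.1)), (F.θ n).app V.1 a = res (Q n) h z →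
    res _ h P = (ClSub.toSubscheme (J ^ (n + 1))).app V.1 (pair a (res (RefHull.dual E) h d))

lemma existsUnique_isVal (n : ℕ) {W : X.Opens} (z : Γ(Q n, W)) (d : Γ(RefHull.dual E, W)) :
    ∃! P, F.IsVal n z d P := by
  let I := {V : X.affineOpens // V.1 ≤ W}
  choose a ha using fun i : I => F.surj n i.1 (res (Q n) i.2 z)
  let p : ∀ i : I, Γ(ClSub.quotMod (J ^ (n + 1)), i.1.1) := fun i =>
    (ClSub.toSubscheme (J ^ (n + 1))).app i.1.1 (pair (a i) (res (RefHull.dual E) i.2 d))
  have hres : ∀ (i : I) (V : X.affineOpens) (h : V.1 ≤ i.1.1) (b : Γ(E, V.1)),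
      (F.θ n).app V.1 b = res (Q n) (h.trans i.2) z →
      res _ h (p i) = (ClSub.toSubscheme (J ^ (n + 1))).app V.1 (pair b (res (RefHull.dual E) (h.trans i.2) d)) := by
    intro i V h b hb
    have h1 : res _ h (p i) = (ClSub.toSubscheme (J ^ (n + 1))).app V.1 (resO X h (pair (a i) (res _ i.2 d))) :=
      app_res _ h _
    rw [h1, res_pair, res_res]
    refine F.toSub_pair_eq n V ?_ _
    rw [← app_res, ha, res_res, hb]
  have hcov : W ≤ iSup fun i : I => i.1.1 := fun x hx => by
    obtain ⟨V, hxV, hV⟩ := KosExt.exists_affine_le hx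
    exact Opens.mem_iSup.mpr ⟨⟨V, hV⟩, hxV⟩
  obtain ⟨P, hP, -⟩ := (abSheaf (ClSub.quotMod (J ^ (n + 1)))).existsUnique_gluing' (fun i : I => i.1.1) W
    (fun i => homOfLE i.2) hcov p (fun i i' => by
      refine section_eq_of_locally fun x hx => ?_
      obtain ⟨V, hxV, hV⟩ := KosExt.exists_affine_le hx
      obtain ⟨b, hb⟩ := F.surj n V (res (Q n) ((hV.trans inf_le_left).trans i.2) z)
      refine ⟨V.1, hV, hxV, ?_⟩
      change res _ hV (res _ inf_le_left (p i)) = res _ hV (res _ inf_le_right (p i'))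
      rw [res_res, res_res, hres i V _ b hb, hres i' V _ b hb])
  have hPval : F.IsVal n z d P := fun V h b hb => by
    rw [show res _ h P = res _ le_rfl (p ⟨V, h⟩) from (hP ⟨V, h⟩).trans (res_self _ le_rfl _).symm]
    exact hres ⟨V, h⟩ V le_rfl b hb
  refine ⟨P, hPval, fun P' hP' => section_eq_of_locally fun x hx => ?_⟩
  obtain ⟨V, hxV, hV⟩ := KosExt.exists_affine_le hx
  obtain ⟨b, hb⟩ := F.surj n V (res (Q n) hV z)
  exact ⟨V.1, hV, hxV, (hP' V hV b hb).trans (hPval V hV b hb).symm⟩

/-- The value of a functional on a section of a quotient. -/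
def val (n : ℕ) {W : X.Opens} (z : Γ(Q n, W)) (d : Γ(RefHull.dual E, W)) :
    Γ(ClSub.quotMod (J ^ (n + 1)), W) :=
  (F.existsUnique_isVal n z d).exists.choose

lemma val_spec (n : ℕ) {W : X.Opens} (z : Γ(Q n, W)) (d : Γ(RefHull.dual E, W)) :
    F.IsVal n z d (F.val n z d) :=
  (F.existsUnique_isVal n z d).exists.choose_spec

lemma val_eq (n : ℕ) {W : X.Opens} {z : Γ(Q n, W)} {d : Γ(RefHull.dual E, W)}
    {P : Γ(ClSub.quotMod (J ^ (n + 1)), W)} (h : F.IsVal n z d P) : F.val n z d = P :=
  (F.existsUnique_isVal n z d).unique (F.val_spec n z d) h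

lemma res_val (n : ℕ) {V W : X.Opens} (h : V ≤ W) (z : Γ(Q n, W)) (d : Γ(RefHull.dual E, W)) :
    res _ h (F.val n z d) = F.val n (res (Q n) h z) (res (RefHull.dual E) h d) := by
  refine (F.val_eq n fun V' h' a ha => ?_).symm
  rw [res_res] at ha ⊢
  rw [res_res]
  exact F.val_spec n z d V' _ a ha

lemma val_θ (n : ℕ) {W : X.Opens} (a : Γ(E, W)) (d : Γ(RefHull.dual E, W)) :
    F.val n ((F.θ n).app W a) d = (ClSub.toSubscheme (J ^ (n + 1))).app W (pair a d) := by
  refine F.val_eq n fun V h b hb => ?_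
  rw [app_res] at hb
  have h1 : res _ h ((ClSub.toSubscheme (J ^ (n + 1))).app W (pair a d)) =
      (ClSub.toSubscheme (J ^ (n + 1))).app V.1 (resO X h (pair a d)) := app_res _ h _
  rw [h1, res_pair]
  exact (F.toSub_pair_eq n V hb _).symm

lemma val_add_left (n : ℕ) {W : X.Opens} (z z' : Γ(Q n, W)) (d : Γ(RefHull.dual E, W)) :
    F.val n (z + z') d = F.val n z d + F.val n z' d := by
  refine F.val_eq n fun V h c hc => ?_
  obtain ⟨a, ha⟩ := F.surj n V (res (Q n) h z)
  obtain ⟨b, hb⟩ := F.surj n V (res (Q n) h z')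
  rw [map_add, F.val_spec n z d V h a ha, F.val_spec n z' d V h b hb, ← map_add]
  rw [← pair_add_left]
  refine F.toSub_pair_eq n V ?_ _
  rw [map_add, ha, hb, hc, map_add]

lemma val_smul_left (n : ℕ) {W : X.Opens} (r : Γ(X, W)) (z : Γ(Q n, W)) (d : Γ(RefHull.dual E, W)) :
    F.val n (r • z) d = r • F.val n z d := by
  refine F.val_eq n fun V h c hc => ?_
  obtain ⟨a, ha⟩ := F.surj n V (res (Q n) h z)
  have h1 : (ClSub.toSubscheme (J ^ (n + 1))).app V.1 (pair c (res (RefHull.dual E) h d)) =
      (ClSub.toSubscheme (J ^ (n + 1))).app V.1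
        (resO X h r • (show Γ(Coh.structureModule X, V.1) from pair a (res (RefHull.dual E) h d))) := by
    refine (F.toSub_pair_eq n V (a := c) (b := resO X h r • a) ?_ _).trans ?_
    · rw [TMul.app_smul, ha, hc, res_smul]
    · rw [pair_smul_left]
      rfl
  rw [h1, TMul.app_smul, res_smul, F.val_spec n z d V h a ha]

lemma val_add_right (n : ℕ) {W : X.Opens} (z : Γ(Q n, W)) (d d' : Γ(RefHull.dual E, W)) :
    F.val n z (d + d') = F.val n z d + F.val n z d' := by
  refine F.val_eq n fun V h a ha => ?_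
  rw [map_add, map_add, F.val_spec n z d V h a ha, F.val_spec n z d' V h a ha, ← map_add, pair_add_right]

lemma val_smul_right (n : ℕ) {W : X.Opens} (r : Γ(X, W)) (z : Γ(Q n, W)) (d : Γ(RefHull.dual E, W)) :
    F.val n z (r • d) = r • F.val n z d := by
  refine F.val_eq n fun V h a ha => ?_
  rw [res_smul, res_smul, F.val_spec n z d V h a ha, ← TMul.app_smul, pair_smul_right]
  rfl

lemma quotMap_val (n : ℕ) {W : X.Opens} (z : Γ(Q (n + 1), W)) (d : Γ(RefHull.dual E, W)) :
    (Lef.quotMap (Lef.pow_succ_le J n)).app W (F.val (n + 1) z d) = F.val n ((F.τ n).app W z) d := by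
  refine (F.val_eq n fun V h a ha => ?_).symm
  obtain ⟨b, hb⟩ := F.surj (n + 1) V (res (Q (n + 1)) h z)
  rw [app_res, F.val_spec (n + 1) z d V h b hb]
  refine (toSub_quotMap_app (Lef.pow_succ_le J n) V.1 _).trans (F.toSub_pair_eq n V ?_ _)
  rw [ha, app_res, ← hb, ← F.comp n]
  rfl

end Formal

/-- The section with prescribed values of all functionals. -/
lemma existsUnique_of_pair {E : X.Modules} (hE : FlatMod.IsFinLocFree E) {O : X.Opens}
    (L : ∀ W : X.Opens, W ≤ O → (Γ(RefHull.dual E, W) →ₗ[Γ(X, W)] Γ(Coh.structureModule X, W)))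
    (hL : ∀ (W V : X.Opens) (hW : W ≤ O) (h : V ≤ W) (d : Γ(RefHull.dual E, W)),
      res _ h (L W hW d) = L V (h.trans hW) (res _ h d)) :
    ∃! a : Γ(E, O), ∀ (W : X.Opens) (hW : W ≤ O) (d : Γ(RefHull.dual E, W)),
      pair (res E hW a) d = L W hW d := by
  let I := {V : X.affineOpens // V.1 ≤ O ∧ ∃ (U : X.Opens) (n : ℕ) (e : Fin n → Γ(E, U)), V.1 ≤ U ∧ TMul.IsFrame e}
  choose fU fn fe fh ffr using fun i : I => i.2.2
  let aI : ∀ i : I, Γ(E, i.1.1) := fun i =>
    ∑ l, (show Γ(X, i.1.1) from L i.1.1 i.2.1 (res (RefHull.dual E) (fh i) (coord (ffr i) l))) •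
      res E (fh i) (fe i l)
  have haI : ∀ (i : I) (W : X.Opens) (h : W ≤ i.1.1) (d : Γ(RefHull.dual E, W)),
      pair (res E h (aI i)) d = L W (h.trans i.2.1) d := by
    intro i W h d
    have hc : ∀ j, pair (res E h (aI i)) (res (RefHull.dual E) (h.trans (fh i)) (coord (ffr i) j)) =
        L W (h.trans i.2.1) (res (RefHull.dual E) (h.trans (fh i)) (coord (ffr i) j)) := by
      intro j
      rw [← res_res (RefHull.dual E) h (fh i), ← res_pair, pair_comb (ffr i) (fh i)]
      exact hL _ _ i.2.1 h _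
    obtain ⟨c, rfl⟩ := (isFrame_coord hE (ffr i)).comb_surjective (h.trans (fh i)) d
    refine Eq.trans (map_sum (pairR (res E h (aI i))) _ _) (Eq.trans ?_ (map_sum _ _ _).symm)
    refine Finset.sum_congr rfl fun j _ => ?_
    exact ((LinearMap.map_smul (pairR (res E h (aI i))) (c j) _).trans
      (congrArg (fun z : Γ(Coh.structureModule X, W) => c j • z) (hc j))).trans
      (LinearMap.map_smul _ (c j) _).symm
  have hcov : O ≤ iSup fun i : I => i.1.1 := fun x hx => by
    obtain ⟨V, U, n, e, hxV, hVO, hVU, he⟩ := exists_affine_frame hE (O := O) (x := x) hx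
    exact Opens.mem_iSup.mpr ⟨⟨V, hVO, U, n, e, hVU, he⟩, hxV⟩
  obtain ⟨a, ha, -⟩ := (abSheaf E).existsUnique_gluing' (fun i : I => i.1.1) O
    (fun i => homOfLE i.2.1) hcov aI (fun i i' => by
      refine eq_of_pair (ffr i) (inf_le_left.trans (fh i)) fun j => ?_
      exact (haI i _ inf_le_left _).trans (haI i' _ inf_le_right _).symm)
  refine ⟨a, fun W hW d => section_eq_of_locally (M := Coh.structureModule X) fun x hx => ?_, fun b hb => ?_⟩
  · obtain ⟨V, U, n, e, hxV, hVW, hVU, he⟩ := exists_affine_frame hE (O := W) (x := x) hx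
    let i : I := ⟨V, hVW.trans hW, U, n, e, hVU, he⟩
    refine ⟨V.1, hVW, hxV, ?_⟩
    change resO X hVW (pair (res E hW a) d) = res _ hVW (L W hW d)
    rw [res_pair, res_res, hL]
    rw [show res E (hVW.trans hW) a = res E le_rfl (aI i) from (ha i).trans (res_self _ le_rfl _).symm]
    exact haI i V.1 le_rfl _
  · refine section_eq_of_locally fun x hx => ?_
    obtain ⟨V, U, n, e, hxV, hVO, hVU, he⟩ := exists_affine_frame hE (O := O) (x := x) hx
    let i : I := ⟨V, hVO, U, n, e, hVU, he⟩
    refine ⟨V.1, hVO, hxV, eq_of_pair he hVU fun j => ?_⟩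
    rw [hb, show res E hVO a = res E le_rfl (aI i) from (ha i).trans (res_self _ le_rfl _).symm]
    exact (haI i V.1 le_rfl _).symm

variable {J : X.IdealSheafData} {E D : X.Modules} {Q : ℕ → X.Modules} (F : Formal J E Q)
  (hX : ∀ G : X.Modules, FlatMod.IsFinLocFree G → Lef.HomToFormalBijective J G)
  (hE : FlatMod.IsFinLocFree E) (hD : FlatMod.IsFinLocFree D)

/-- The bilinear maps of the contraction of a morphism with functionals. -/
def contractBil (φ : D ⟶ E) (U : X.Opens) :
    Γ(D, U) →ₗ[Γ(X, U)] Γ(RefHull.dual E, U) →ₗ[Γ(X, U)] Γ(Coh.structureModule X, U) :=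
  LinearMap.mk₂ _ (fun m d => (show Γ(Coh.structureModule X, U) from pair (φ.app U m) d))
    (fun m m' d => by rw [map_add]; exact pair_add_left _ _ _)
    (fun r m d => by rw [TMul.app_smul]; exact pair_smul_left _ _ _)
    (fun m d d' => pair_add_right _ _ _) (fun r m d => pair_smul_right _ _ _)

lemma res_contractBil (φ : D ⟶ E) {V U : X.Opens} (h : V ≤ U) (m : Γ(D, U)) (d : Γ(RefHull.dual E, U)) :
    res (Coh.structureModule X) h (contractBil φ U m d) = contractBil φ V (res D h m) (res _ h d) := by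
  simp only [contractBil, LinearMap.mk₂_apply]
  rw [← app_res]
  exact res_pair h _ _

/-- The contraction of a morphism with functionals. -/
def contract (φ : D ⟶ E) : CohB1.tensorMod D (RefHull.dual E) ⟶ Coh.structureModule X :=
  TMul.lift (contractBil φ) (res_contractBil φ)

lemma contract_tm (φ : D ⟶ E) {U : X.Opens} (m : Γ(D, U)) (d : Γ(RefHull.dual E, U)) :
    (contract φ).app U (TMul.tm m d) = pair (φ.app U m) d := by
  exact TMul.lift_tm (contractBil φ) (res_contractBil φ) m d

include hX hE hD in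
/-- Two morphisms into `E` equal modulo all powers of the ideal are equal. -/
theorem hom_ext_formal (φ φ' : D ⟶ E) (h : ∀ n, φ ≫ F.θ n = φ' ≫ F.θ n) : φ = φ' := by
  have ht : contract φ = contract φ' := (hX _ (isFinLocFree_tensorMod hD (isFinLocFree_dual hE))).1 _ _
    fun n => TMul.hom_ext fun U m d => by
      change (ClSub.toSubscheme (J ^ (n + 1))).app U ((contract φ).app U (TMul.tm m d)) =
        (ClSub.toSubscheme (J ^ (n + 1))).app U ((contract φ').app U (TMul.tm m d))
      rw [contract_tm, contract_tm, ← F.val_θ, ← F.val_θ]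
      exact congrArg (fun z => F.val n z d) (congrArg (fun g : D ⟶ Q n => g.app U m) (h n))
  refine Scheme.Modules.hom_ext _ _ fun U => ?_
  ext m
  refine section_eq_of_locally fun x hx => ?_
  obtain ⟨V, W, n, e, hxV, hVU, hVW, he⟩ := exists_affine_frame hE (O := U) (x := x) hx
  refine ⟨V.1, hVU, hxV, eq_of_pair he hVW fun j => ?_⟩
  rw [app_res, app_res, ← contract_tm, ← contract_tm, ht]

include hX hE hD F in
/-- A compatible family of morphisms to the quotients comes from a morphism to `E`. -/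
theorem exists_hom_formal (ψ : ∀ n, D ⟶ Q n) (hψ : ∀ n, ψ (n + 1) ≫ F.τ n = ψ n) :
    ∃ φ : D ⟶ E, ∀ n, φ ≫ F.θ n = ψ n := by
  let y : ∀ n, CohB1.tensorMod D (RefHull.dual E) ⟶ ClSub.quotMod (J ^ (n + 1)) := fun n =>
    TMul.lift (fun U => LinearMap.mk₂ _ (fun m d => F.val n ((ψ n).app U m) d)
      (fun m m' d => by rw [map_add]; exact F.val_add_left n _ _ _)
      (fun r m d => by rw [TMul.app_smul]; exact F.val_smul_left n _ _ _)
      (fun m d d' => F.val_add_right n _ _ _) (fun r m d => F.val_smul_right n _ _ _))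
      fun h m d => by
        simp only [LinearMap.mk₂_apply]
        rw [F.res_val, app_res]
  have hy : ∀ (n : ℕ) (U : X.Opens) (m : Γ(D, U)) (d : Γ(RefHull.dual E, U)),
      (y n).app U (TMul.tm m d) = F.val n ((ψ n).app U m) d := fun n U m d => TMul.lift_tm _ _ m d
  obtain ⟨t, ht⟩ := (hX _ (isFinLocFree_tensorMod hD (isFinLocFree_dual hE))).2 y
    fun n => TMul.hom_ext fun U m d => by
      change (Lef.quotMap (Lef.pow_succ_le J n)).app U ((y (n + 1)).app U (TMul.tm m d)) = _
      rw [hy, hy, F.quotMap_val, ← hψ n]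
      rfl
  have hfun : ∀ (O : X.Opens) (m : Γ(D, O)), ∃! a : Γ(E, O), ∀ (W : X.Opens) (hW : W ≤ O)
      (d : Γ(RefHull.dual E, W)), pair (res E hW a) d = t.app W (TMul.tm (res D hW m) d) := fun O m =>
    existsUnique_of_pair hE
      (fun W hW => { toFun := fun d => t.app W (TMul.tm (res D hW m) d)
                     map_add' := fun d d' => by rw [TMul.add_tm, map_add]
                     map_smul' := fun r d => by rw [TMul.tm_smul, TMul.app_smul]; rfl })
      (fun W V hW h d => by
        change res _ h (t.app W (TMul.tm (res D hW m) d)) = t.app V (TMul.tm (res D (h.trans hW) m) (res _ h d))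
        rw [app_res, TMul.res_tm, res_res])
  choose a ha using fun O m => (hfun O m).exists
  obtain ⟨φ, hφ⟩ := KosExt.exists_hom_affine D E
    (fun U => { toFun := a U.1
                map_add' := fun m m' => (hfun U.1 (m + m')).unique (ha _ _) fun W hW d => by
                  rw [map_add, pair_add_left, ha, ha, map_add, TMul.tm_add, map_add]
                map_smul' := fun r m => (hfun U.1 (r • m)).unique (ha _ _) fun W hW d => by
                  rw [res_smul, RingHom.id_apply, pair_smul_left, ha, res_smul, TMul.smul_tm,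
                    TMul.app_smul]
                  rfl })
    (fun U V h m => (hfun V.1 (res D h m)).unique
      (fun W hW d => by
        change pair (res E hW (res E h (a U.1 m))) d = _
        rw [res_res, res_res]
        exact ha _ _ W _ d)
      (ha _ _))
  refine ⟨φ, fun n => KosExt.hom_ext_affine fun U m => ?_⟩
  change (F.θ n).app U.1 (φ.app U.1 m) = (ψ n).app U.1 m
  refine section_eq_of_locally fun x hx => ?_
  obtain ⟨V, W, k, e, hxV, hVU, hVW, he⟩ := exists_affine_frame hE (O := U.1) (x := x) hx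
  refine ⟨V.1, hVU, hxV, ?_⟩
  rw [app_res, app_res, app_res]
  obtain ⟨b, hb⟩ := F.surj n V ((ψ n).app V.1 (res D hVU m))
  rw [← hb, ← sub_eq_zero, ← map_sub, F.ker]
  refine cong_of_pair he _ V hVW fun j => ?_
  rw [← toSub_eq_zero_iff, pair_sub_left, map_sub, ← F.val_θ n b, hb, sub_eq_zero, ← hy,
    ← congrArg (fun g : CohB1.tensorMod D (RefHull.dual E) ⟶ _ => g.app V.1 (TMul.tm (res D hVU m) _)) (ht n)]
  refine congrArg _ ?_
  change pair (φ.app V.1 (res D hVU m)) _ = t.app V.1 _
  rw [hφ]
  have := ha V.1 (res D hVU m) V.1 le_rfl (res (RefHull.dual E) hVW (coord he j))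
  rw [res_self, res_self] at this
  exact this

end Groth.Agent.LefEssSurj
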