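import Groth.Agent.LefEssSurj.Nhd
import Groth.Agent.FormAlg.PicSurj
import Groth.Agent.FormAlg.LefPunct
import Groth.Agent.FormAlg.Existence
import Groth.Agent.LeffAmple.Algebraize
import Groth.Agent.DerPerf.Local

/-!
The effective Lefschetz condition on punctured spectra along `t = 0`.
-/

universe u

open CategoryTheory CategoryTheory.Limits AlgebraicGeometry TopologicalSpace Opposite
open Groth.Agent.FormAlg
open Groth.Agent.PunctArt (RR)

set_option autoImplicit false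
set_option maxHeartbeats 1000000
set_option backward.isDefEq.respectTransparency false
set_option backward.isDefEq.respectTransparency.types false
set_option linter.style.haveILetI false

noncomputable section

namespace Groth.Agent.LefEssSurj

variable {A : Type u} [CommRing A] {U : (Spec (CommRingCat.of A)).Opens} {t : A} {m : ℕ}

theorem nonempty_restrict_push' {X Y : Scheme.{u}} (i : X ⟶ Y) (V : Y.Opens) (L L' : X.Modules)
    (e : L.restrict (i ⁻¹ᵁ V).ι ≅ L'.restrict (i ⁻¹ᵁ V).ι) :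
    Nonempty ((Scheme.Modules.restrictFunctor V.ι).obj ((Scheme.Modules.pushforward i).obj L) ≅
      (Scheme.Modules.restrictFunctor V.ι).obj ((Scheme.Modules.pushforward i).obj L')) :=
  ⟨(RelPCS.pushRestrIso i V).app L ≪≫ (Scheme.Modules.pushforward (i ∣_ V)).mapIso e ≪≫
    ((RelPCS.pushRestrIso i V).app L').symm⟩

theorem isFinLocFreeMod_push {Z : Scheme.{u}} (j : Z ⟶ (↑U : Scheme.{u})) [IsClosedImmersion j]
    (hj : ∀ V : (↑U : Scheme.{u}).affineOpens, j.ker.ideal V = Ideal.span {W7Cech.secRing A V.1 t ^ m})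
    (L : Z.Modules) (hL : FlatMod.IsFinLocFree L) :
    Formal2.IsFinLocFreeMod (Ideal.span {t}) m ((Scheme.Modules.pushforward j).obj L) := by
  intro x
  by_cases hx : x ∈ Set.range j.base
  · obtain ⟨z, rfl⟩ := hx
    obtain ⟨W, r, hzW, ⟨e⟩⟩ := hL z
    obtain ⟨S, hS, hSW⟩ := j.isClosedEmbedding.isInducing.isOpen_iff.1 W.2
    obtain ⟨V, hV⟩ : ∃ V : (↑U : Scheme.{u}).Opens, V.1 = S := ⟨⟨S, hS⟩, rfl⟩
    obtain rfl : W = j ⁻¹ᵁ V := TopologicalSpace.Opens.ext (hSW.symm.trans (by rw [← hV]; rfl))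
    refine ⟨V, r, hzW, ?_⟩
    let L' := (Scheme.Modules.pullback j).obj (FlatMod.freeMod (↑U : Scheme.{u}) r)
    let e' : L.restrict (j ⁻¹ᵁ V).ι ≅ L'.restrict (j ⁻¹ᵁ V).ι :=
      e ≪≫ (DerPerf.pullFreeIso (j ⁻¹ᵁ V).ι r).symm ≪≫
        (Scheme.Modules.pullback (j ⁻¹ᵁ V).ι).mapIso (DerPerf.pullFreeIso j r).symm ≪≫
        ((Scheme.Modules.restrictFunctorIsoPullback (j ⁻¹ᵁ V).ι).app L').symm
    obtain ⟨α, -⟩ := exists_iso_modPow j hj (FlatMod.freeMod (↑U : Scheme.{u}) r)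
    obtain ⟨e₀⟩ := nonempty_restrict_push' j V L L' e'
    exact ⟨e₀ ≪≫ (Scheme.Modules.restrictFunctor V.ι).mapIso α.symm⟩
  · let V : (↑U : Scheme.{u}).Opens := ⟨(Set.range j.base)ᶜ, j.isClosedEmbedding.isClosed_range.isOpen_compl⟩
    obtain ⟨e₂⟩ := nonempty_modPow_free U t m 0
    have hz : IsZero ((RR U).obj (pwQ t m 0)) := Functor.map_isZero _ (ModuleCat.isZero_of_subsingleton _)
    have h1 : IsZero ((Scheme.Modules.restrictFunctor V.ι).obj ((Scheme.Modules.pushforward j).obj L)) := by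
      rw [IsZero.iff_id_eq_zero]
      refine Scheme.Modules.hom_ext _ _ fun W => ?_
      ext s
      refine QC.section_eq_of_locally (M := L) (U := j ⁻¹ᵁ (V.ι ''ᵁ W)) fun y hy => ?_
      obtain ⟨a, -, ha⟩ := hy
      exact absurd ⟨y, ha.symm⟩ a.2
    exact ⟨V, 0, hx, ⟨h1.iso (Functor.map_isZero _ (hz.of_iso e₂))⟩⟩

theorem isEffCartierIdeal_divisorIdeal (ht : t ∈ nonZeroDivisors A) :
    BlowUp.IsEffCartierIdeal (divisorIdeal U t) := by
  intro x
  obtain ⟨V, hV, hxV⟩ := QC.exists_affine_mem x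
  refine ⟨⟨V, hV⟩, hxV, W7Cech.secRing A V t, ?_, divisorIdeal_ideal U t ⟨V, hV⟩⟩
  let g : (V : Scheme.{u}) ⟶ Spec (CommRingCat.of A) := V.ι ≫ U.ι
  haveI : IsAffine (V : Scheme.{u}) := hV
  let ψ : A →+* Γ((V : Scheme.{u}), ⊤) := ((Scheme.ΓSpecIso (CommRingCat.of A)).inv ≫ g.appTop).hom
  have hflat : ψ.Flat := by
    refine RingHom.Flat.comp ?_ g.flat_appTop
    exact RingHom.Flat.of_bijective (ConcreteCategory.bijective_of_isIso (Scheme.ΓSpecIso (CommRingCat.of A)).inv)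
  letI := ψ.toAlgebra
  haveI : Module.Flat A Γ((V : Scheme.{u}), ⊤) := hflat
  have hreg : IsSMulRegular Γ((V : Scheme.{u}), ⊤) t :=
    Module.Flat.isSMulRegular_of_nonZeroDivisors ht
  have hnz : ψ t ∈ nonZeroDivisors Γ((V : Scheme.{u}), ⊤) := by
    refine mem_nonZeroDivisors_iff_right.2 fun z hz => hreg (show (fun x => t • x) z = (fun x => t • x) 0 by
      simp only [smul_zero, Algebra.smul_def, RingHom.algebraMap_toAlgebra]; rw [mul_comm, hz, mul_zero])
  let e := V.topIso.commRingCatIsoToRingEquiv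
  rw [show W7Cech.secRing A V t = e (ψ t) from ?_]
  · refine mem_nonZeroDivisors_iff_right.2 fun z hz => ?_
    obtain ⟨z, rfl⟩ := e.surjective z
    rw [← map_mul, map_eq_zero_iff _ e.injective] at hz
    rw [mem_nonZeroDivisors_iff_right.1 hnz z hz, map_zero]
  show (↑U : Scheme.{u}).presheaf.map (homOfLE (le_top : V ≤ ⊤)).op
    (U.ι.appTop ((Scheme.ΓSpecIso (CommRingCat.of A)).inv t)) = V.topIso.hom (g.appTop _)
  rw [Scheme.Hom.comp_appTop, CommRingCat.comp_apply, ← CommRingCat.comp_apply (V.ι.appTop)]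
  congr 2

variable [IsNoetherianRing A] [IsAdicComplete (Ideal.span {t}) A]

/-- Levelwise locally free systems algebraise near the divisor when the two local cohomology modules
of the divisor are finite. -/
theorem algebraize_punctured (𝔞 : Ideal A) (hU : U = EGA4.openCompl A 𝔞) (ht : t ∈ nonZeroDivisors A)
    (h₁ : Module.Finite A (LocCoh.H 𝔞 1 (A ⧸ Ideal.span {t})))
    (h₂ : Module.Finite A (LocCoh.H 𝔞 2 (A ⧸ Ideal.span {t})))
    (𝔐 : FSch.ModSys (FSch.completionAlong (↑U : Scheme.{u}) (divisorIdeal U t)))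
    (h𝔐 : LefX.LevelwiseFinLocFree 𝔐) :
    ∃ (W : (↑U : Scheme.{u}).Opens) (E : (W : Scheme.{u}).Modules),
      ((divisorIdeal U t).support : Set (↑U : Scheme.{u})) ⊆ (W : Set (↑U : Scheme.{u})) ∧ FlatMod.IsFinLocFree E ∧
      Nonempty (FSch.completionMod (divisorIdeal U t) ((Scheme.Modules.pushforward W.ι).obj E) ≅ 𝔐) := by
  haveI : NoetherianSpace (Spec (CommRingCat.of A)) := inferInstanceAs (NoetherianSpace (PrimeSpectrum A))
  haveI := fun n => SerrePn.isLocallyNoetherian_of_immersion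
    (FSch.completionToX (↑U : Scheme.{u}) (divisorIdeal U t) n)
  have hcoh : 𝔐.IsCoh := fun n => ⟨LocFree.isQCoh_of_isFinLocFree (h𝔐 n), LocFree.isFT_of_isFinLocFree (h𝔐 n)⟩
  have hG := isCohFormal_sysFun (divisorIdeal_ideal U t) 𝔐 hcoh
  have hfree : ∀ n : ℕ, Formal2.IsFinLocFreeMod (Ideal.span {t}) (n + 1) ((sysFun 𝔐).obj (op n)) := fun n =>
    isFinLocFreeMod_push (FSch.completionToX (↑U : Scheme.{u}) (divisorIdeal U t) n)
      (ker_completionToX (divisorIdeal_ideal U t) n) (𝔐.F n) (h𝔐 n)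
  subst hU
  obtain ⟨F, hF, ⟨α⟩⟩ := algebraize_free 𝔞 t ht h₁ h₂ (sysFun 𝔐) hG hfree
  obtain ⟨β⟩ := nonempty_completionMod_iso (divisorIdeal_ideal _ t) 𝔐 F α
  exact LeffAmple.exists_nhd_of_coh (isEffCartierIdeal_divisorIdeal ht) 𝔐 h𝔐 hF β

variable [IsLocalRing A] {R : Type u} [CommRing R] [IsRegularRing R] (π : R →+* A) (hπ : Function.Surjective π)

include hπ in
/-- The effective Lefschetz condition on the punctured spectrum. -/
theorem leffCond_punctured (ht : t ∈ IsLocalRing.maximalIdeal A) (hnzd : t ∈ nonZeroDivisors A)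
    (hdepth : ∀ p : PrimeSpectrum A, ringKrullDim (A ⧸ p.asIdeal) = 1 →
      (2 : ℕ∞) ≤ LocCoh.depth (Localization.AtPrime p.asIdeal) (Localization.AtPrime p.asIdeal))
    (h₁ : Module.Finite A (LocCoh.H (IsLocalRing.maximalIdeal A) 1 (A ⧸ Ideal.span {t})))
    (h₂ : Module.Finite A (LocCoh.H (IsLocalRing.maximalIdeal A) 2 (A ⧸ Ideal.span {t}))) :
    LefX.LeffCond (↑(FEt.puncturedSpec A) : Scheme.{u}) (divisorIdeal (FEt.puncturedSpec A) t) :=
  ⟨lefCond_punctured π hπ t ht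
    (fun a b hab => sub_eq_zero.1 (mem_nonZeroDivisors_iff_right.1 hnzd (a - b)
      (by simp only [smul_eq_mul] at hab; rw [sub_mul, mul_comm a, hab, mul_comm t b, sub_self])))
    hdepth,
    algebraize_punctured (IsLocalRing.maximalIdeal A) (puncturedSpec_eq A) hnzd h₁ h₂⟩

end Groth.Agent.LefEssSurj
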