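import Mathlib
import Groth.Agent.LeffAmple.Free
import Groth.Agent.InjFibre.Loc

/-!
Localisations of quotients at one element, and freeness of a finite algebra whose truncations are flat there.
-/

universe u

open scoped TensorProduct

set_option autoImplicit false
set_option linter.style.haveILetI false

noncomputable section

namespace Groth.Agent.LefEssSurj

/-- `φ` presents its target as `(A/c)[1/a]`. -/
structure IsLocQuot {A R : Type u} [CommRing A] [CommRing R] (φ : A →+* R) (a c : A) : Prop where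
  isUnit : IsUnit (φ a)
  map_eq_zero : φ c = 0
  surj : ∀ r : R, ∃ (k : ℕ) (x : A), φ x = φ a ^ k * r
  ker : ∀ x : A, φ x = 0 → ∃ (j : ℕ) (y : A), a ^ j * x = c * y

namespace IsLocQuot

variable {A R T : Type u} [CommRing A] [CommRing R] [CommRing T] {φ : A →+* R} {a c : A}

theorem exists_lift (h : IsLocQuot φ a c) (g : A →+* T) (hu : IsUnit (g a)) (hc : g c = 0) :
    ∃ χ : R →+* T, χ.comp φ = g := by
  let W := Localization.Away a ⧸ Ideal.span {algebraMap A (Localization.Away a) c}
  let mk := Ideal.Quotient.mk (Ideal.span {algebraMap A (Localization.Away a) c})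
  let θ : W →+* R := Ideal.Quotient.lift _ (IsLocalization.Away.lift a h.isUnit) fun z hz => by
    obtain ⟨w, rfl⟩ := Ideal.mem_span_singleton'.1 hz
    rw [map_mul, IsLocalization.Away.lift_eq, h.map_eq_zero, mul_zero]
  have hθ : ∀ x, θ (mk (algebraMap A _ x)) = φ x := fun x => IsLocalization.Away.lift_eq a h.isUnit x
  have ha : IsUnit (mk (algebraMap A (Localization.Away a) a)) := (IsLocalization.Away.algebraMap_isUnit a).map mk
  have hbij : Function.Bijective θ := by
    refine ⟨(injective_iff_map_eq_zero θ).2 fun w hw => ?_, fun r => ?_⟩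
    · obtain ⟨z, rfl⟩ := Ideal.Quotient.mk_surjective w
      obtain ⟨k, x, hx⟩ := IsLocalization.Away.surj a z
      have h0 : φ x = 0 := by
        rw [← hθ, ← hx, map_mul, map_mul, hw, zero_mul]
      obtain ⟨j, y, hy⟩ := h.ker x h0
      have h1 : mk (z * algebraMap A _ a ^ (k + j)) = 0 := by
        rw [pow_add, ← mul_assoc, hx, mul_comm, ← map_pow, ← map_mul, hy, map_mul]
        exact Ideal.Quotient.eq_zero_iff_mem.2 (Ideal.mul_mem_right _ _ (Ideal.mem_span_singleton_self _))
      rw [map_mul, map_pow] at h1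
      exact (ha.pow _).mul_left_eq_zero.1 h1
    · obtain ⟨k, x, hx⟩ := h.surj r
      obtain ⟨u, hu'⟩ := ha.pow k
      refine ⟨↑u⁻¹ * mk (algebraMap A _ x), ?_⟩
      have hk : θ ↑u = φ a ^ k := by rw [hu', map_pow, hθ]
      rw [map_mul, hθ, hx, ← hk, ← mul_assoc, ← map_mul, Units.inv_mul, map_one, one_mul]
  let g' : W →+* T := Ideal.Quotient.lift _ (IsLocalization.Away.lift a hu) fun z hz => by
    obtain ⟨w, rfl⟩ := Ideal.mem_span_singleton'.1 hz
    rw [map_mul, IsLocalization.Away.lift_eq, hc, mul_zero]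
  let χ : R →+* T := g'.comp (RingEquiv.ofBijective θ hbij).symm.toRingHom
  refine ⟨χ, RingHom.ext fun x => ?_⟩
  have : (RingEquiv.ofBijective θ hbij).symm (φ x) = mk (algebraMap A _ x) := by
    rw [RingEquiv.symm_apply_eq]; exact (hθ x).symm
  show g' ((RingEquiv.ofBijective θ hbij).symm (φ x)) = g x
  rw [this]
  exact IsLocalization.Away.lift_eq a hu x

/-- A map out of a pure localisation is surjective with principal kernel. -/
theorem surjective_of_loc {R₀ : Type u} [CommRing R₀] {φ₀ : A →+* R₀} (h₀ : IsLocQuot φ₀ a 0)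
    (h : IsLocQuot φ a c) (f : R₀ →+* R) (hf : f.comp φ₀ = φ) :
    Function.Surjective f ∧ RingHom.ker f = Ideal.span {φ₀ c} := by
  have hf' : ∀ x, f (φ₀ x) = φ x := fun x => congrArg (fun g : A →+* R => g x) hf
  refine ⟨fun r => ?_, le_antisymm (fun z hz => ?_) ?_⟩
  · obtain ⟨k, x, hx⟩ := h.surj r
    obtain ⟨u, hu⟩ := h₀.isUnit.pow k
    refine ⟨↑u⁻¹ * φ₀ x, ?_⟩
    have hk : f ↑u = φ a ^ k := by rw [hu, map_pow, hf']
    rw [map_mul, hf', hx, ← hk, ← mul_assoc, ← map_mul, Units.inv_mul, map_one, one_mul]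
  · obtain ⟨k, x, hx⟩ := h₀.surj z
    obtain ⟨j, y, hy⟩ := h.ker x (by rw [← hf', hx, map_mul, RingHom.mem_ker.1 hz, mul_zero])
    obtain ⟨u, hu⟩ := h₀.isUnit.pow (j + k)
    refine Ideal.mem_span_singleton'.2 ⟨↑u⁻¹ * φ₀ y, ?_⟩
    have h1 : φ₀ a ^ (j + k) * z = φ₀ c * φ₀ y := by
      rw [pow_add, mul_assoc, ← hx, ← map_pow, ← map_mul, hy, map_mul]
    rw [mul_assoc, mul_comm (φ₀ y), ← h1, ← hu, ← mul_assoc, Units.inv_mul, one_mul]
  · rw [Ideal.span_singleton_le_iff_mem, RingHom.mem_ker, hf', h.map_eq_zero]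

variable {L B : Type u} [CommRing L] [CommRing B] [Algebra A L] {ρ : L →+* B} {ψ : R →+* B}

/-- Presentations over the base and of the algebra give a base change. -/
theorem exists_tensor_equiv [Algebra A R] (hA : algebraMap A R = φ) (h : IsLocQuot φ a c)
    (hL : IsLocQuot ρ (algebraMap A L a) (algebraMap A L c))
    (hcomm : ψ.comp φ = ρ.comp (algebraMap A L)) :
    letI := ψ.toAlgebra
    Nonempty (R ⊗[A] L ≃ₗ[R] B) := by
  letI := ψ.toAlgebra
  letI : Algebra A B := (ψ.comp φ).toAlgebra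
  haveI : IsScalarTower A R B := .of_algebraMap_eq fun x => by
    show ψ (φ x) = ψ (algebraMap A R x)
    rw [hA]
  let ρ' : L →ₐ[A] B := ⟨ρ, fun x => (congrArg (fun g : A →+* B => g x) hcomm).symm⟩
  let m : R ⊗[A] L →ₐ[R] B := Algebra.TensorProduct.lift (Algebra.ofId R B) ρ' fun _ _ => Commute.all _ _
  have hm : ∀ r l, m (r ⊗ₜ l) = ψ r * ρ l := fun r l => Algebra.TensorProduct.lift_tmul _ _ _ r l
  refine ⟨LinearEquiv.ofBijective m.toLinearMap ⟨(injective_iff_map_eq_zero m).2 fun v hv => ?_, fun b => ?_⟩⟩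
  · have key : ∀ v : R ⊗[A] L, ∃ (k : ℕ) (l : L), (φ a ^ k) • v = 1 ⊗ₜ l := by
      intro v
      induction v with
      | zero => exact ⟨0, 0, by simp⟩
      | tmul r l =>
        obtain ⟨k, x, hx⟩ := h.surj r
        refine ⟨k, x • l, ?_⟩
        rw [TensorProduct.smul_tmul', smul_eq_mul, ← hx, ← TensorProduct.smul_tmul, Algebra.smul_def, hA, mul_one]
      | add v w hv hw =>
        obtain ⟨k, l, hl⟩ := hv
        obtain ⟨k', l', hl'⟩ := hw
        refine ⟨k + k', (a ^ k') • l + (a ^ k) • l', ?_⟩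
        have hone : ∀ (e : ℕ) (z : L), (φ a ^ e) • ((1 : R) ⊗ₜ[A] z) = 1 ⊗ₜ ((a ^ e) • z) := fun e z => by
          rw [TensorProduct.smul_tmul', ← TensorProduct.smul_tmul, smul_eq_mul, Algebra.smul_def, hA, map_pow]
        rw [smul_add, TensorProduct.tmul_add, ← hone, ← hone, ← hl, ← hl', smul_smul, smul_smul, pow_add,
          mul_comm]
    obtain ⟨k, l, hl⟩ := key v
    have h0 : ρ l = 0 := by
      have := congrArg m hl
      rw [map_smul, hv, smul_zero, hm, map_one, one_mul] at this
      exact this.symm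
    obtain ⟨j, y, hy⟩ := hL.ker l h0
    have h1 : (φ a ^ (j + k)) • v = 0 := by
      rw [pow_add, mul_smul, hl, TensorProduct.smul_tmul', smul_eq_mul, mul_one, ← map_pow, ← hA,
        Algebra.algebraMap_eq_smul_one, TensorProduct.smul_tmul, Algebra.smul_def, map_pow, hy, ← Algebra.smul_def,
        ← TensorProduct.smul_tmul, ← Algebra.algebraMap_eq_smul_one, hA, h.map_eq_zero, TensorProduct.zero_tmul]
    exact (h.isUnit.pow _).smul_eq_zero.1 h1
  · obtain ⟨k, l, hl⟩ := hL.surj b
    obtain ⟨u, hu⟩ := h.isUnit.pow k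
    refine ⟨(↑u⁻¹ : R) ⊗ₜ l, ?_⟩
    show m ((↑u⁻¹ : R) ⊗ₜ l) = b
    have hk : ψ ↑u = ρ (algebraMap A L a) ^ k := by
      rw [hu, map_pow]
      exact congrArg (fun g : A →+* B => g a ^ k) hcomm
    rw [hm, hl, ← hk, ← mul_assoc, ← map_mul, Units.inv_mul, map_one, one_mul]

end IsLocQuot

/-- A finite algebra with flat truncations along `t` near `p` is free at `p`. -/
theorem mem_freeLocus_of_truncations {A L : Type u} [CommRing A] [IsNoetherianRing A] [CommRing L] [Algebra A L]
    [Module.Finite A L] (a t : A) (p : PrimeSpectrum A) (hap : a ∉ p.asIdeal) (htp : t ∈ p.asIdeal)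
    (h : ∀ n : ℕ, ∃ (R B : Type u) (_ : CommRing R) (_ : CommRing B) (φ : A →+* R) (ρ : L →+* B) (ψ : R →+* B),
      IsLocQuot φ a (t ^ (n + 1)) ∧ IsLocQuot ρ (algebraMap A L a) (algebraMap A L (t ^ (n + 1))) ∧
        ψ.comp φ = ρ.comp (algebraMap A L) ∧ ψ.Flat) :
    p ∈ Module.freeLocus A L := by
  let P := Localization.AtPrime p.asIdeal
  rw [Module.mem_freeLocus_iff_tensor p P]
  let J : Ideal P := Ideal.span {algebraMap A P t}
  have hJ : J ≤ IsLocalRing.maximalIdeal P := by
    rw [Ideal.span_singleton_le_iff_mem]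
    exact (IsLocalization.AtPrime.to_map_mem_maximal_iff P p.asIdeal t).2 htp
  refine Groth.Agent.LeffAmple.free_of_levels J hJ fun n => ?_
  obtain ⟨R, B, iR, iB, φ, ρ, ψ, hφ, hρ, hcomm, hψ⟩ := h n
  let S := P ⧸ J ^ (n + 1)
  haveI : Nontrivial S := Ideal.Quotient.nontrivial_iff.2 fun e => (IsLocalRing.maximalIdeal.isMaximal P).ne_top
    (top_le_iff.1 (e ▸ (Ideal.pow_le_self (Nat.succ_ne_zero n)).trans hJ))
  haveI : IsLocalRing S := IsLocalRing.of_surjective' (Ideal.Quotient.mk _) Ideal.Quotient.mk_surjective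
  have hua : IsUnit (algebraMap A S a) := by
    rw [IsScalarTower.algebraMap_apply A P S]
    exact (IsLocalization.map_units P (⟨a, hap⟩ : p.asIdeal.primeCompl)).map _
  have hct : algebraMap A S (t ^ (n + 1)) = 0 := by
    rw [IsScalarTower.algebraMap_apply A P S, map_pow]
    exact Ideal.Quotient.eq_zero_iff_mem.2 (Ideal.pow_mem_pow (Ideal.mem_span_singleton_self _) _)
  obtain ⟨χ, hχ⟩ := hφ.exists_lift (algebraMap A S) hua hct
  letI : Algebra A R := φ.toAlgebra
  letI : Algebra R B := ψ.toAlgebra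
  letI : Algebra R S := χ.toAlgebra
  haveI : IsScalarTower A R S := .of_algebraMap_eq fun x => (congrArg (fun g : A →+* S => g x) hχ).symm
  obtain ⟨e⟩ := hφ.exists_tensor_equiv (ψ := ψ) rfl hρ hcomm
  haveI : Module.Flat R B := hψ
  haveI : Module.Flat R (R ⊗[A] L) := Module.Flat.of_linearEquiv e
  haveI : Module.Flat S (S ⊗[A] L) :=
    Module.Flat.of_linearEquiv (TensorProduct.AlgebraTensorModule.cancelBaseChange A R S S L).symm
  haveI : Module.Free S (S ⊗[A] L) := Module.free_of_flat_of_isLocalRing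
  let q : P →ₗ[A] S := ((Ideal.Quotient.mkₐ A (J ^ (n + 1))).toLinearMap)
  refine ⟨S, inferInstance, Ideal.Quotient.mk _, S ⊗[A] L, inferInstance, inferInstance,
    (q.rTensor L).toAddMonoidHom, Ideal.Quotient.mk_surjective, Ideal.mk_ker, inferInstance, fun x v => ?_,
    LinearMap.rTensor_surjective L Ideal.Quotient.mk_surjective, fun v hv => ?_⟩
  · induction v with
    | zero => simp
    | tmul s l =>
      show q.rTensor L ((x • s) ⊗ₜ l) = Ideal.Quotient.mk (J ^ (n + 1)) x • q.rTensor L (s ⊗ₜ l)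
      rw [LinearMap.rTensor_tmul, LinearMap.rTensor_tmul, TensorProduct.smul_tmul', smul_eq_mul, smul_eq_mul]
      exact congrArg (· ⊗ₜ[A] l) (map_mul (Ideal.Quotient.mk (J ^ (n + 1))) x s)
    | add v w hv hw => rw [smul_add, map_add, map_add, smul_add, hv, hw]
  · have hex : Function.Exact ((J ^ (n + 1)).restrictScalars A).subtype q := fun z => by
      rw [show q z = Ideal.Quotient.mk (J ^ (n + 1)) z from rfl, Ideal.Quotient.eq_zero_iff_mem]
      exact ⟨fun hz => ⟨⟨z, hz⟩, rfl⟩, fun ⟨w, hw⟩ => hw ▸ w.2⟩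
    obtain ⟨w, rfl⟩ := (rTensor_exact L hex Ideal.Quotient.mk_surjective v).1 hv
    clear hv
    induction w with
    | zero => rw [map_zero]; exact zero_mem _
    | tmul s l =>
      rw [LinearMap.rTensor_tmul, show (((J ^ (n + 1)).restrictScalars A).subtype s : P) ⊗ₜ[A] l =
        (s : P) • ((1 : P) ⊗ₜ[A] l) by rw [TensorProduct.smul_tmul', smul_eq_mul, mul_one]; rfl]
      exact Submodule.smul_mem_smul s.2 trivial
    | add v w hv hw => rw [map_add]; exact add_mem hv hw

/-- Localisations at primes over free points are flat. -/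
theorem flat_localRingHom_of_free {A L : Type u} [CommRing A] [CommRing L] [Algebra A L]
    (q : Ideal L) [q.IsPrime] (p : Ideal A) [p.IsPrime] (hpq : p = q.comap (algebraMap A L))
    (hfree : (⟨p, inferInstance⟩ : PrimeSpectrum A) ∈ Module.freeLocus A L) :
    (Localization.localRingHom p q (algebraMap A L) hpq).Flat := by
  let P := Localization.AtPrime p
  let Q := Localization.AtPrime q
  letI : Algebra P Q := (Localization.localRingHom p q (algebraMap A L) hpq).toAlgebra
  haveI : IsScalarTower A P Q := .of_algebraMap_eq fun x => by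
    rw [IsScalarTower.algebraMap_apply A L Q]
    exact (Localization.localRingHom_to_map p q (algebraMap A L) hpq x).symm
  rw [Module.mem_freeLocus_iff_tensor _ P] at hfree
  haveI := hfree
  haveI : Module.Flat A (P ⊗[A] L) := .trans A P _
  haveI : Module.Flat A (L ⊗[A] P) := .of_linearEquiv (TensorProduct.comm A L P)
  let f := TensorProduct.AlgebraTensorModule.rTensor A P (Algebra.linearMap L Q)
  haveI : IsLocalizedModule q.primeCompl f := IsLocalizedModule.rTensor (A := L) q.primeCompl (Algebra.linearMap L Q)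
  haveI : Module.Flat A (Q ⊗[A] P) := Groth.Agent.InjFibre.flat_localized q.primeCompl f
  haveI : IsLocalizedModule p.primeCompl (LinearMap.id : Q →ₗ[A] Q) := isLocalizedModule_id p.primeCompl Q P
  haveI : IsLocalizedModule p.primeCompl ((TensorProduct.comm A P Q).toLinearMap.comp (TensorProduct.mk A P Q 1)) :=
    IsLocalizedModule.of_linearEquiv p.primeCompl (TensorProduct.mk A P Q 1) (TensorProduct.comm A P Q)
  haveI : Module.Flat A Q := .of_linearEquiv
    ((IsLocalizedModule.iso p.primeCompl (LinearMap.id : Q →ₗ[A] Q)).symm.trans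
      (IsLocalizedModule.iso p.primeCompl
        ((TensorProduct.comm A P Q).toLinearMap.comp (TensorProduct.mk A P Q 1))))
  exact (Module.flat_iff_of_isLocalization P p.primeCompl Q).2 inferInstance

end Groth.Agent.LefEssSurj
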