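import Groth.Agent.LefEssSurj.Data
import Groth.Agent.S0238
import Groth.Agent.S3854
import Groth.Prelude.Def_FSch3

/-!
Finite étale covers of a closed subscheme extend when their modules of functions algebraise.
-/

universe u

open CategoryTheory CategoryTheory.Limits AlgebraicGeometry TopologicalSpace Opposite

set_option autoImplicit false
set_option backward.isDefEq.respectTransparency false
set_option backward.isDefEq.respectTransparency.types false
set_option linter.style.haveILetI false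

noncomputable section

namespace Groth.Agent.LefEssSurj

open Groth.Agent.QC Groth.Agent.LefFEt

variable {X : Scheme.{u}}

/-- An isomorphism of restrictions from a cartesian square. -/
def restrictIso {Y : Scheme.{u}} (j : Y ⟶ X) (T : FEt.Cat X) (R : FEt.Cat Y) (k : R.left ⟶ T.left)
    (h : IsPullback k R.hom T.hom j) : (FEt.restrict j).obj T ≅ R :=
  MorphismProperty.Over.isoMk ((IsPullback.of_hasPullback T.hom j).isoIsPullback _ _ h)
    (IsPullback.isoIsPullback_hom_snd ..)

namespace AlgSys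

variable {J : X.IdealSheafData} {E : X.Modules} (S : AlgSys J E)
  (hX : ∀ G : X.Modules, FlatMod.IsFinLocFree G → Lef.HomToFormalBijective J G)
  (hE : FlatMod.IsFinLocFree E) [∀ n, IsAffineHom (S.q n)]

include hX hE in
/-- A finite étale cover reducing to the bottom of the system. -/
theorem exists_cover (r : S.T 0 ⟶ (J ^ (0 + 1)).subscheme) (hr : r ≫ (J ^ (0 + 1)).subschemeι = S.q 0)
    [FormallyUnramified (S.q 0)] :
    ∃ (T : FEt.Cat X) (k : S.T 0 ⟶ T.left), IsPullback k r T.hom (J ^ (0 + 1)).subschemeι := by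
  obtain ⟨A, hm, h1⟩ := S.exists_algData hX hE
  have hq := LocFree.isQCoh_of_isFinLocFree hE
  obtain ⟨k, hk, hkc, hker⟩ := S.exists_closed A hq hm h1 0
  obtain ⟨hf, hfl, hfp⟩ := A.finite_flat hq hE
  haveI := hf; haveI := hfl; haveI := hfp; haveI := hkc
  haveI : FormallyUnramified (k ≫ A.π hq) := by rw [hk]; infer_instance
  haveI : Etale (A.π hq) := etale_of_reduction (A.π hq) J hX k (by rw [hker, pow_one])
  exact ⟨MorphismProperty.Over.mk ⊤ (A.π hq) ⟨inferInstance, inferInstance⟩, k,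
    isPullback_of_ker_eq_comap (A.π hq) k _ hker r (hr.trans hk.symm)⟩

end AlgSys

/-- Restriction of finite étale covers to `V(𝓘)` is essentially surjective when compatible systems of
finite locally free modules algebraise and the Lefschetz bijectivity holds. -/
theorem essSurj_restrict [IsLocallyNoetherian X] (𝓘 : X.IdealSheafData)
    (hX : ∀ G : X.Modules, FlatMod.IsFinLocFree G → Lef.HomToFormalBijective 𝓘 G)
    (hess : ∀ 𝔐 : FSch.ModSys (FSch.completionAlong X 𝓘), LefX.LevelwiseFinLocFree 𝔐 →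
      ∃ F : X.Modules, FlatMod.IsFinLocFree F ∧ Nonempty (FSch.completionMod 𝓘 F ≅ 𝔐)) :
    (FEt.restrict 𝓘.subschemeι).EssSurj := by
  refine ⟨fun R => ?_⟩
  let c : (𝓘 ^ (0 + 1)).subscheme ⟶ 𝓘.subscheme := Scheme.IdealSheafData.inclusion (by rw [pow_one])
  have hc : c ≫ 𝓘.subschemeι = (𝓘 ^ (0 + 1)).subschemeι := Scheme.IdealSheafData.inclusion_subschemeι _
  haveI : IsClosedImmersion c := by
    haveI : IsClosedImmersion (c ≫ 𝓘.subschemeι) := by rw [hc]; infer_instance
    exact IsClosedImmersion.of_comp_isClosedImmersion c 𝓘.subschemeι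
  haveI : Surjective c := ⟨fun z => by
    have hz : 𝓘.subschemeι z ∈ Set.range (𝓘 ^ (0 + 1)).subschemeι := by
      rw [Scheme.IdealSheafData.range_subschemeι, pow_one, ← Scheme.IdealSheafData.range_subschemeι]
      exact ⟨z, rfl⟩
    obtain ⟨y, hy⟩ := hz
    refine ⟨y, 𝓘.subschemeι.isEmbedding.injective ?_⟩
    rw [← Scheme.Hom.comp_apply, hc, hy]⟩
  haveI := Groth.Agent.S0238.result c
  obtain ⟨S, ⟨eR⟩⟩ := exists_etSys 𝓘 (Groth.Agent.S3854.result X 𝓘) ((FEt.restrict c).obj R)
  obtain ⟨F, hF, ⟨α⟩⟩ := hess S.modSys S.levelwiseFinLocFree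
  let D := S.algSys α (LocFree.isQCoh_of_isFinLocFree hF)
  haveI : ∀ n, IsAffineHom (D.q n) := fun n => inferInstanceAs (IsAffineHom (S.q n))
  haveI : FormallyUnramified (S.p 0) := by
    haveI : Etale (S.p 0) := S.et 0
    infer_instance
  haveI : FormallyUnramified (FSch.completionToX X 𝓘 0) := by
    haveI : IsOpenImmersion (pullback.diagonal (FSch.completionToX X 𝓘 0)) := inferInstance
    infer_instance
  haveI : FormallyUnramified (D.q 0) :=
    MorphismProperty.comp_mem @FormallyUnramified (S.p 0) (FSch.completionToX X 𝓘 0) inferInstance inferInstance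
  obtain ⟨T, k, hk⟩ := D.exists_cover hX hF (S.p 0) rfl
  let e0 := restrictIso (𝓘 ^ (0 + 1)).subschemeι T (MorphismProperty.Over.mk ⊤ (S.p 0) ⟨S.fin 0, S.et 0⟩) k hk
  let e1 : FEt.restrict (𝓘 ^ (0 + 1)).subschemeι ≅ FEt.restrict 𝓘.subschemeι ⋙ FEt.restrict c :=
    MorphismProperty.Over.pullbackComp c 𝓘.subschemeι _ hc.symm
  exact ⟨T, ⟨(FEt.restrict c).preimageIso ((e1.app T).symm ≪≫ e0 ≪≫ eR)⟩⟩

lemma map_id_comp_aux {C D : Type*} [Category* C] [Category* D] (G : C ⥤ D) {P : C} {Q : D} (f g : G.obj P ⟶ Q)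
    (h : f = g) : G.map (𝟙 P) ≫ f = g ≫ 𝟙 Q := by
  rw [CategoryTheory.Functor.map_id, Category.id_comp, Category.comp_id, h]

lemma trans_app_hom {C D : Type*} [Category* C] [Category* D] {F G H : C ⥤ D} (a : F ≅ G) (b : G ≅ H) (M : C) :
    ((a ≪≫ b).app M).hom = (a.app M ≪≫ b.app M).hom :=
  rfl

lemma complMod_e_hom (𝓘 : X.IdealSheafData) (F : X.Modules) (n : ℕ) :
    ((FSch.complMod 𝓘 F).e n).hom = ((FSch.completionMod 𝓘 F).e n).hom := by
  rw [completion_e_eq 𝓘 F n, FSch.complMod_e]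
  exact trans_app_hom (Scheme.Modules.pullbackComp ((FSch.completionAlong X 𝓘).ι n) (FSch.completionToX X 𝓘 (n + 1)))
    (Scheme.Modules.pullbackCongr (Scheme.IdealSheafData.inclusion_subschemeι (FSch.pow_succ_le X 𝓘 n))) F

/-- The two packagings of the completion of a module agree. -/
def complModIso (𝓘 : X.IdealSheafData) (F : X.Modules) : FSch.complMod 𝓘 F ≅ FSch.completionMod 𝓘 F where
  hom := ⟨fun n => 𝟙 ((Scheme.Modules.pullback (FSch.completionToX X 𝓘 n)).obj F), fun n =>
    map_id_comp_aux (Scheme.Modules.pullback ((FSch.completionAlong X 𝓘).ι n)) _ _ (complMod_e_hom 𝓘 F n).symm⟩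
  inv := ⟨fun n => 𝟙 ((Scheme.Modules.pullback (FSch.completionToX X 𝓘 n)).obj F), fun n =>
    map_id_comp_aux (Scheme.Modules.pullback ((FSch.completionAlong X 𝓘).ι n)) _ _ (complMod_e_hom 𝓘 F n)⟩
  hom_inv_id := FSch.ModSys.Hom.ext (funext fun n =>
    Category.comp_id (𝟙 ((Scheme.Modules.pullback (FSch.completionToX X 𝓘 n)).obj F)))
  inv_hom_id := FSch.ModSys.Hom.ext (funext fun n =>
    Category.comp_id (𝟙 ((Scheme.Modules.pullback (FSch.completionToX X 𝓘 n)).obj F)))

end Groth.Agent.LefEssSurj
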