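import Groth.Agent.LefEssSurj.Open
import Groth.Prelude.Def_LefX

/-!
Finite étale covers of `V(𝓘)` extend to a neighbourhood under the effective Lefschetz condition.
-/

universe u

open CategoryTheory CategoryTheory.Limits AlgebraicGeometry TopologicalSpace Opposite

set_option autoImplicit false
set_option backward.isDefEq.respectTransparency false
set_option backward.isDefEq.respectTransparency.types false
set_option linter.style.haveILetI false

noncomputable section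

namespace Groth.Agent.LefEssSurj

open Groth.Agent.QC Groth.Agent.LefFEt

variable {X : Scheme.{u}} [IsLocallyNoetherian X]

lemma formallyUnramified_completionToX (𝓘 : X.IdealSheafData) (n : ℕ) :
    FormallyUnramified (FSch.completionToX X 𝓘 n) := by
  haveI : IsOpenImmersion (pullback.diagonal (FSch.completionToX X 𝓘 n)) := inferInstance
  infer_instance

/-- Covers of `V(𝓘)` extend to neighbourhoods under the effective Lefschetz condition. -/
theorem exists_extension (𝓘 : X.IdealSheafData) (h : LefX.LeffCond X 𝓘) (R : FEt.Cat 𝓘.subscheme) :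
    ∃ (U : X.Opens) (R' : FEt.Cat (U : Scheme.{u})), (𝓘.support : Set X) ⊆ (U : Set X) ∧
      ∀ i : 𝓘.subscheme ⟶ (U : Scheme.{u}), i ≫ U.ι = 𝓘.subschemeι →
        Nonempty ((FEt.restrict i).obj R' ≅ R) := by
  let c : (𝓘 ^ (0 + 1)).subscheme ⟶ 𝓘.subscheme := Scheme.IdealSheafData.inclusion (by rw [pow_one])
  have hc : c ≫ 𝓘.subschemeι = (𝓘 ^ (0 + 1)).subschemeι := Scheme.IdealSheafData.inclusion_subschemeι _
  haveI : IsIso c := ⟨Scheme.IdealSheafData.inclusion (by rw [pow_one]), by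
    rw [← cancel_mono (𝓘 ^ (0 + 1)).subschemeι]; simp [c], by rw [← cancel_mono 𝓘.subschemeι]; simp [c]⟩
  haveI : Surjective c := inferInstance
  haveI := Groth.Agent.S0238.result c
  obtain ⟨S, ⟨eR⟩⟩ := exists_etSys 𝓘 (Groth.Agent.S3854.result X 𝓘) ((FEt.restrict c).obj R)
  obtain ⟨U, F, hU, hF, ⟨α⟩⟩ := h.2 S.modSys S.levelwiseFinLocFree
  refine ⟨U, ?_⟩
  haveI : QuasiCompact U.ι := inferInstance
  have hq : Coh.IsQCoh ((Scheme.Modules.pushforward U.ι).obj F) :=
    QC.isQCoh_pushforward (hM := LocFree.isQCoh_of_isFinLocFree hF) U.ι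
  have hrange : ∀ n, Set.range ((S.algSys α hq).q n) ⊆ Set.range U.ι := by
    rintro n _ ⟨t, rfl⟩
    rw [U.range_ι]
    refine hU ?_
    have ht : (S.p n ≫ FSch.completionToX X 𝓘 n) t ∈ Set.range (𝓘 ^ (n + 1)).subschemeι :=
      ⟨S.p n t, rfl⟩
    rw [Scheme.IdealSheafData.range_subschemeι] at ht
    rwa [Scheme.IdealSheafData.support_pow _ _ (Nat.succ_ne_zero n)] at ht
  let D := (S.algSys α hq).restrictOpen U.ι hrange
  have hfac : ∀ n, D.q n ≫ U.ι = S.p n ≫ FSch.completionToX X 𝓘 n := fun n =>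
    (S.algSys α hq).liftQ_fac U.ι hrange n
  haveI : ∀ n, IsAffineHom (D.q n) := fun n => by
    haveI : IsAffineHom (D.q n ≫ U.ι) := by rw [hfac]; infer_instance
    exact MorphismProperty.of_postcomp (W := @IsAffineHom) (W' := @IsSeparated) (D.q n) U.ι inferInstance
      inferInstance
  haveI : FormallyUnramified (S.p 0) := by
    haveI : Etale (S.p 0) := S.et 0
    infer_instance
  haveI := formallyUnramified_completionToX 𝓘 0
  haveI : FormallyUnramified (D.q 0) := by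
    haveI : FormallyUnramified (D.q 0 ≫ U.ι) := by
      rw [hfac]
      exact MorphismProperty.comp_mem @FormallyUnramified _ _ inferInstance inferInstance
    exact FormallyUnramified.of_comp (D.q 0) U.ι
  obtain ⟨i₀, hi₀⟩ : ∃ i : (𝓘 ^ (0 + 1)).subscheme ⟶ (U : Scheme.{u}), i ≫ U.ι = (𝓘 ^ (0 + 1)).subschemeι :=
    ⟨IsOpenImmersion.lift U.ι _ (by
      rw [Scheme.IdealSheafData.range_subschemeι, U.range_ι, pow_one]; exact hU), IsOpenImmersion.lift_fac _ _ _⟩
  obtain ⟨φ, hφ⟩ := exists_iso_comap U.ι (𝓘 ^ (0 + 1)) i₀ hi₀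
  have hJ : (𝓘 ^ (0 + 1)).comap U.ι = (𝓘.comap U.ι) ^ (0 + 1) := by simp only [zero_add, pow_one]
  obtain ⟨ψ, hψ⟩ : ∃ ψ : (𝓘 ^ (0 + 1)).subscheme ≅ ((𝓘.comap U.ι) ^ (0 + 1)).subscheme,
      ψ.hom ≫ ((𝓘.comap U.ι) ^ (0 + 1)).subschemeι = i₀ := by
    rw [← hJ]; exact ⟨φ, hφ⟩
  obtain ⟨T, k, hk⟩ := D.exists_cover (h.1 U hU) hF (S.p 0 ≫ ψ.hom) (by
    rw [← cancel_mono U.ι, hfac, Category.assoc, Category.assoc, reassoc_of% hψ, hi₀]; try rfl)
  have hk' : IsPullback k (S.p 0) T.hom i₀ := hk.of_iso (Iso.refl _) (Iso.refl _) ψ.symm (Iso.refl _)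
    (by simp) (by simp) (by simp) (by rw [← hψ]; simp)
  refine ⟨T, hU, fun i hi => ?_⟩
  let e0 := restrictIso i₀ T (MorphismProperty.Over.mk ⊤ (S.p 0) ⟨S.fin 0, S.et 0⟩) k hk'
  let e1 : FEt.restrict i₀ ≅ FEt.restrict i ⋙ FEt.restrict c :=
    MorphismProperty.Over.pullbackComp c i _ (by rw [← cancel_mono U.ι, Category.assoc, hi, hc, hi₀])
  exact ⟨(FEt.restrict c).preimageIso ((e1.app T).symm ≪≫ e0 ≪≫ eR)⟩

end Groth.Agent.LefEssSurj
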