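import Groth.Agent.LefEssSurj.Main
import Groth.Agent.FpqcDescent.IdealGlue

/-!
Algebraisation systems of modules pushed forward from an open subscheme.
-/

universe u

open CategoryTheory CategoryTheory.Limits AlgebraicGeometry TopologicalSpace Opposite

set_option autoImplicit false
set_option backward.isDefEq.respectTransparency false
set_option backward.isDefEq.respectTransparency.types false
set_option linter.style.haveILetI false

noncomputable section

namespace Groth.Agent.LefEssSurj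

open Groth.Agent.QC Groth.Agent.LefFEt

variable {X : Scheme.{u}}

lemma algApp_algApp {T T' T'' : Scheme.{u}} {q : T ⟶ X} {q' : T' ⟶ X} {q'' : T'' ⟶ X}
    (a : T ⟶ T') (w : a ≫ q' = q) (b : T' ⟶ T'') (w' : b ≫ q'' = q') (c : T ⟶ T'') (w'' : c ≫ q'' = q)
    (h : a ≫ b = c) (W : X.Opens) (z : Γ(T'', q'' ⁻¹ᵁ W)) :
    algApp a w W (algApp b w' W z) = algApp c w'' W z := by
  subst h
  exact congrArg (fun φ => CommRingCat.Hom.hom φ z) (Scheme.Hom.appLE_comp_appLE a b (q'' ⁻¹ᵁ W) (q' ⁻¹ᵁ W)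
    (q ⁻¹ᵁ W) (preimage_le_of_comp b w' W) (preimage_le_of_comp a w W))

lemma algApp_id_self {T : Scheme.{u}} {q q' : T ⟶ X} (w : 𝟙 T ≫ q' = q) (W : X.Opens) :
    Function.Bijective (algApp (𝟙 T) w W) := by
  have hq : q' = q := (Category.id_comp q').symm.trans w
  subst hq
  rw [Function.bijective_iff_has_inverse]
  exact ⟨algApp (𝟙 T) w W, fun z => (algApp_algApp _ _ _ _ (𝟙 T) w (Category.id_comp _) W z).trans
      (congrArg (fun φ => CommRingCat.Hom.hom φ z)
        (show (𝟙 T : T ⟶ T).appLE (q' ⁻¹ᵁ W) (q' ⁻¹ᵁ W) _ = 𝟙 _ by simp [Scheme.Hom.appLE]; exact T.presheaf.map_id _)),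
    fun z => (algApp_algApp _ _ _ _ (𝟙 T) w (Category.id_comp _) W z).trans
      (congrArg (fun φ => CommRingCat.Hom.hom φ z)
        (show (𝟙 T : T ⟶ T).appLE (q' ⁻¹ᵁ W) (q' ⁻¹ᵁ W) _ = 𝟙 _ by simp [Scheme.Hom.appLE]; exact T.presheaf.map_id _))⟩

lemma affine_preimage {U : Scheme.{u}} (g : U ⟶ X) [IsOpenImmersion g] {P : U.affineOpens → Prop}
    (h : ∀ (V : X.affineOpens) (hV : IsAffineOpen (g ⁻¹ᵁ V.1)), P ⟨g ⁻¹ᵁ V.1, hV⟩) (W : U.affineOpens) : P W := by
  have hW := W.2.image_of_isOpenImmersion g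
  have e : (⟨g ⁻¹ᵁ (g ''ᵁ W.1), by rw [g.preimage_image_eq]; exact W.2⟩ : U.affineOpens) = W :=
    Subtype.ext (g.preimage_image_eq W.1)
  exact e ▸ h ⟨_, hW⟩ _

lemma mem_smul_top_push_iff {U : Scheme.{u}} (g : U ⟶ X) {E : U.Modules} (V : X.Opens) (I : Ideal Γ(X, V))
    (a : Γ(E, g ⁻¹ᵁ V)) :
    (show Γ((Scheme.Modules.pushforward g).obj E, V) from a) ∈
        (I • ⊤ : Submodule Γ(X, V) Γ((Scheme.Modules.pushforward g).obj E, V)) ↔
      a ∈ (I.map (g.app V).hom • ⊤ : Submodule Γ(U, g ⁻¹ᵁ V) Γ(E, g ⁻¹ᵁ V)) := by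
  letI : Algebra Γ(X, V) Γ(U, g ⁻¹ᵁ V) := (g.app V).hom.toAlgebra
  letI : Module Γ(X, V) Γ(E, g ⁻¹ᵁ V) :=
    inferInstanceAs (Module Γ(X, V) Γ((Scheme.Modules.pushforward g).obj E, V))
  haveI : IsScalarTower Γ(X, V) Γ(U, g ⁻¹ᵁ V) Γ(E, g ⁻¹ᵁ V) := IsScalarTower.of_algebraMap_smul fun _ _ => rfl
  rw [← Submodule.restrictScalars_mem Γ(X, V) (I.map (g.app V).hom • ⊤ : Submodule Γ(U, g ⁻¹ᵁ V) Γ(E, g ⁻¹ᵁ V)),
    show (g.app V).hom = algebraMap Γ(X, V) Γ(U, g ⁻¹ᵁ V) from rfl, Ideal.smul_restrictScalars,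
    Submodule.restrictScalars_top]

namespace AlgSys

variable {U : Scheme.{u}} (g : U ⟶ X) [IsOpenImmersion g] {J : X.IdealSheafData} {E : U.Modules}
  (S : AlgSys J ((Scheme.Modules.pushforward g).obj E))
  (h : ∀ n, Set.range (S.q n) ⊆ Set.range g)

/-- The structure maps into the open subscheme. -/
def liftQ (n : ℕ) : S.T n ⟶ U := IsOpenImmersion.lift g (S.q n) (h n)

lemma liftQ_fac (n : ℕ) : S.liftQ g h n ≫ g = S.q n := IsOpenImmersion.lift_fac _ _ _

lemma liftQ_w (n : ℕ) : S.i n ≫ S.liftQ g h (n + 1) = S.liftQ g h n := by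
  rw [← cancel_mono g, Category.assoc, liftQ_fac, liftQ_fac, S.w n]

/-- The reduction maps, pushed forward. -/
def pushθ (n : ℕ) : (Scheme.Modules.pushforward g).obj E ⟶
    (Scheme.Modules.pushforward g).obj (alg (S.liftQ g h n)) :=
  S.θ n ≫ algMap (q := S.liftQ g h n ≫ g) (q' := S.q n) (𝟙 (S.T n))
      (by rw [Category.id_comp, liftQ_fac]) ≫
    (Scheme.Modules.pushforwardComp (S.liftQ g h n) g).inv.app _

/-- The reduction maps on the open subscheme. -/
def liftθ (n : ℕ) : E ⟶ alg (S.liftQ g h n) := (Scheme.Modules.pushforward g).preimage (S.pushθ g h n)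

lemma liftθ_app (n : ℕ) (V : X.Opens) (a : Γ(E, g ⁻¹ᵁ V)) :
    (S.liftθ g h n).app (g ⁻¹ᵁ V) a = (show Γ(alg (S.liftQ g h n), g ⁻¹ᵁ V) from
      algApp (q := S.liftQ g h n ≫ g) (q' := S.q n) (𝟙 (S.T n))
        (by rw [Category.id_comp, liftQ_fac]) V
        ((S.θ n).app V (show Γ((Scheme.Modules.pushforward g).obj E, V) from a))) := by
  have e := congrArg (fun t : (Scheme.Modules.pushforward g).obj E ⟶
    (Scheme.Modules.pushforward g).obj (alg (S.liftQ g h n)) => t.app V a)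
    ((Scheme.Modules.pushforward g).map_preimage (S.pushθ g h n))
  exact e

/-- The system on the open subscheme. -/
def restrictOpen : AlgSys (J.comap g) E where
  T := S.T
  q := S.liftQ g h
  i := S.i
  w := S.liftQ_w g h
  θ := S.liftθ g h
  comp n := (Scheme.Modules.pushforward g).map_injective (KosExt.hom_ext_affine fun V a => by
    change (algMap (S.i n) (S.liftQ_w g h n)).app (g ⁻¹ᵁ V.1) ((S.liftθ g h (n + 1)).app (g ⁻¹ᵁ V.1) a) =
      (S.liftθ g h n).app (g ⁻¹ᵁ V.1) a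
    rw [liftθ_app, liftθ_app, algMap_app]
    rw [← congrArg (fun t => Scheme.Modules.Hom.app t V.1 a) (S.comp n)]
    change algApp (q := S.liftQ g h n ≫ g) (q' := S.liftQ g h (n + 1) ≫ g) (S.i n)
        (by rw [← Category.assoc, liftQ_w]) V.1 (algApp _ _ V.1 _) =
      algApp _ _ V.1 (algApp (S.i n) (S.w n) V.1 _)
    rw [algApp_algApp _ _ _ _ (S.i n ≫ 𝟙 _) (by rw [Category.comp_id, liftQ_fac, S.w n]) rfl,
      algApp_algApp _ _ _ _ (S.i n ≫ 𝟙 _) (by rw [Category.comp_id, liftQ_fac, S.w n]) (by simp)]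
    rfl)
  surj n := affine_preimage g fun V hV z => by
    obtain ⟨y, hy⟩ := (algApp_id_self (q := S.liftQ g h n ≫ g) (q' := S.q n)
      (by rw [Category.id_comp, liftQ_fac]) V.1).2 z
    obtain ⟨x, hx⟩ := S.surj n V y
    exact ⟨x, (S.liftθ_app g h n V.1 x).trans ((congrArg _ hx).trans hy)⟩
  ker n := affine_preimage g fun V hV a => by
    rw [liftθ_app, show ((0 : Γ(alg (S.liftQ g h n), g ⁻¹ᵁ V.1))) = (show Γ(alg (S.liftQ g h n), g ⁻¹ᵁ V.1) from
      algApp (q := S.liftQ g h n ≫ g) (q' := S.q n) (𝟙 (S.T n)) (by rw [Category.id_comp, liftQ_fac]) V.1 0)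
      from (map_zero (algApp (q := S.liftQ g h n ≫ g) (q' := S.q n) (𝟙 (S.T n))
        (by rw [Category.id_comp, liftQ_fac]) V.1)).symm]
    refine (algApp_id_self _ V.1).1.eq_iff.trans ((S.ker n V _).trans ?_)
    rw [Cong, Cong, Scheme.IdealSheafData.ideal_pow, Scheme.IdealSheafData.ideal_pow, Pi.pow_apply, Pi.pow_apply,
      FpqcDescent.ideal_comap_appLE J g V ⟨_, hV⟩ le_rfl, ← Scheme.Hom.app_eq_appLE, ← Ideal.map_pow]
    exact (mem_smul_top_push_iff g V.1 _ a)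

end AlgSys

/-- A subscheme contained in an open subscheme is cut out there by the pulled back ideal. -/
theorem exists_iso_comap {U : Scheme.{u}} (g : U ⟶ X) [IsOpenImmersion g] (K : X.IdealSheafData)
    (i : K.subscheme ⟶ U) (hi : i ≫ g = K.subschemeι) :
    ∃ φ : K.subscheme ≅ (K.comap g).subscheme, φ.hom ≫ (K.comap g).subschemeι = i := by
  let e : K.subscheme ≅ pullback g K.subschemeι :=
    { hom := pullback.lift i (𝟙 _) (by simp [hi])
      inv := pullback.snd _ _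
      hom_inv_id := pullback.lift_snd _ _ _
      inv_hom_id := pullback.hom_ext (by
        rw [← cancel_mono g]; simp [hi, pullback.condition]) (by simp) }
  refine ⟨e ≪≫ (K.comapIso g).symm, ?_⟩
  rw [Iso.trans_hom, Iso.symm_hom, Category.assoc]
  simp [e]

end Groth.Agent.LefEssSurj
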