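import Groth.Agent.LefEssSurj.GermMinPrimes
import Groth.Agent.LefEssSurj.DepthTwo
import Groth.Agent.DepthExtend.Basic
import Groth.Agent.Purity.CompFF
import Groth.Agent.FlatDepth.Basic
import Groth.Agent.GabRig.Main
import Groth.Agent.Hensel.Ops
import Groth.Agent.LocImmFT.Finite

/-!
Clopen subsets of the part over `f = 0` of finite étale covers of the punctured spectrum extend uniquely, for a
henselian pair with a dualizing complex and `depth A_q + dim A/q > 2` off `f = 0`.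
-/

universe u

open CategoryTheory CategoryTheory.Limits AlgebraicGeometry TopologicalSpace Opposite
open scoped TensorProduct

set_option autoImplicit false
set_option maxHeartbeats 1000000
set_option backward.isDefEq.respectTransparency false
set_option linter.style.haveILetI false

noncomputable section

namespace Groth.Agent.LefEssSurj

/-- Clopen subsets extend across points of depth at least two. -/
theorem exists_clopen_of_depth {X : Scheme.{u}} [IsLocallyNoetherian X] (O : X.Opens)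
    (h : ∀ x : X, x ∉ O → (2 : ℕ∞) ≤ LocCoh.depth (X.presheaf.stalk x) (X.presheaf.stalk x)) {W : Set O}
    (hW : IsClopen W) : ∃ V : Set X, IsClopen V ∧ Subtype.val ⁻¹' V = W := by
  have hnX : ∀ x : X, ∃ N ∈ nhds x, NoetherianSpace N := fun x => by
    obtain ⟨V, hV, hxV, -⟩ := exists_isAffineOpen_mem_and_subset (X := X) (U := ⊤) (x := x) trivial
    haveI : IsNoetherianRing Γ(X, V) := IsLocallyNoetherian.component_noetherian ⟨V, hV⟩
    exact ⟨V, V.2.mem_nhds hxV, noetherianSpace_of_isAffineOpen V hV⟩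
  haveI := LocNoethTop.locallyConnectedSpace hnX
  obtain ⟨V, hV, -⟩ := Purity.existsUnique_clopen (continuous_subtype_val : Continuous (fun x : O => (x : X)))
    (DepthExtend.connectedComponentsMap_bijective O h) hW
  exact ⟨V, hV⟩

variable {A : Type u} [CommRing A] [IsNoetherianRing A]

/-- Depth two is inherited along a flat map to an open of the spectrum. -/
theorem two_le_depth_stalk {U : (Spec (CommRingCat.of A)).Opens} {Z : Scheme.{u}} [IsLocallyNoetherian Z]
    (π : Z ⟶ (↑U : Scheme.{u})) [Flat π] (z : Z)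
    (h : (2 : ℕ∞) ≤ LocCoh.depth (Localization.AtPrime ((π ≫ U.ι) z).asIdeal)
      (Localization.AtPrime ((π ≫ U.ι) z).asIdeal)) :
    (2 : ℕ∞) ≤ LocCoh.depth (Z.presheaf.stalk z) (Z.presheaf.stalk z) := by
  let S := Spec (CommRingCat.of A)
  let q : S := U.ι (π z)
  let R := (↑U : Scheme.{u}).presheaf.stalk (π z)
  let T := Z.presheaf.stalk z
  have hq : ((π ≫ U.ι) z) = q := Scheme.Hom.comp_apply _ _ _
  rw [hq] at h
  let e₀ : Localization.AtPrime q.asIdeal ≃+* S.presheaf.stalk q :=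
    (StructureSheaf.stalkIso A q).toRingEquiv
  let e : Localization.AtPrime q.asIdeal ≃+* R :=
    e₀.trans (U.stalkIso (π z)).symm.commRingCatIsoToRingEquiv
  haveI : IsNoetherianRing R := isNoetherianRing_of_ringEquiv _ e
  have hR : (2 : ℕ∞) ≤ LocCoh.depth R R := h.trans_eq (Purity.depth_eq_of_ringEquiv e).symm
  letI : Algebra R T := (π.stalkMap z).hom.toAlgebra
  haveI : Module.Flat R T := Flat.stalkMap π z
  haveI : IsLocalHom (algebraMap R T) := inferInstanceAs (IsLocalHom (π.stalkMap z).hom)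
  have ht := FlatDepth.depth_tensor (R := R) (S := T) T R
  rw [LocCoh.depth, LocH.idealDepth_congr (TensorProduct.AlgebraTensorModule.rid R T T)] at ht
  exact (hR.trans le_self_add).trans_eq ht.symm

variable [IsLocalRing A] {f : A}

/-- A clopen subset of a cover of the punctured spectrum without points over `f = 0` is empty. -/
theorem clopen_eq_empty (hf : f ∈ IsLocalRing.maximalIdeal A) (h2 : TwoLt A f) {Z : Scheme.{u}}
    (π : Z ⟶ (↑(FEt.puncturedSpec A) : Scheme.{u})) [IsFinite π] [Etale π] {W : Set Z} (hW : IsClopen W)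
    (hWf : ∀ z ∈ W, f ∉ ((π ≫ (FEt.puncturedSpec A).ι) z).asIdeal) : W = ∅ := by
  let P := FEt.puncturedSpec A
  refine Set.eq_empty_iff_forall_notMem.2 fun z hz => ?_
  let G : Set (↑P : Scheme.{u}) := π '' W
  have hGc : IsClosed G := π.isClosedMap _ hW.isClosed
  have hGo : IsOpen G := π.isOpenMap _ hW.isOpen
  have hGf : ∀ g ∈ G, f ∉ (P.ι g).asIdeal := by
    rintro _ ⟨w, hw, rfl⟩
    exact hWf w hw
  obtain ⟨p₀, hp₀, hp₀q⟩ :=
    Ideal.exists_minimalPrimes_le (show (⊥ : Ideal A) ≤ (P.ι (π z)).asIdeal from bot_le)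
  let r : PrimeSpectrum A := ⟨p₀, hp₀.1.1⟩
  have hrq : r ⤳ P.ι (π z) := (PrimeSpectrum.le_iff_specializes r _).1 hp₀q
  have hrP : r ∈ P := hrq.mem_open P.2 (π z).2
  have hrG : (⟨r, hrP⟩ : (↑P : Scheme.{u})) ∈ G :=
    (P.ι.isOpenEmbedding.isInducing.specializes_iff.1
      (show P.ι ⟨r, hrP⟩ ⤳ P.ι (π z) from hrq)).mem_open hGo ⟨z, hz, rfl⟩
  have hrf : f ∉ r.asIdeal := hGf _ hrG
  have h3 := three_le_of_minimal h2 hp₀ hrf
  have h1 := exists_specialization hf r hrf fun s hrs hfs => by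
    by_contra hs
    have hsG : (⟨s, hs⟩ : (↑P : Scheme.{u})) ∈ G :=
      (P.ι.isOpenEmbedding.isInducing.specializes_iff.1
        (show P.ι ⟨r, hrP⟩ ⤳ P.ι ⟨s, hs⟩ from (PrimeSpectrum.le_iff_specializes r s).1 hrs)).mem_closed hGc hrG
    exact hGf _ hsG hfs
  have h := h3.trans h1
  exact absurd h (by norm_num)

/-- The complete case. -/
theorem exists_clopen_complete (hf : f ∈ IsLocalRing.maximalIdeal A) (hd : ∃ ω : Dual.D A, Dual.IsDualizing A ω)
    [IsAdicComplete (Ideal.span {f}) A] (h2 : TwoLt A f) {U : (Spec (CommRingCat.of A)).Opens}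
    (hU : U = FEt.puncturedSpec A) {Z : Scheme.{u}} (π : Z ⟶ (↑U : Scheme.{u})) [IsFinite π] [Etale π]
    {C D : Set Z} (hC : IsClosed C) (hD : IsClosed D) (hCD : Disjoint C D)
    (hcov : ∀ z, z ∈ C ∪ D ↔ f ∈ ((π ≫ U.ι) z).asIdeal) :
    ∃ W : Set Z, IsClopen W ∧ C ⊆ W ∧ Disjoint W D := by
  subst hU
  haveI : IsLocallyNoetherian Z := LocallyOfFiniteType.isLocallyNoetherian (π ≫ (FEt.puncturedSpec A).ι)
  obtain ⟨U₂, hU₂, W, K, hW, hK, hCW, hDK, hWK⟩ := clopenGerm_of_minimalPrimes hd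
    (fun p hp hfp => three_le_of_minimal h2 hp hfp) (FEt.puncturedSpec A) le_rfl (fun p hp _ => hp) Z π
    inferInstance inferInstance C D hC hD hCD hcov
  let O : Z.Opens := (π ≫ (FEt.puncturedSpec A).ι) ⁻¹ᵁ U₂
  have hW₀ : IsClopen (Subtype.val ⁻¹' W : Set O) := by
    refine ⟨hW.preimage continuous_subtype_val, ?_⟩
    rw [show (Subtype.val ⁻¹' W : Set O) = Subtype.val ⁻¹' Kᶜ from Set.ext fun x => hWK x.1 x.2]
    exact hK.isOpen_compl.preimage continuous_subtype_val
  have hOf : ∀ z, f ∈ ((π ≫ (FEt.puncturedSpec A).ι) z).asIdeal → z ∈ O := fun z hz =>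
    hU₂ _ (π z).2 hz
  obtain ⟨V, hV, hVW⟩ := exists_clopen_of_depth O (fun z hz => by
    refine two_le_depth_stalk π z ?_
    have hfq : f ∉ ((π ≫ (FEt.puncturedSpec A).ι) z).asIdeal := fun h => hz (hOf z h)
    refine two_le_depth_of_dim_le h2 _ hfq (exists_specialization hf _ hfq fun r hr hfr => ?_)
    by_contra hrne
    exact hz (((PrimeSpectrum.le_iff_specializes _ r).1 hr).mem_open U₂.2 (hU₂ r hrne hfr))) hW₀
  have hiff : ∀ z (hz : z ∈ O), z ∈ V ↔ z ∈ W := fun z hz => Set.ext_iff.1 hVW ⟨z, hz⟩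
  refine ⟨V, hV, fun z hz => (hiff z (hOf z ((hcov z).1 (Or.inl hz)))).2 (hCW hz),
    Set.disjoint_left.2 fun z hzV hzD => ?_⟩
  have hzO := hOf z ((hcov z).1 (Or.inr hzD))
  exact (hWK z hzO).1 ((hiff z hzO).1 hzV) (hDK hzD)

omit [IsLocalRing A] in
/-- A finite cover of an open is open in a finite scheme over the spectrum. -/
theorem exists_finite_model {U : (Spec (CommRingCat.of A)).Opens} {Z : Scheme.{u}} (π : Z ⟶ (↑U : Scheme.{u}))
    [IsFinite π] : ∃ (C : Type u) (_ : CommRing C) (_ : Algebra A C) (_ : Module.Finite A C)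
      (j : Z ⟶ Spec (CommRingCat.of C)), IsOpenImmersion j ∧
        j ≫ Spec.map (CommRingCat.ofHom (algebraMap A C)) = π ≫ U.ι := by
  haveI : NoetherianSpace (Spec (CommRingCat.of A)) := inferInstanceAs (NoetherianSpace (PrimeSpectrum A))
  haveI : QuasiCompact U.ι := inferInstance
  obtain ⟨T, j, τ, hj, -, hτ, hjτ⟩ := LocImmFT.exists_openImmersion_finite (π ≫ U.ι)
  haveI := hj; haveI := hτ
  haveI : IsAffine T := isAffine_of_isAffineHom τ
  let φ : CommRingCat.of A ⟶ Γ(T, ⊤) := (Scheme.ΓSpecIso (CommRingCat.of A)).inv ≫ τ.appTop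
  letI : Algebra A Γ(T, ⊤) := φ.hom.toAlgebra
  have hφ : φ.hom.Finite := by
    show (τ.appTop.hom.comp (Scheme.ΓSpecIso (CommRingCat.of A)).inv.hom).Finite
    exact (HasAffineProperty.iff_of_isAffine.1 hτ).2.comp
      (RingHom.Finite.of_surjective _ (ConcreteCategory.bijective_of_isIso (Scheme.ΓSpecIso (CommRingCat.of A)).inv).2)
  refine ⟨Γ(T, ⊤), inferInstance, inferInstance, hφ, j ≫ T.toSpecΓ, inferInstance, ?_⟩
  rw [Category.assoc, show CommRingCat.ofHom (algebraMap A Γ(T, ⊤)) = φ from rfl, Spec.map_comp,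
    ← Scheme.toSpecΓ_naturality_assoc, toSpecΓ_SpecMap_ΓSpecIso_inv, Category.comp_id, hjτ]

/-- Descent to a henselian pair from the completion. -/
theorem exists_clopen_henselian (hf : f ∈ IsLocalRing.maximalIdeal A) [HenselianRing A (Ideal.span {f})]
    {ω : Dual.D A} (hω : Dual.IsDualizing A ω) (hn : Dual.IsNormalized A ω) (h2 : TwoLt A f) {Z : Scheme.{u}}
    (π : Z ⟶ (↑(FEt.puncturedSpec A) : Scheme.{u})) [IsFinite π] [Etale π]
    {C₀ D₀ : Set Z} (hC : IsClosed C₀) (hD : IsClosed D₀) (hCD : Disjoint C₀ D₀)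
    (hcov : ∀ z, z ∈ C₀ ∪ D₀ ↔ f ∈ ((π ≫ (FEt.puncturedSpec A).ι) z).asIdeal) :
    ∃ W : Set Z, IsClopen W ∧ C₀ ⊆ W ∧ Disjoint W D₀ := by
  let P := FEt.puncturedSpec A
  let I : Ideal A := Ideal.span {f}
  have hI : I.FG := IsNoetherian.noetherian I
  let Ah := AdicCompletion I A
  haveI : IsNoetherianRing Ah := ResExt.isNoetherianRing_adicCompletion _ hI
  haveI : IsLocalRing Ah := isLocalRing_completion hf
  obtain ⟨hdB, h2B⟩ := completion_twoLt hω hn h2
  obtain ⟨hmB, hcB⟩ := maximal_completion (A := A) (f := f)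
  haveI : IsAdicComplete I Ah := AdicCompletion.isAdicComplete hI
  haveI : IsAdicComplete (Ideal.span {algebraMap A Ah f}) Ah := by
    have h : IsAdicComplete (I.map (algebraMap A Ah)) Ah := (IsAdicComplete.map_algebraMap_iff _ _).2 inferInstance
    rwa [Ideal.map_span, Set.image_singleton] at h
  let s := Spec.map (CommRingCat.ofHom (algebraMap A Ah))
  have hP : s ⁻¹ᵁ P = FEt.puncturedSpec Ah := by
    refine Opens.ext (Set.ext fun q => not_congr ?_)
    show (PrimeSpectrum.comap (algebraMap A Ah) q = IsLocalRing.closedPoint A) ↔ q = IsLocalRing.closedPoint Ah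
    refine ⟨fun h => ?_, fun h => PrimeSpectrum.ext (by rw [h]; exact hcB)⟩
    refine PrimeSpectrum.ext (le_antisymm (IsLocalRing.le_maximalIdeal q.isPrime.ne_top) ?_)
    show IsLocalRing.maximalIdeal Ah ≤ q.asIdeal
    rw [← hmB, Ideal.map_le_iff_le_comap]
    exact (congrArg PrimeSpectrum.asIdeal h).ge
  let Zh := pullback π (s ∣_ P)
  let a : Zh ⟶ Z := pullback.fst π (s ∣_ P)
  let πh : Zh ⟶ (↑(s ⁻¹ᵁ P) : Scheme.{u}) := pullback.snd π (s ∣_ P)
  haveI : IsFinite πh := MorphismProperty.pullback_snd (P := @IsFinite) _ _ inferInstance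
  haveI : Etale πh := MorphismProperty.pullback_snd (P := @Etale) _ _ inferInstance
  have hsq : IsPullback a (πh ≫ (s ⁻¹ᵁ P).ι) (π ≫ P.ι) s :=
    (IsPullback.of_hasPullback π (s ∣_ P)).paste_vert (isPullback_morphismRestrict s P)
  have hpt : ∀ w : Zh, (π ≫ P.ι) (a w) = s ((πh ≫ (s ⁻¹ᵁ P).ι) w) := fun w => congrArg (fun m => m w) hsq.w
  obtain ⟨Wh, hWh, hCWh, hWDh⟩ := exists_clopen_complete
    (show algebraMap A Ah f ∈ IsLocalRing.maximalIdeal Ah from hmB ▸ Ideal.mem_map_of_mem _ hf) hdB h2B hP πh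
    (hC.preimage a.continuous) (hD.preimage a.continuous) (hCD.preimage a) (fun w => by
      show a w ∈ C₀ ∪ D₀ ↔ _
      rw [hcov, hpt]
      rfl)
  -- a finite model
  obtain ⟨C, _, _, _, j, hj, hjπ⟩ := exists_finite_model π
  haveI := hj
  let B := Ah ⊗[A] C
  let φ : C →+* B := (Algebra.TensorProduct.includeRight : C →ₐ[A] B).toRingHom
  let τ := Spec.map (CommRingCat.ofHom (algebraMap A C))
  have hSpec : IsPullback (Spec.map (CommRingCat.ofHom φ)) (Spec.map (CommRingCat.ofHom (algebraMap Ah B))) τ s := by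
    refine (IsPullback.of_iso (IsPullback.of_hasPullback s τ) (pullbackSpecIso A Ah C) (Iso.refl _) (Iso.refl _)
      (Iso.refl _) ?_ ?_ ?_ ?_).flip
    · rw [pullbackSpecIso_hom_fst', Iso.refl_hom, Category.comp_id]
    · rw [Iso.refl_hom, Category.comp_id]
      exact (pullbackSpecIso_hom_snd A Ah C).symm
    · rw [Iso.refl_hom, Iso.refl_hom, Category.comp_id, Category.id_comp]
    · rw [Iso.refl_hom, Iso.refl_hom, Category.comp_id, Category.id_comp]
  let k : Zh ⟶ Spec (CommRingCat.of B) := hSpec.lift (a ≫ j) (πh ≫ (s ⁻¹ᵁ P).ι) (by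
    rw [Category.assoc, hjπ]; exact hsq.w)
  have hk : IsPullback a k j (Spec.map (CommRingCat.ofHom φ)) := by
    refine IsPullback.of_bot (v₂₁ := Spec.map (CommRingCat.ofHom (algebraMap Ah B))) (v₂₂ := τ) (h₃₁ := s) ?_
      (hSpec.lift_fst _ _ _).symm hSpec
    rw [hSpec.lift_snd, hjπ]
    exact hsq
  haveI : IsOpenImmersion k := MorphismProperty.of_isPullback (P := @IsOpenImmersion) hk hj
  have hlift : ∀ (z : Z) (Q : Spec (CommRingCat.of B)), PrimeSpectrum.comap φ Q = j z →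
      ∃ w, a w = z ∧ k w = Q := fun z Q hQ => by
    obtain ⟨w, hw₁, hw₂⟩ := Scheme.Pullback.exists_preimage_pullback (f := j)
      (g := Spec.map (CommRingCat.ofHom φ)) z Q hQ.symm
    refine ⟨hk.isoPullback.inv w, ?_, ?_⟩
    · rw [← Scheme.Hom.comp_apply, hk.isoPullback_inv_fst]; exact hw₁
    · rw [← Scheme.Hom.comp_apply, hk.isoPullback_inv_snd]; exact hw₂
  -- the open part over the punctured spectrum
  let Uc : Set (PrimeSpectrum C) := PrimeSpectrum.comap (algebraMap A C) ⁻¹' (P.1 : Set (PrimeSpectrum A))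
  have hUco : IsOpen Uc := P.2.preimage (PrimeSpectrum.continuous_comap _)
  haveI : IsNoetherianRing C := Algebra.FiniteType.isNoetherianRing A C
  have hUcc : IsCompact Uc := NoetherianSpace.isCompact _
  let fC := algebraMap A C f
  have hUJ : ∀ x, x ∉ Uc → Ideal.span {fC} ≤ x.asIdeal := fun x hx => by
    rw [Ideal.span_singleton_le_iff_mem]
    have hx' : PrimeSpectrum.comap (algebraMap A C) x = IsLocalRing.closedPoint A := not_not.1 hx
    show f ∈ (PrimeSpectrum.comap (algebraMap A C) x).asIdeal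
    rw [hx']
    exact hf
  have hjU : ∀ z, j z ∈ Uc := fun z => by
    show τ (j z) ∈ P
    rw [← Scheme.Hom.comp_apply, hjπ]
    exact (π z).2
  have hrest : IsOpen (Uc \ Set.range j) := by
    let jU := IsOpenImmersion.lift (τ ⁻¹ᵁ P).ι j (by
      rintro _ ⟨z, rfl⟩
      rw [Scheme.Opens.range_ι]
      exact hjU z)
    have hjU' : jU ≫ (τ ⁻¹ᵁ P).ι = j := IsOpenImmersion.lift_fac _ _ _
    have hjUπ : jU ≫ (τ ∣_ P) = π := by
      rw [← cancel_mono P.ι, Category.assoc, morphismRestrict_ι, reassoc_of% hjU', hjπ]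
    haveI : IsFinite τ := (IsFinite.SpecMap_iff (f := CommRingCat.ofHom (algebraMap A C))).2
      (RingHom.finite_algebraMap.2 inferInstance)
    haveI : IsFinite (τ ∣_ P) := MorphismProperty.of_isPullback (isPullback_morphismRestrict τ P).flip inferInstance
    haveI : IsFinite (jU ≫ (τ ∣_ P)) := by rw [hjUπ]; infer_instance
    haveI : IsFinite jU := IsFinite.of_comp jU (τ ∣_ P)
    have hcl : IsClosed (Set.range jU) := jU.isClosedMap.isClosed_range
    have himg : Uc \ Set.range j = (τ ⁻¹ᵁ P).ι '' (Set.range jU)ᶜ := by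
      ext x
      constructor
      · rintro ⟨hx, hxj⟩
        refine ⟨⟨x, hx⟩, fun ⟨z, hz⟩ => hxj ⟨z, ?_⟩, rfl⟩
        rw [← hjU', Scheme.Hom.comp_apply, hz]
        rfl
      · rintro ⟨y, hy, rfl⟩
        refine ⟨y.2, fun ⟨z, hz⟩ => hy ⟨z, (τ ⁻¹ᵁ P).ι.isOpenEmbedding.injective ?_⟩⟩
        rw [← Scheme.Hom.comp_apply, hjU', hz]
    rw [himg]
    exact (τ ⁻¹ᵁ P).ι.isOpenEmbedding.isOpenMap _ hcl.isOpen_compl
  -- the descent
  haveI : HenselianRing C (Ideal.span {fC}) := by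
    have h := Hensel.henselianRing_integral A I C
    rwa [Ideal.map_span, Set.image_singleton] at h
  have hcomp : φ.comp (algebraMap A C) = algebraMap A B :=
    (Algebra.TensorProduct.includeRight : C →ₐ[A] B).comp_algebraMap
  have hJmap : ∀ M : ℕ, (Ideal.span {fC} ^ M).map φ = (I ^ M).map (algebraMap A B) := fun M => by
    rw [show Ideal.span {fC} = I.map (algebraMap A C) by rw [Ideal.map_span, Set.image_singleton], ← Ideal.map_pow,
      Ideal.map_map, hcomp]
  have hlow : ∀ M, ((Ideal.span {fC} ^ M).map φ).comap φ ≤ Ideal.span {fC} ^ M := fun M x hx => by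
    let IM := Ideal.span {fC} ^ M
    have hle : ∀ c ∈ I ^ M, Algebra.ofId A (C ⧸ IM) c = 0 := fun c hc => by
      refine Ideal.Quotient.eq_zero_iff_mem.2 ?_
      show algebraMap A C c ∈ IM
      have := Ideal.mem_map_of_mem (algebraMap A C) hc
      rwa [Ideal.map_pow, Ideal.map_span, Set.image_singleton] at this
    let χ : Ah →ₐ[A] C ⧸ IM := (Ideal.Quotient.liftₐ (I ^ M) (Algebra.ofId A (C ⧸ IM)) hle).comp (AdicCompletion.evalₐ I M)
    let ψ : B →ₐ[A] C ⧸ IM := Algebra.TensorProduct.lift χ (Ideal.Quotient.mkₐ A IM) fun _ _ => Commute.all _ _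
    have hψ : ∀ c, ψ (φ c) = Ideal.Quotient.mk IM c := fun c => by
      show ψ ((1 : Ah) ⊗ₜ[A] c) = _
      rw [Algebra.TensorProduct.lift_tmul, map_one, one_mul]
      rfl
    rw [Ideal.mem_comap, hJmap] at hx
    refine Ideal.Quotient.eq_zero_iff_mem.1 ((hψ x).symm.trans ?_)
    have hker : (I ^ M).map (algebraMap A B) ≤ RingHom.ker ψ.toRingHom := Ideal.map_le_iff_le_comap.2 fun c hc =>
      show ψ (algebraMap A B c) = 0 by rw [AlgHom.commutes]; exact hle c hc
    exact hker hx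
  have hsurj : ∀ (M : ℕ) (b : B), ∃ x, b - φ x ∈ (Ideal.span {fC} ^ M).map φ := fun M b => by
    rw [hJmap]
    induction b using TensorProduct.induction_on with
    | zero => exact ⟨0, by rw [map_zero, sub_zero]; exact zero_mem _⟩
    | tmul r c =>
      obtain ⟨x, hx⟩ := GabRig.compl_surj I hI M r
      refine ⟨x • c, ?_⟩
      have h : (r - algebraMap A Ah x) ⊗ₜ[A] c ∈ (I ^ M).map (algebraMap A B) := by
        have h1 : algebraMap Ah B (r - algebraMap A Ah x) ∈ (I ^ M).map (algebraMap A B) := by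
          rw [IsScalarTower.algebraMap_eq A Ah B, ← Ideal.map_map]
          exact Ideal.mem_map_of_mem _ hx
        have := Ideal.mul_mem_right ((1 : Ah) ⊗ₜ[A] c) _ h1
        rwa [Algebra.TensorProduct.algebraMap_apply, Algebra.TensorProduct.tmul_mul_tmul, mul_one, one_mul] at this
      rw [TensorProduct.sub_tmul, Algebra.algebraMap_eq_smul_one, TensorProduct.smul_tmul] at h
      exact h
    | add b₁ b₂ h₁ h₂ =>
      obtain ⟨x₁, hx₁⟩ := h₁; obtain ⟨x₂, hx₂⟩ := h₂
      exact ⟨x₁ + x₂, by rw [map_add, add_sub_add_comm]; exact add_mem hx₁ hx₂⟩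
  have hjac : (Ideal.span {fC}).map φ ≤ Ideal.jacobson ⊥ := by
    rw [← pow_one (Ideal.span {fC}), hJmap, pow_one, Ideal.map_span, Set.image_singleton,
      Ideal.span_singleton_le_iff_mem, IsScalarTower.algebraMap_apply A Ah B]
    refine Submodule.mem_sInf.2 fun n hn => ?_
    haveI := hn.2
    haveI : Algebra.IsIntegral Ah B := Algebra.IsIntegral.of_finite Ah B
    haveI := Ideal.isMaximal_comap_of_isIntegral_of_isMaximal (R := Ah) n
    show algebraMap A Ah f ∈ Ideal.comap (algebraMap Ah B) n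
    rw [IsLocalRing.eq_maximalIdeal ‹(Ideal.comap (algebraMap Ah B) n).IsMaximal›, ← hmB]
    exact Ideal.mem_map_of_mem _ hf
  have hkφ : ∀ w, PrimeSpectrum.comap φ (k w) = j (a w) := fun w =>
    (congrArg (fun m => m w) hk.w).symm
  have hcompl : IsOpen (PrimeSpectrum.comap φ ⁻¹' Uc \ k '' Wh) := by
    have : PrimeSpectrum.comap φ ⁻¹' Uc \ k '' Wh =
        k '' Whᶜ ∪ PrimeSpectrum.comap φ ⁻¹' (Uc \ Set.range j) := by
      ext Q
      constructor
      · rintro ⟨hQ, hQW⟩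
        by_cases hQj : PrimeSpectrum.comap φ Q ∈ Set.range j
        · obtain ⟨z, hz⟩ := hQj
          obtain ⟨w, -, hw⟩ := hlift z Q hz.symm
          exact Or.inl ⟨w, fun h => hQW ⟨w, h, hw⟩, hw⟩
        · exact Or.inr ⟨hQ, hQj⟩
      · rintro (⟨w, hw, rfl⟩ | ⟨hQ, hQj⟩)
        · refine ⟨?_, fun ⟨w', hw', he⟩ => hw (k.isOpenEmbedding.injective he ▸ hw')⟩
          show PrimeSpectrum.comap φ (k w) ∈ Uc
          rw [hkφ]
          exact hjU _
        · refine ⟨hQ, fun ⟨w, _, he⟩ => hQj ?_⟩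
          rw [← he, hkφ]
          exact ⟨_, rfl⟩
    rw [this]
    exact (k.isOpenEmbedding.isOpenMap _ hWh.isClosed.isOpen_compl).union
      (hrest.preimage (PrimeSpectrum.continuous_comap φ))
  obtain ⟨V, hVo, hVU, hVc, hV⟩ := GabRig.descend (φ := φ) (J := Ideal.span {fC})
    ((Submodule.fg_span_singleton fC)) hlow hsurj hjac hUco hUcc hUJ (V' := k '' Wh)
    (k.isOpenEmbedding.isOpenMap _ hWh.isOpen) (by
      rintro _ ⟨w, -, rfl⟩
      show PrimeSpectrum.comap φ (k w) ∈ Uc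
      rw [hkφ]
      exact hjU _) hcompl
  have hpts : ∀ z, f ∈ ((π ≫ P.ι) z).asIdeal → ∃ w, a w = z ∧ (w ∈ Wh ↔ j z ∈ V) := fun z hz => by
    have hJz : Ideal.span {fC} ≤ (j z).asIdeal := by
      rw [Ideal.span_singleton_le_iff_mem]
      rw [← hjπ, Scheme.Hom.comp_apply] at hz
      exact hz
    obtain ⟨Q, hQ, -⟩ := GabRig.exists_lift_prime hlow hsurj (j z) hJz
    obtain ⟨w, hw₁, hw₂⟩ := hlift z Q hQ
    refine ⟨w, hw₁, ?_⟩
    rw [← hQ, ← Set.mem_preimage, hV, ← hw₂, k.isOpenEmbedding.injective.mem_set_image]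
  refine ⟨j ⁻¹' V, ⟨⟨?_⟩, hVo.preimage j.continuous⟩, fun z hz => ?_, Set.disjoint_left.2 fun z hzW hzD => ?_⟩
  · rw [show (j ⁻¹' V)ᶜ = j ⁻¹' (Uc \ V) from Set.ext fun z => ⟨fun h => ⟨hjU z, h⟩, fun h => h.2⟩]
    exact hVc.preimage j.continuous
  · obtain ⟨w, hw, hwV⟩ := hpts z ((hcov z).1 (Or.inl hz))
    exact hwV.1 (hCWh (show a w ∈ C₀ from hw ▸ hz))
  · obtain ⟨w, hw, hwV⟩ := hpts z ((hcov z).1 (Or.inr hzD))
    exact Set.disjoint_left.1 hWDh (hwV.2 hzW) (show a w ∈ D₀ from hw ▸ hzD)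

/-- Full faithfulness of restriction to `f = 0`. -/
theorem punct_full_faithful (hf : f ∈ IsLocalRing.maximalIdeal A) [HenselianRing A (Ideal.span {f})]
    {ω : Dual.D A} (hω : Dual.IsDualizing A ω) (hn : Dual.IsNormalized A ω) (h2 : TwoLt A f) :
    (FEt.restrict (pullback.fst (FEt.puncturedSpec A).ι
        (Spec.map (CommRingCat.ofHom (Ideal.Quotient.mk (Ideal.span {f})))))).Full ∧
      (FEt.restrict (pullback.fst (FEt.puncturedSpec A).ι
        (Spec.map (CommRingCat.ofHom (Ideal.Quotient.mk (Ideal.span {f})))))).Faithful := by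
  let P := FEt.puncturedSpec A
  obtain ⟨hcl, hr, -⟩ := GermFF.closed_range_punct f le_rfl
    (pullback.fst P.ι (Spec.map (CommRingCat.ofHom (Ideal.Quotient.mk (Ideal.span {f})))))
    rfl
  haveI := hcl
  refine Purity.restrict_full_faithful_of_clopen _ fun Z π hπ hπ' C hC => ?_
  haveI := hπ; haveI := hπ'
  let i := pullback.fst P.ι (Spec.map (CommRingCat.ofHom (Ideal.Quotient.mk (Ideal.span {f}))))
  let c := pullback.fst π i
  have hrange : ∀ z, z ∈ Set.range c ↔ f ∈ ((π ≫ P.ι) z).asIdeal := fun z => by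
    rw [Scheme.Pullback.range_fst, Set.mem_preimage, hr, Scheme.Hom.comp_apply]
  obtain ⟨W, hW, hCW, hWD⟩ := exists_clopen_henselian hf hω hn h2 π
    (c.isClosedEmbedding.isClosedMap _ hC.1) (c.isClosedEmbedding.isClosedMap _ hC.2.isClosed_compl)
    ((Set.disjoint_image_iff c.isClosedEmbedding.injective).2 disjoint_compl_right) (fun z => by
      rw [← Set.image_union, Set.union_compl_self, Set.image_univ, hrange])
  have hWC : c ⁻¹' W = C := Set.ext fun y => ⟨fun hy => by_contra fun h =>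
    Set.disjoint_left.1 hWD hy ⟨y, h, rfl⟩, fun hy => hCW ⟨y, hy, rfl⟩⟩
  refine ⟨W, ⟨hW, hWC⟩, fun W' hW' => ?_⟩
  have key : ∀ V₁ V₂ : Set Z, IsClopen V₁ → IsClopen V₂ → c ⁻¹' V₁ = c ⁻¹' V₂ → V₁ ⊆ V₂ :=
    fun V₁ V₂ h₁ h₂ he => Set.sdiff_eq_empty.1 (clopen_eq_empty hf h2 π (h₁.diff h₂) fun z hz hfz => by
      obtain ⟨y, rfl⟩ := (hrange z).2 hfz
      exact hz.2 ((Set.ext_iff.1 he y).1 hz.1))
  exact le_antisymm (key _ _ hW'.1 hW (hW'.2.trans hWC.symm)) (key _ _ hW hW'.1 (hWC.trans hW'.2.symm))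

end Groth.Agent.LefEssSurj
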