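import Groth.Agent.LefEssSurj.AlgKill
import Groth.Agent.LefEssSurj.TorsionRed
import Groth.Agent.LefEssSurj.DualKill
import Groth.Agent.DualCx.GorCriterion
import Groth.Agent.AdicLim.Noetherian

/-!
Covers of `f = 0` in the punctured spectrum extend to neighbourhoods under depth hypotheses, for complete rings with
a dualizing complex.
-/

universe u

open CategoryTheory CategoryTheory.Limits AlgebraicGeometry TopologicalSpace Opposite

set_option autoImplicit false
set_option maxHeartbeats 1000000
set_option backward.isDefEq.respectTransparency false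
set_option backward.isDefEq.respectTransparency.types false
set_option linter.style.haveILetI false

noncomputable section

namespace Groth.Agent.LefEssSurj

variable {A : Type u} [CommRing A] [IsLocalRing A] {f : A}

theorem extendsNearDiv_of_nilpotent (hf : IsNilpotent f) : ExtendsNearDiv A f := by
  refine extendsNearDiv_of_pullback fun V₀ => ?_
  haveI : IsClosedImmersion (Spec.map (CommRingCat.ofHom (Ideal.Quotient.mk (Ideal.span {f})))) :=
    IsClosedImmersion.spec_of_surjective _ Ideal.Quotient.mk_surjective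
  haveI : Surjective (Spec.map (CommRingCat.ofHom (Ideal.Quotient.mk (Ideal.span {f})))) := by
    refine surjective_specMap_of_nil _ Ideal.Quotient.mk_surjective fun x hx => ?_
    obtain ⟨r, rfl⟩ := Ideal.mem_span_singleton.1 (Ideal.Quotient.eq_zero_iff_mem.1 hx)
    exact (Commute.all f r).isNilpotent_mul_right hf
  haveI : IsClosedImmersion (hyperMap A f) := inferInstance
  haveI : Surjective (hyperMap A f) := inferInstance
  let i := hyperMap A f ≫ (↑(FEt.puncturedSpec A) : Scheme.{u}).topIso.inv
  haveI : IsClosedImmersion i := inferInstance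
  haveI : Surjective i := inferInstance
  haveI := Groth.Agent.S0238.result i
  exact ⟨⊤, (FEt.restrict i).objPreimage V₀, i, by simp [i], ⟨(FEt.restrict i).objObjPreimageIso V₀⟩⟩

/-- Extension to neighbourhoods under the depth hypotheses. -/
theorem extendsNearDiv_of_depth [IsNoetherianRing A] (hd : ∃ ω : Dual.D A, Dual.IsDualizing A ω)
    [IsAdicComplete (Ideal.span {f}) A]
    (hc : ((LocCoh.HasSk 2 (Localization.Away f) (Localization.Away f) ∧
      ∀ p : Ideal A, p ∈ minimalPrimes A → f ∉ p → (4 : WithBot ℕ∞) ≤ ringKrullDim (A ⧸ p)) ∨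
    (∀ p : Ideal A, ∀ _ : p.IsPrime, f ∉ p → (p ⊔ Ideal.span {f}).radical ≠ IsLocalRing.maximalIdeal A →
      (3 : WithBot ℕ∞) < (LocCoh.depth (Localization.AtPrime p) (Localization.AtPrime p) : WithBot ℕ∞) +
        ringKrullDim (A ⧸ p)))) : ExtendsNearDiv A f := by
  obtain ⟨T, N, hT, hinf, hnz⟩ := DualKill.exists_torsion f
  by_cases htop : T = ⊤
  · refine extendsNearDiv_of_nilpotent ⟨N, ?_⟩
    have := (hT 1).1 (htop ▸ Submodule.mem_top)
    rwa [mul_one] at this
  haveI : Nontrivial (A ⧸ T) := Ideal.Quotient.nontrivial_iff.2 htop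
  haveI : IsLocalRing (A ⧸ T) := IsLocalRing.of_surjective' (Ideal.Quotient.mk T) Ideal.Quotient.mk_surjective
  haveI : IsAdicComplete (Ideal.span {Ideal.Quotient.mk T f}) (A ⧸ T) := by
    have h := Groth.Agent.AdicLim.isAdicComplete_of_finite (Ideal.span {f}) (A ⧸ T)
    rw [← IsAdicComplete.map_algebraMap_iff (S := A ⧸ T), Ideal.map_span, Set.image_singleton] at h
    exact h
  obtain ⟨ω, hω⟩ := hd
  obtain ⟨n, hn⟩ := DualCx.exists_normalized_shift hω
  obtain ⟨c, hc'⟩ := DualKill.exists_killFin (DualCx.isDualizing_shift hω n) hn hc T N (fun x hx => (hT x).1 hx) hnz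
  exact extendsNearDiv_of_inf_eq_bot T N hinf
    (extendsNearDiv_of_kill hnz (hc' 1 le_rfl one_le_two) (hc' 2 one_le_two le_rfl))

end Groth.Agent.LefEssSurj
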