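import Groth.Agent.LefEssSurj.PurQuotExt

/-!
Restriction to the punctured spectrum of a hypersurface section: extension to neighbourhoods and, under purity
off the hypersurface, essential surjectivity.
-/

universe u

open CategoryTheory CategoryTheory.Limits AlgebraicGeometry TopologicalSpace Opposite
open Groth.Agent.FormAlg

set_option autoImplicit false
set_option maxHeartbeats 1000000
set_option backward.isDefEq.respectTransparency false
set_option backward.isDefEq.respectTransparency.types false
set_option linter.style.haveILetI false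

noncomputable section

namespace Groth.Agent.LefEssSurj

/-- Covers of `t = 0` in the punctured spectrum extend to open neighbourhoods. -/
def ExtendsNearDiv (A : Type u) [CommRing A] [IsLocalRing A] (f : A) : Prop :=
  ∀ R : FEt.Cat (divisorIdeal (FEt.puncturedSpec A) f).subscheme,
    ∃ (U : (↑(FEt.puncturedSpec A) : Scheme.{u}).Opens) (R' : FEt.Cat (U : Scheme.{u})),
      ((divisorIdeal (FEt.puncturedSpec A) f).support : Set (↑(FEt.puncturedSpec A) : Scheme.{u})) ⊆
        (U : Set (↑(FEt.puncturedSpec A) : Scheme.{u})) ∧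
      ∀ i : (divisorIdeal (FEt.puncturedSpec A) f).subscheme ⟶ (U : Scheme.{u}),
        i ≫ U.ι = (divisorIdeal (FEt.puncturedSpec A) f).subschemeι →
          Nonempty ((FEt.restrict i).obj R' ≅ R)

variable {A : Type u} [CommRing A] [IsLocalRing A] {f : A}

/-- The punctured spectrum of the hypersurface section, in the punctured spectrum. -/
abbrev hyperMap (A : Type u) [CommRing A] [IsLocalRing A] (f : A) :=
  pullback.fst (FEt.puncturedSpec A).ι (Spec.map (CommRingCat.ofHom (Ideal.Quotient.mk (Ideal.span {f}))))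

theorem exists_iso_hyper : ∃ a : pullback (FEt.puncturedSpec A).ι
      (Spec.map (CommRingCat.ofHom (Ideal.Quotient.mk (Ideal.span {f})))) ⟶
        (divisorIdeal (FEt.puncturedSpec A) f).subscheme,
      IsIso a ∧ a ≫ (divisorIdeal (FEt.puncturedSpec A) f).subschemeι = hyperMap A f := by
  haveI : IsClosedImmersion (Spec.map (CommRingCat.ofHom (Ideal.Quotient.mk (Ideal.span {f})))) :=
    IsClosedImmersion.spec_of_surjective _ Ideal.Quotient.mk_surjective
  haveI : IsClosedImmersion (hyperMap A f) := inferInstance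
  have hker : (hyperMap A f).ker = (divisorIdeal (FEt.puncturedSpec A) f).subschemeι.ker := by
    rw [Scheme.IdealSheafData.ker_subschemeι, Scheme.IdealSheafData.ker_fst_of_isClosedImmersion]
  let a := IsClosedImmersion.lift (divisorIdeal (FEt.puncturedSpec A) f).subschemeι (hyperMap A f) hker.ge
  let b := IsClosedImmersion.lift (hyperMap A f) (divisorIdeal (FEt.puncturedSpec A) f).subschemeι hker.le
  refine ⟨a, ⟨b, ?_, ?_⟩, IsClosedImmersion.lift_fac _ _ _⟩
  · rw [← cancel_mono (hyperMap A f), Category.assoc, IsClosedImmersion.lift_fac, IsClosedImmersion.lift_fac,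
      Category.id_comp]
  · rw [← cancel_mono (divisorIdeal (FEt.puncturedSpec A) f).subschemeι, Category.assoc, IsClosedImmersion.lift_fac,
      IsClosedImmersion.lift_fac, Category.id_comp]

/-- Extension to neighbourhoods, for the fibre product. -/
theorem exists_extension_hyper (h : ExtendsNearDiv A f)
    (V₀ : FEt.Cat (pullback (FEt.puncturedSpec A).ι
      (Spec.map (CommRingCat.ofHom (Ideal.Quotient.mk (Ideal.span {f})))))) :
    ∃ (U : (↑(FEt.puncturedSpec A) : Scheme.{u}).Opens) (R' : FEt.Cat (U : Scheme.{u}))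
      (u₀ : pullback (FEt.puncturedSpec A).ι
        (Spec.map (CommRingCat.ofHom (Ideal.Quotient.mk (Ideal.span {f})))) ⟶ (U : Scheme.{u})),
      u₀ ≫ U.ι = hyperMap A f ∧
      ((divisorIdeal (FEt.puncturedSpec A) f).support : Set (↑(FEt.puncturedSpec A) : Scheme.{u})) ⊆
        (U : Set (↑(FEt.puncturedSpec A) : Scheme.{u})) ∧
      Nonempty ((FEt.restrict u₀).obj R' ≅ V₀) := by
  obtain ⟨a, ha, hfac⟩ := exists_iso_hyper (A := A) (f := f)
  haveI := ha
  haveI := restrict_isEquivalence_of_isIso a
  obtain ⟨U, R', hU, hR'⟩ := h ((FEt.restrict a).objPreimage V₀)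
  let i := IsOpenImmersion.lift U.ι (divisorIdeal (FEt.puncturedSpec A) f).subschemeι (by
    rw [Scheme.IdealSheafData.range_subschemeι, U.range_ι]; exact hU)
  have hi : i ≫ U.ι = (divisorIdeal (FEt.puncturedSpec A) f).subschemeι := IsOpenImmersion.lift_fac _ _ _
  obtain ⟨η⟩ := hR' i hi
  exact ⟨U, R', a ≫ i, by rw [Category.assoc, hi, hfac], hU,
    ⟨(restrictComp a i _ rfl).app R' ≪≫ (FEt.restrict a).mapIso η ≪≫ (FEt.restrict a).objObjPreimageIso V₀⟩⟩

/-- The published form of the extension to neighbourhoods. -/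
theorem exists_nhd_hyper (h : ExtendsNearDiv A f)
    (V₀ : FEt.Cat (pullback (FEt.puncturedSpec A).ι
      (Spec.map (CommRingCat.ofHom (Ideal.Quotient.mk (Ideal.span {f})))))) :
    ∃ (U' : (Spec (CommRingCat.of A)).Opens) (_ : U' ≤ FEt.puncturedSpec A)
      (u' : pullback (FEt.puncturedSpec A).ι
        (Spec.map (CommRingCat.ofHom (Ideal.Quotient.mk (Ideal.span {f})))) ⟶ (U' : Scheme.{u}))
      (_ : u' ≫ U'.ι = hyperMap A f ≫ (FEt.puncturedSpec A).ι) (V' : FEt.Cat (U' : Scheme.{u})),
        Nonempty ((FEt.restrict u').obj V' ≅ V₀) := by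
  obtain ⟨U, R', u₀, hu₀, -, ⟨η⟩⟩ := exists_extension_hyper h V₀
  let P := FEt.puncturedSpec A
  let e := P.ι.isoImage U
  haveI := restrict_isEquivalence_of_isIso e.hom
  refine ⟨P.ι ''ᵁ U, P.ι_image_le U, u₀ ≫ e.hom, ?_, (FEt.restrict e.hom).objPreimage R', ⟨?_⟩⟩
  · rw [Category.assoc, Scheme.Hom.isoImage_hom_ι, ← Category.assoc, hu₀]
  · exact (restrictComp u₀ e.hom _ rfl).app _ ≪≫ (FEt.restrict u₀).mapIso
      ((FEt.restrict e.hom).objObjPreimageIso R') ≪≫ η

/-- Under purity off the hypersurface, covers extend to the punctured spectrum. -/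
theorem essSurj_hyper [IsNoetherianRing A] (hf : f ∈ IsLocalRing.maximalIdeal A) (h : ExtendsNearDiv A f)
    (hp : ∀ P : Ideal (Localization.Away f), ∀ _ : P.IsMaximal, FEt.PurityHolds (Localization.AtPrime P)) :
    (FEt.restrict (hyperMap A f)).EssSurj := by
  refine ⟨fun V₀ => ?_⟩
  obtain ⟨U, R', u₀, hu₀, hU, ⟨η⟩⟩ := exists_extension_hyper h V₀
  let P := FEt.puncturedSpec A
  haveI : NoetherianSpace (Spec (CommRingCat.of A)) := inferInstanceAs (NoetherianSpace (PrimeSpectrum A))
  haveI : IsNoetherian (P : Scheme.{u}) := by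
    haveI : CompactSpace (P : Scheme.{u}) := by
      haveI : NoetherianSpace (P : Scheme.{u}) := P.ι.isOpenEmbedding.isInducing.noetherianSpace
      infer_instance
    exact ⟨⟩
  haveI : (FEt.restrict U.ι).EssSurj := PureExtend.essSurj_restrict U fun x hx => by
    obtain ⟨e⟩ := nonempty_stalk_equiv P x
    refine purityHolds_congr e (purityHolds_away hp _
      (fun hfx => hx (hU (mem_support_divisorIdeal P f x hfx))) fun q' hq' hle hfq' => ?_)
    rcases eq_or_eq_of_meet _ ⟨q', hq'⟩ hle f hf (fun r' hr' hfr' => not_not.1 fun hne =>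
      hx (((Topology.IsInducing.subtypeVal.specializes_iff).1
        ((PrimeSpectrum.le_iff_specializes _ _).1 hr')).mem_open U.isOpen
        (hU (mem_support_divisorIdeal P f (⟨r', hne⟩ : (P : Scheme.{u})) hfr')))) with e | e
    · exact congrArg PrimeSpectrum.asIdeal e
    · exact absurd (by rw [show q' = IsLocalRing.maximalIdeal A from congrArg PrimeSpectrum.asIdeal e]; exact hf) hfq'
  exact ⟨(FEt.restrict U.ι).objPreimage R', ⟨(restrictComp u₀ U.ι _ hu₀).app _ ≪≫
    (FEt.restrict u₀).mapIso ((FEt.restrict U.ι).objObjPreimageIso R') ≪≫ η⟩⟩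

theorem extendsNearDiv_of_finite [IsNoetherianRing A] [IsAdicComplete (Ideal.span {f}) A]
    (hnz : f ∈ nonZeroDivisors A)
    (h1 : Module.Finite A (LocCoh.H (IsLocalRing.maximalIdeal A) 1 (A ⧸ Ideal.span {f})))
    (h2 : Module.Finite A (LocCoh.H (IsLocalRing.maximalIdeal A) 2 (A ⧸ Ideal.span {f}))) :
    ExtendsNearDiv A f :=
  fun R => exists_extension_of_finite hnz (puncturedSpec_eq A) h1 h2 R

end Groth.Agent.LefEssSurj
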