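import Groth.Agent.LefEssSurj.PurStep
import Groth.Agent.LefEssSurj.AlgFiniteNhd
import Groth.Agent.PurePair.Open
import Groth.Agent.PureExtend.Main
import Groth.Agent.FormAlg.CIPic

/-!
Passage of purity to a quotient by an element along which covers extend to neighbourhoods; purity of the
localisations of `A_f` at maximal ideals.
-/

universe u

open CategoryTheory CategoryTheory.Limits AlgebraicGeometry TopologicalSpace Opposite
open Groth.Agent.FormAlg

set_option autoImplicit false
set_option maxHeartbeats 1000000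
set_option backward.isDefEq.respectTransparency false
set_option backward.isDefEq.respectTransparency.types false
set_option linter.style.haveILetI false

noncomputable section

namespace Groth.Agent.LefEssSurj

/-- Purity passes to the quotient by an element along which covers extend to neighbourhoods. -/
theorem purityHolds_quotient_of_ext {A : Type u} [CommRing A] [IsNoetherianRing A] [IsLocalRing A] {f : A}
    (hf : f ∈ IsLocalRing.maximalIdeal A) [IsLocalRing (A ⧸ Ideal.span {f})]
    (hL : ∀ R : FEt.Cat (divisorIdeal (FEt.puncturedSpec A) f).subscheme,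
      ∃ (U : (↑(FEt.puncturedSpec A) : Scheme.{u}).Opens) (R' : FEt.Cat (U : Scheme.{u})),
        ((divisorIdeal (FEt.puncturedSpec A) f).support : Set (↑(FEt.puncturedSpec A) : Scheme.{u})) ⊆
          (U : Set (↑(FEt.puncturedSpec A) : Scheme.{u})) ∧
        ∀ i : (divisorIdeal (FEt.puncturedSpec A) f).subscheme ⟶ (U : Scheme.{u}),
          i ≫ U.ι = (divisorIdeal (FEt.puncturedSpec A) f).subschemeι →
            Nonempty ((FEt.restrict i).obj R' ≅ R))
    (hp : ∀ (q : Ideal A) [q.IsPrime], f ∉ q → (∀ q' : Ideal A, q'.IsPrime → q ≤ q' → f ∉ q' → q' = q) →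
      ringKrullDim (A ⧸ q) = 1 → FEt.PurityHolds (Localization.AtPrime q))
    (hA : FEt.PurityHolds A) : FEt.PurityHolds (A ⧸ Ideal.span {f}) := by
  let P := FEt.puncturedSpec A
  let Q := FEt.puncturedSpec (A ⧸ Ideal.span {f})
  let S : Spec (CommRingCat.of (A ⧸ Ideal.span {f})) ⟶ Spec (CommRingCat.of A) :=
    Spec.map (CommRingCat.ofHom (Ideal.Quotient.mk (Ideal.span {f})))
  haveI : IsClosedImmersion S := IsClosedImmersion.spec_of_surjective _ Ideal.Quotient.mk_surjective
  let g := S ∣_ P
  haveI : IsClosedImmersion g :=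
    MorphismProperty.of_isPullback (P := @IsClosedImmersion) (isPullback_morphismRestrict S P).flip inferInstance
  let 𝓓 := divisorIdeal P f
  have hker : g.ker = 𝓓.subschemeι.ker := by
    rw [Scheme.IdealSheafData.ker_subschemeι]
    refine Scheme.IdealSheafData.ext (funext fun V => ?_)
    rw [divisorIdeal_ideal, Scheme.Hom.ker_apply,
      W7Alg.ker_app_baseChange (Ideal.Quotient.mk (Ideal.span {f})) Ideal.Quotient.mk_surjective
        (isPullback_morphismRestrict S P) V, Ideal.mk_ker, Ideal.map_span, Set.image_singleton]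
  let ν := IsClosedImmersion.lift g 𝓓.subschemeι hker.le
  let θ := IsClosedImmersion.lift 𝓓.subschemeι g hker.ge
  have hν : ν ≫ g = 𝓓.subschemeι := IsClosedImmersion.lift_fac _ _ _
  haveI : IsIso ν := ⟨θ, by
    rw [← cancel_mono 𝓓.subschemeι, Category.assoc, IsClosedImmersion.lift_fac, hν, Category.id_comp], by
    rw [← cancel_mono g, Category.assoc, hν, IsClosedImmersion.lift_fac, Category.id_comp]⟩
  haveI : IsLocalHom (Ideal.Quotient.mk (Ideal.span {f})) := IsLocalHom.of_surjective _ Ideal.Quotient.mk_surjective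
  have hpre : S ⁻¹ᵁ P = Q := preimage_punctured _ (by
    rw [IsLocalRing.map_maximalIdeal_of_surjective _ Ideal.Quotient.mk_surjective]; exact Ideal.le_radical)
  let r : 𝓓.subscheme ⟶ (Q : Scheme.{u}) := ν ≫ (Scheme.isoOfEq _ hpre).hom
  haveI := restrict_isEquivalence_of_isIso r
  haveI : NoetherianSpace (Spec (CommRingCat.of A)) := inferInstanceAs (NoetherianSpace (PrimeSpectrum A))
  haveI : IsNoetherian (P : Scheme.{u}) := by
    haveI : CompactSpace (P : Scheme.{u}) := by
      haveI : NoetherianSpace (P : Scheme.{u}) := P.ι.isOpenEmbedding.isInducing.noetherianSpace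
      infer_instance
    exact ⟨⟩
  refine ⟨fun E => ?_⟩
  obtain ⟨U, R', hU, hR'⟩ := hL ((FEt.restrict r).obj E)
  haveI : (FEt.restrict U.ι).EssSurj := PureExtend.essSurj_restrict U fun x hx => by
    obtain ⟨e⟩ := nonempty_stalk_equiv P x
    refine purityHolds_congr e (hp _ (fun hfx => hx (hU (mem_support_divisorIdeal P f x hfx))) ?_ ?_)
    · intro q' hq' hle hfq'
      rcases eq_or_eq_of_meet _ ⟨q', hq'⟩ hle f hf (fun r' hr' hfr' => not_not.1 fun hne =>
        hx (((Topology.IsInducing.subtypeVal.specializes_iff).1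
          ((PrimeSpectrum.le_iff_specializes _ _).1 hr')).mem_open U.isOpen
          (hU (mem_support_divisorIdeal P f (⟨r', hne⟩ : (P : Scheme.{u})) hfr')))) with e | e
      · exact congrArg PrimeSpectrum.asIdeal e
      · exact absurd (by rw [show q' = IsLocalRing.maximalIdeal A from congrArg PrimeSpectrum.asIdeal e]; exact hf) hfq'
    · refine ringKrullDim_quotient_eq_one _ x.2 fun q hq => eq_or_eq_of_meet _ _ hq f hf fun r' hr' hfr' =>
        not_not.1 fun hne => hx (((Topology.IsInducing.subtypeVal.specializes_iff).1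
          ((PrimeSpectrum.le_iff_specializes _ _).1 hr')).mem_open U.isOpen
          (hU (mem_support_divisorIdeal P f (⟨r', hne⟩ : (P : Scheme.{u})) hfr')))
  haveI : (FEt.restrict P.ι).EssSurj := hA
  let T := (FEt.restrict U.ι).objPreimage R'
  let F := (FEt.restrict P.ι).objPreimage T
  have hrange : Set.range 𝓓.subschemeι ⊆ Set.range U.ι := by
    rw [Scheme.IdealSheafData.range_subschemeι, U.range_ι]
    exact hU
  let i := IsOpenImmersion.lift U.ι 𝓓.subschemeι hrange
  have hi : i ≫ U.ι = 𝓓.subschemeι := IsOpenImmersion.lift_fac _ _ _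
  obtain ⟨η⟩ := hR' i hi
  have hw : (r ≫ Q.ι) ≫ S = 𝓓.subschemeι ≫ P.ι := by
    rw [← hν]
    simp only [r, g, Category.assoc, morphismRestrict_ι, Scheme.isoOfEq_hom_ι_assoc]
  refine ⟨(FEt.restrict S).obj F, ⟨(FEt.restrict r).preimageIso ?_⟩⟩
  exact ((restrictComp r Q.ι _ rfl).app _).symm ≪≫ ((restrictComp (r ≫ Q.ι) S _ rfl).app F).symm ≪≫
    (restrictComp 𝓓.subschemeι P.ι _ hw.symm).app F ≪≫
    (FEt.restrict 𝓓.subschemeι).mapIso ((FEt.restrict P.ι).objObjPreimageIso T) ≪≫
    (restrictComp i U.ι _ hi).app T ≪≫ (FEt.restrict i).mapIso ((FEt.restrict U.ι).objObjPreimageIso R') ≪≫ η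

theorem purityHolds_away {A : Type u} [CommRing A] {f : A}
    (hp : ∀ P : Ideal (Localization.Away f), ∀ _ : P.IsMaximal, FEt.PurityHolds (Localization.AtPrime P))
    (q : Ideal A) [hq : q.IsPrime] (hfq : f ∉ q)
    (hmax : ∀ q' : Ideal A, q'.IsPrime → q ≤ q' → f ∉ q' → q' = q) :
    FEt.PurityHolds (Localization.AtPrime q) := by
  have hdisj : Disjoint (Submonoid.powers f : Set A) (q : Set A) :=
    Set.disjoint_left.2 fun x ⟨n, hn⟩ hx => hfq (hq.mem_of_pow_mem n (by subst hn; exact hx))
  let P := q.map (algebraMap A (Localization.Away f))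
  haveI hPp : P.IsPrime := IsLocalization.isPrime_of_isPrime_disjoint (Submonoid.powers f) _ q hq hdisj
  have hcomap : P.comap (algebraMap A (Localization.Away f)) = q :=
    IsLocalization.under_map_of_isPrime_disjoint (Submonoid.powers f) _ hq hdisj
  haveI hPm : P.IsMaximal := by
    obtain ⟨M, hM, hle⟩ := P.exists_le_maximal hPp.ne_top
    have h1 : M.comap (algebraMap A (Localization.Away f)) = q :=
      hmax _ (hM.isPrime.comap _) (hcomap ▸ Ideal.comap_mono hle) fun hfM => hM.ne_top
        (Ideal.eq_top_of_isUnit_mem _ hfM (IsLocalization.Away.algebraMap_isUnit f))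
    have : M = P := by
      rw [← IsLocalization.map_under (Submonoid.powers f) (Localization.Away f) M, ← IsLocalization.map_under
        (Submonoid.powers f) (Localization.Away f) P]
      exact congrArg (Ideal.map _) (h1.trans hcomap.symm)
    exact this ▸ hM
  haveI : IsLocalization.AtPrime (Localization.AtPrime P) q := by
    have h := IsLocalization.isLocalization_isLocalization_atPrime_isLocalization (Submonoid.powers f)
      (Localization.AtPrime P) P
    simp only [hcomap] at h
    exact h
  exact purityHolds_congr (IsLocalization.algEquiv q.primeCompl (Localization.AtPrime q)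
    (Localization.AtPrime P)).toRingEquiv (hp P hPm)

end Groth.Agent.LefEssSurj
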