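import Groth.Agent.LefEssSurj.CI
import Groth.Agent.PureExtend.LocNoeth
import Groth.Agent.S2947

/-!
Restriction of finite étale covers to `V(𝓘)` under the effective Lefschetz condition and purity.
-/

universe u

open CategoryTheory CategoryTheory.Limits AlgebraicGeometry TopologicalSpace Opposite
open Groth.Agent.FormAlg IsLocalRing RingTheory.Sequence

set_option autoImplicit false
set_option maxHeartbeats 1000000
set_option backward.isDefEq.respectTransparency false
set_option backward.isDefEq.respectTransparency.types false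
set_option linter.style.haveILetI false

noncomputable section

namespace Groth.Agent.LefEssSurj

/-- Purity and depth at a good point. -/
theorem depth_purity_of_good (A : Type u) [CommRing A] [IsNoetherianRing A] [IsLocalRing A]
    (h : (IsRegularLocalRing A ∧ (2 : WithBot ℕ∞) ≤ ringKrullDim A) ∨
      (SGA2.IsAbsCompleteIntersection A ∧ (3 : WithBot ℕ∞) ≤ ringKrullDim A)) :
    (2 : ℕ∞) ≤ LocCoh.depth A A ∧ FEt.PurityHolds A := by
  rcases h with ⟨hr, hd⟩ | ⟨hc, hd⟩
  · haveI := hr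
    refine ⟨?_, S0247.result A hd⟩
    have h2 := (ci_facts (RingHom.id A) Function.surjective_id [] (IsRegular.nil A A) (by simpa using (RingHom.injective_iff_ker_eq_bot (RingHom.id A)).1 Function.injective_id)).2
    rw [h2] at hd
    exact WithBot.coe_le_coe.1 hd
  · refine ⟨?_, purityHolds_ci A (isCI_of_abs hc) hd⟩
    obtain ⟨B, _, _, rs, -, hreg, ⟨e⟩⟩ := hc
    have hker : RingHom.ker (e.symm.toRingHom.comp (Ideal.Quotient.mk (Ideal.span {r | r ∈ rs}))) = Ideal.ofList rs := by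
      rw [← RingHom.comap_ker, (RingHom.injective_iff_ker_eq_bot e.symm.toRingHom).1 e.symm.injective,
        ← RingHom.ker_eq_comap_bot, Ideal.mk_ker]
    exact le_trans (by norm_num) (three_le_depth _ (e.symm.surjective.comp Ideal.Quotient.mk_surjective) rs hreg hker hd)

/-- Under the effective Lefschetz condition and purity, restriction is an equivalence. -/
theorem isEquivalence_of_leff_pure {X : Scheme.{u}} [IsLocallyNoetherian X] (𝓘 : X.IdealSheafData)
    (h : LefX.LeffCond X 𝓘)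
    (hgood : ∀ U : X.Opens, (𝓘.support : Set X) ⊆ (U : Set X) → ∀ x : X, x ∉ U →
      (2 : ℕ∞) ≤ LocCoh.depth (X.presheaf.stalk x) (X.presheaf.stalk x) ∧ FEt.PurityHolds (X.presheaf.stalk x)) :
    (FEt.restrict 𝓘.subschemeι).IsEquivalence := by
  obtain ⟨hfull, hfaith⟩ := Groth.Agent.S2947.result X 𝓘 h.1 ⊤ (by simp)
  haveI := hfull; haveI := hfaith
  haveI : IsIso (⊤ : X.Opens).ι := (Scheme.topIso X).isIso_hom
  haveI := restrict_isEquivalence_of_isIso (⊤ : X.Opens).ι
  obtain ⟨i, hi⟩ : ∃ i : 𝓘.subscheme ⟶ ((⊤ : X.Opens) : Scheme.{u}), i ≫ (⊤ : X.Opens).ι = 𝓘.subschemeι :=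
    ⟨𝓘.subschemeι ≫ inv (⊤ : X.Opens).ι, by simp⟩
  obtain ⟨φ, hφ⟩ := exists_iso_comap (⊤ : X.Opens).ι 𝓘 i hi
  haveI := restrict_isEquivalence_of_isIso φ.hom
  let e : FEt.restrict 𝓘.subschemeι ≅ FEt.restrict (⊤ : X.Opens).ι ⋙
      (FEt.restrict (𝓘.comap (⊤ : X.Opens).ι).subschemeι ⋙ FEt.restrict φ.hom) :=
    restrictComp i _ _ hi ≪≫ Functor.isoWhiskerLeft _ (restrictComp φ.hom _ _ hφ)
  haveI : (FEt.restrict 𝓘.subschemeι).Full := Functor.Full.of_iso e.symm
  haveI : (FEt.restrict 𝓘.subschemeι).Faithful := Functor.Faithful.of_iso e.symm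
  haveI : (FEt.restrict 𝓘.subschemeι).EssSurj := ⟨fun R => by
    obtain ⟨U, R', hU, hR'⟩ := exists_extension 𝓘 h R
    haveI := PureExtend.essSurj_restrict_locallyNoetherian U (fun x hx => (hgood U hU x hx).1) fun V x hx =>
      purityHolds_congr (V.stalkIso x).commRingCatIsoToRingEquiv (hgood U hU x.1 hx).2
    obtain ⟨j, hj⟩ : ∃ j : 𝓘.subscheme ⟶ (U : Scheme.{u}), j ≫ U.ι = 𝓘.subschemeι :=
      ⟨IsOpenImmersion.lift U.ι _ (by rw [Scheme.IdealSheafData.range_subschemeι, U.range_ι]; exact hU),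
        IsOpenImmersion.lift_fac _ _ _⟩
    obtain ⟨η⟩ := hR' j hj
    exact ⟨(FEt.restrict U.ι).objPreimage R', ⟨(restrictComp j U.ι _ hj).app _ ≪≫
      (FEt.restrict j).mapIso ((FEt.restrict U.ι).objObjPreimageIso R') ≪≫ η⟩⟩⟩
  exact { }

end Groth.Agent.LefEssSurj
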