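import Groth.Agent.LefEssSurj.Extends
import Groth.Agent.LefEssSurj.Nhd

/-!
The quotient is a pure pair when Leff holds and the neighbourhoods are pure.
-/

universe u

open CategoryTheory CategoryTheory.Limits AlgebraicGeometry TopologicalSpace Opposite
open Groth.Agent.FormAlg

set_option autoImplicit false
set_option maxHeartbeats 1000000
set_option backward.isDefEq.respectTransparency false
set_option backward.isDefEq.respectTransparency.types false
set_option linter.style.haveILetI false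

noncomputable section

namespace Groth.Agent.LefEssSurj

theorem isEquivalence_ι_of_isPurePair {X : Scheme.{u}} {V : X.Opens} (h : SGA2.IsPurePair X V) :
    (FEt.restrict V.ι).IsEquivalence := by
  let T : X.Opens := ⊤
  haveI : IsIso T.ι := (Scheme.topIso X).isIso_hom
  haveI := h T
  exact isEquivalence_transfer V.ι (X.homOfLE (inf_le_left : T ⊓ V ≤ T))
    (Scheme.isoOfEq _ (top_inf_eq V)).hom T.ι (by simp [T, Scheme.homOfLE_ι])

theorem isPurePair_quotient (A : Type u) [CommRing A] [IsLocalRing A] [IsNoetherianRing A] (I : Ideal A)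
    [IsAdicComplete I A] [IsLocalRing (A ⧸ I)]
    (hleff : LefX.LeffCond (↑(FEt.puncturedSpec A) : Scheme.{u})
      ((Spec.map (CommRingCat.ofHom (Ideal.Quotient.mk I))).ker.comap (FEt.puncturedSpec A).ι))
    (hpure : ∀ V : (Spec (CommRingCat.of A)).Opens,
      ((Spec.map (CommRingCat.ofHom (Ideal.Quotient.mk I))).ker.support : Set ↥(Spec (CommRingCat.of A))) ∩
        (FEt.puncturedSpec A : Set ↥(Spec (CommRingCat.of A))) ⊆ (V : Set ↥(Spec (CommRingCat.of A))) →
      SGA2.IsPurePair (Spec (CommRingCat.of A)) V) :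
    SGA2.IsPurePair (Spec (CommRingCat.of (A ⧸ I))) (FEt.puncturedSpec (A ⧸ I)) := by
  let P := FEt.puncturedSpec A
  let Q := FEt.puncturedSpec (A ⧸ I)
  let S := Spec.map (CommRingCat.ofHom (Ideal.Quotient.mk I))
  haveI := Groth.Agent.S0239.result A I
  haveI := isEquivalence_ι_of_isPurePair (hpure P Set.inter_subset_right)
  obtain ⟨h1, h2⟩ := full_faithful_punctMap I hleff.1
  haveI := h1; haveI := h2
  let e : FEt.restrict P.ι ⋙ FEt.restrict (punctMap I) ≅ FEt.restrict S ⋙ FEt.restrict Q.ι :=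
    (restrictComp (punctMap I) P.ι _ rfl).symm ≪≫ restrictComp Q.ι S _ (punctMap_ι I).symm
  let e' : FEt.restrict Q.ι ≅ (FEt.restrict S).inv ⋙ FEt.restrict P.ι ⋙ FEt.restrict (punctMap I) :=
    (Functor.leftUnitor _).symm ≪≫ Functor.isoWhiskerRight (FEt.restrict S).asEquivalence.counitIso.symm _ ≪≫
      Functor.associator _ _ _ ≪≫ Functor.isoWhiskerLeft _ e.symm
  haveI : (FEt.restrict Q.ι).Full := Functor.Full.of_iso e'.symm
  haveI : (FEt.restrict Q.ι).Faithful := Functor.Faithful.of_iso e'.symm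
  refine isPurePair_punctured_iff.2 ?_
  haveI : (FEt.restrict Q.ι).EssSurj := ⟨fun E => by
    haveI : IsLocallyNoetherian (P : Scheme.{u}) := inferInstance
    haveI : IsIso (punctMap I).toImage := inferInstance
    haveI := restrict_isEquivalence_of_isIso (punctMap I).toImage
    obtain ⟨U, R', hU, hR'⟩ := exists_extension _ (ker_punctMap I ▸ hleff :
      LefX.LeffCond (↑(FEt.puncturedSpec A) : Scheme.{u}) (punctMap I).ker)
      ((FEt.restrict (punctMap I).toImage).objPreimage E)
    have hsupp : (S.ker.support : Set ↥(Spec (CommRingCat.of A))) ∩ (P : Set ↥(Spec (CommRingCat.of A))) ⊆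
        (P.ι ''ᵁ U : Set ↥(Spec (CommRingCat.of A))) := by
      rintro x ⟨hx, hxP⟩
      refine ⟨⟨x, hxP⟩, hU ?_, rfl⟩
      rw [ker_punctMap, Scheme.IdealSheafData.support_comap]
      exact hx
    haveI := isEquivalence_ι_of_isPurePair (hpure _ hsupp)
    haveI := restrict_isEquivalence_of_isIso (P.ι.isoImage U).hom
    let G₁ := (FEt.restrict (P.ι.isoImage U).hom).objPreimage R'
    let G := (FEt.restrict (P.ι ''ᵁ U).ι).objPreimage G₁
    obtain ⟨i, hi⟩ : ∃ i : (punctMap I).ker.subscheme ⟶ (U : Scheme.{u}), i ≫ U.ι = (punctMap I).ker.subschemeι :=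
      ⟨IsOpenImmersion.lift U.ι _ (by rw [Scheme.IdealSheafData.range_subschemeι, U.range_ι]; exact hU),
        IsOpenImmersion.lift_fac _ _ _⟩
    obtain ⟨η⟩ := hR' i hi
    let k : (Q : Scheme.{u}) ⟶ U := (punctMap I).toImage ≫ i
    have hk : k ≫ (P.ι.isoImage U).hom ≫ (P.ι ''ᵁ U).ι = Q.ι ≫ S := by
      rw [Scheme.Hom.isoImage_hom_ι, Category.assoc, reassoc_of% hi, ← punctMap_ι]
      exact (Category.assoc _ _ _).symm.trans (congrArg (· ≫ P.ι) (punctMap I).toImage_imageι)
    exact ⟨(FEt.restrict S).obj G, ⟨((restrictComp Q.ι S _ rfl).app G).symm ≪≫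
      (restrictComp k ((P.ι.isoImage U).hom ≫ (P.ι ''ᵁ U).ι) _ hk).app G ≪≫
      (FEt.restrict k).mapIso ((restrictComp _ _ _ rfl).app G ≪≫
        (FEt.restrict (P.ι.isoImage U).hom).mapIso ((FEt.restrict (P.ι ''ᵁ U).ι).objObjPreimageIso G₁) ≪≫
        (FEt.restrict (P.ι.isoImage U).hom).objObjPreimageIso R') ≪≫
      (restrictComp (punctMap I).toImage i k rfl).app R' ≪≫ (FEt.restrict (punctMap I).toImage).mapIso η ≪≫
      (FEt.restrict (punctMap I).toImage).objObjPreimageIso E⟩⟩⟩
  exact { }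

end Groth.Agent.LefEssSurj
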