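import Groth.Agent.LefEssSurj.HomLift
import Groth.Agent.LefEssSurj.Algebra
import Groth.Agent.LefFEt.Main

/-!
The algebra structure on a module whose reductions are the direct images of a system of affine schemes.
-/

universe u

open CategoryTheory CategoryTheory.Limits AlgebraicGeometry TopologicalSpace Opposite

set_option autoImplicit false
set_option backward.isDefEq.respectTransparency false
set_option backward.isDefEq.respectTransparency.types false
set_option linter.style.haveILetI false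

noncomputable section

namespace Groth.Agent.LefEssSurj

open Groth.Agent.QC Groth.Agent.LefFEt

variable {X : Scheme.{u}} {T T' : Scheme.{u}}

lemma preimage_le_of_comp {q : T ⟶ X} {q' : T' ⟶ X} (a : T ⟶ T') (w : a ≫ q' = q) (W : X.Opens) :
    q ⁻¹ᵁ W ≤ a ⁻¹ᵁ (q' ⁻¹ᵁ W) := by
  rw [← Scheme.Hom.comp_preimage, w]

/-- The map of direct images induced by a morphism over the base, on sections. -/
def algApp {q : T ⟶ X} {q' : T' ⟶ X} (a : T ⟶ T') (w : a ≫ q' = q) (W : X.Opens) :
    Γ(T', q' ⁻¹ᵁ W) →+* Γ(T, q ⁻¹ᵁ W) :=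
  (a.appLE (q' ⁻¹ᵁ W) (q ⁻¹ᵁ W) (preimage_le_of_comp a w W)).hom

lemma algApp_app {q : T ⟶ X} {q' : T' ⟶ X} (a : T ⟶ T') (w : a ≫ q' = q) (W : X.Opens) (r : Γ(X, W)) :
    algApp a w W (q'.app W r) = q.app W r := by
  subst w
  rw [algApp, ← ConcreteCategory.comp_apply, Scheme.Hom.app_eq_appLE, Scheme.Hom.appLE_comp_appLE,
    Scheme.Hom.app_eq_appLE]

/-- The map of direct images induced by a morphism over the base. -/
def algMap {q : T ⟶ X} {q' : T' ⟶ X} (a : T ⟶ T') (w : a ≫ q' = q) : alg q' ⟶ alg q :=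
  ⟨PresheafOfModules.homMk
    { app := fun W => AddCommGrpCat.ofHom (algApp a w W.unop).toAddMonoidHom
      naturality := fun W W' h => by
        ext (z : Γ(T', q' ⁻¹ᵁ W.unop))
        exact (congrArg (fun g => CommRingCat.Hom.hom g z) (Scheme.Hom.map_appLE (f := a)
          (preimage_le_of_comp a w W'.unop) ((Opens.map q'.base).map h.unop).op)).trans
          (congrArg (fun g => CommRingCat.Hom.hom g z) (Scheme.Hom.appLE_map (f := a)
            (preimage_le_of_comp a w W.unop) ((Opens.map q.base).map h.unop).op)).symm }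
    fun W r z => by
      change algApp a w W.unop (q'.app W.unop r * (show Γ(T', q' ⁻¹ᵁ W.unop) from z)) =
        q.app W.unop r * algApp a w W.unop z
      rw [map_mul, algApp_app]⟩

lemma algMap_app {q : T ⟶ X} {q' : T' ⟶ X} (a : T ⟶ T') (w : a ≫ q' = q) (W : X.Opens)
    (z : Γ(T', q' ⁻¹ᵁ W)) : (algMap a w).app W (show Γ(alg q', W) from z) = algApp a w W z := rfl

/-- The product of sections of a direct image of functions. -/
def mulA (q : T ⟶ X) {W : X.Opens} (a b : Γ(alg q, W)) : Γ(alg q, W) :=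
  (show Γ(alg q, W) from (show Γ(T, q ⁻¹ᵁ W) from a) * (show Γ(T, q ⁻¹ᵁ W) from b))

lemma smul_mulA (q : T ⟶ X) {W : X.Opens} (r : Γ(X, W)) (a b : Γ(alg q, W)) :
    mulA q (r • a) b = r • mulA q a b :=
  mul_assoc (show Γ(T, q ⁻¹ᵁ W) from q.app W r) _ _

lemma mulA_smul (q : T ⟶ X) {W : X.Opens} (r : Γ(X, W)) (a b : Γ(alg q, W)) :
    mulA q a (r • b) = r • mulA q a b :=
  mul_left_comm _ (show Γ(T, q ⁻¹ᵁ W) from q.app W r) _

lemma res_mulA (q : T ⟶ X) {V W : X.Opens} (h : V ≤ W) (a b : Γ(alg q, W)) :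
    res (alg q) h (mulA q a b) = mulA q (res (alg q) h a) (res (alg q) h b) :=
  map_mul (T.presheaf.map (homOfLE (q.preimage_mono h)).op).hom _ _

lemma algMap_mulA {q : T ⟶ X} {q' : T' ⟶ X} (a : T ⟶ T') (w : a ≫ q' = q) {W : X.Opens}
    (y z : Γ(alg q', W)) :
    (algMap a w).app W (mulA q' y z) = mulA q ((algMap a w).app W y) ((algMap a w).app W z) :=
  map_mul (algApp a w W) _ _

lemma add_mulA (q : T ⟶ X) {W : X.Opens} (a b c : Γ(alg q, W)) :
    mulA q (a + b) c = mulA q a c + mulA q b c :=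
  add_mul (show Γ(T, q ⁻¹ᵁ W) from a) b c

lemma mulA_add (q : T ⟶ X) {W : X.Opens} (a b c : Γ(alg q, W)) :
    mulA q a (b + c) = mulA q a b + mulA q a c :=
  mul_add (show Γ(T, q ⁻¹ᵁ W) from a) b c

lemma mulA_comm (q : T ⟶ X) {W : X.Opens} (a b : Γ(alg q, W)) : mulA q a b = mulA q b a :=
  mul_comm (show Γ(T, q ⁻¹ᵁ W) from a) b

lemma mulA_assoc (q : T ⟶ X) {W : X.Opens} (a b c : Γ(alg q, W)) :
    mulA q (mulA q a b) c = mulA q a (mulA q b c) :=
  mul_assoc (show Γ(T, q ⁻¹ᵁ W) from a) b c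

/-- The unit of the direct image of functions. -/
abbrev unitA (q : T ⟶ X) (W : X.Opens) : Γ(alg q, W) := (show Γ(alg q, W) from (1 : Γ(T, q ⁻¹ᵁ W)))

lemma unitA_mulA (q : T ⟶ X) {W : X.Opens} (a : Γ(alg q, W)) : mulA q (unitA q W) a = a :=
  _root_.one_mul (show Γ(T, q ⁻¹ᵁ W) from a)

lemma res_unitA (q : T ⟶ X) {V W : X.Opens} (h : V ≤ W) : res (alg q) h (unitA q W) = unitA q V :=
  map_one (T.presheaf.map (homOfLE (q.preimage_mono h)).op).hom

/-- A system of schemes affine over the base whose direct images are the reductions of a module. -/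
structure AlgSys (J : X.IdealSheafData) (E : X.Modules) where
  /-- The schemes. -/
  T : ℕ → Scheme.{u}
  /-- Their structure maps. -/
  q : ∀ n, T n ⟶ X
  /-- The transition maps. -/
  i : ∀ n, T n ⟶ T (n + 1)
  w : ∀ n, i n ≫ q (n + 1) = q n
  /-- The reduction maps. -/
  θ : ∀ n, E ⟶ alg (q n)
  comp : ∀ n, θ (n + 1) ≫ algMap (i n) (w n) = θ n
  surj : ∀ n (U : X.affineOpens), Function.Surjective ((θ n).app U.1)
  ker : ∀ n (U : X.affineOpens) (a : Γ(E, U.1)), (θ n).app U.1 a = 0 ↔ Cong (J ^ (n + 1)) U a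

namespace AlgSys

variable {J : X.IdealSheafData} {E : X.Modules} (S : AlgSys J E)

/-- The system of quotients. -/
abbrev formal : Formal J E fun n => alg (S.q n) :=
  ⟨S.θ, fun n => algMap (S.i n) (S.w n), S.comp, S.surj, S.ker⟩

/-- The products of reductions. -/
def mulBil (n : ℕ) (U : X.Opens) : Γ(E, U) →ₗ[Γ(X, U)] Γ(E, U) →ₗ[Γ(X, U)] Γ(alg (S.q n), U) :=
  LinearMap.mk₂ _ (fun a b => mulA (S.q n) ((S.θ n).app U a) ((S.θ n).app U b))
    (fun a a' b => by rw [map_add]; exact add_mulA _ _ _ _)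
    (fun r a b => by rw [TMul.app_smul]; exact smul_mulA _ r _ _)
    (fun a b b' => by rw [map_add]; exact mulA_add _ _ _ _)
    (fun r a b => by rw [TMul.app_smul]; exact mulA_smul _ r _ _)

lemma res_mulBil (n : ℕ) {V U : X.Opens} (h : V ≤ U) (a b : Γ(E, U)) :
    res (alg (S.q n)) h (S.mulBil n U a b) = S.mulBil n V (res E h a) (res E h b) := by
  simp only [mulBil, LinearMap.mk₂_apply]
  rw [res_mulA, app_res, app_res]

/-- The product map on reductions. -/
def ψ (n : ℕ) : CohB1.tensorMod E E ⟶ alg (S.q n) := TMul.lift (S.mulBil n) (S.res_mulBil n)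

lemma ψ_tm (n : ℕ) {U : X.Opens} (a b : Γ(E, U)) :
    (S.ψ n).app U (TMul.tm a b) = mulA (S.q n) ((S.θ n).app U a) ((S.θ n).app U b) :=
  TMul.lift_tm (S.mulBil n) (S.res_mulBil n) a b

lemma θ_step (n : ℕ) {U : X.Opens} (a : Γ(E, U)) :
    (algMap (S.i n) (S.w n)).app U ((S.θ (n + 1)).app U a) = (S.θ n).app U a :=
  congrArg (fun g : E ⟶ alg (S.q n) => g.app U a) (S.comp n)

lemma ψ_step (n : ℕ) : S.ψ (n + 1) ≫ algMap (S.i n) (S.w n) = S.ψ n := TMul.hom_ext fun U a b => by
  change (algMap (S.i n) (S.w n)).app U ((S.ψ (n + 1)).app U (TMul.tm a b)) = _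
  rw [ψ_tm, ψ_tm, algMap_mulA, θ_step, θ_step]

/-- The unit map on reductions. -/
def unitMap (n : ℕ) : Coh.structureModule X ⟶ alg (S.q n) := ClSub.unitToPush (S.q n)

lemma unitMap_app (n : ℕ) (U : X.Opens) (r : Γ(X, U)) :
    (S.unitMap n).app U (show Γ(Coh.structureModule X, U) from r) = (show Γ(alg (S.q n), U) from (S.q n).app U r) :=
  rfl

lemma unitMap_step (n : ℕ) : S.unitMap (n + 1) ≫ algMap (S.i n) (S.w n) = S.unitMap n :=
  KosExt.hom_ext_affine fun U r => algApp_app (S.i n) (S.w n) U.1 r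

variable (hX : ∀ G : X.Modules, FlatMod.IsFinLocFree G → Lef.HomToFormalBijective J G)
  (hE : FlatMod.IsFinLocFree E)

include hX hE in
/-- The algebra structure lifting those of the reductions. -/
theorem exists_algData : ∃ A : AlgData E,
    (∀ (n : ℕ) (U : X.Opens) (a b : Γ(E, U)),
      (S.θ n).app U (A.μ.app U (TMul.tm a b)) = mulA (S.q n) ((S.θ n).app U a) ((S.θ n).app U b)) ∧
    ∀ (n : ℕ) (U : X.Opens), (S.θ n).app U (res E le_top A.one) = unitA (S.q n) U := by
  have hEE := ResDesc.isFinLocFree_tensorMod hE hE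
  obtain ⟨μ, hμ⟩ := exists_hom_formal S.formal hX hE hEE S.ψ S.ψ_step
  obtain ⟨e, he⟩ := exists_hom_formal S.formal hX hE (ResDesc.isFinLocFree_structureModule X)
    S.unitMap S.unitMap_step
  have hm : ∀ (n : ℕ) (U : X.Opens) (a b : Γ(E, U)),
      (S.θ n).app U (μ.app U (TMul.tm a b)) = mulA (S.q n) ((S.θ n).app U a) ((S.θ n).app U b) :=
    fun n U a b => (congrArg (fun g : CohB1.tensorMod E E ⟶ alg (S.q n) => g.app U (TMul.tm a b)) (hμ n)).trans
      (S.ψ_tm n a b)
  let one : Γ(E, (⊤ : X.Opens)) := e.app ⊤ (show Γ(Coh.structureModule X, ⊤) from (1 : Γ(X, ⊤)))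
  have hone : ∀ (n : ℕ) (U : X.Opens), (S.θ n).app U (res E le_top one) = unitA (S.q n) U := by
    intro n U
    rw [← app_res]
    refine (congrArg _ ((congrArg (fun g : Coh.structureModule X ⟶ alg (S.q n) => g.app ⊤
      (show Γ(Coh.structureModule X, ⊤) from (1 : Γ(X, ⊤)))) (he n)).trans
      ((S.unitMap_app n ⊤ 1).trans (map_one ((S.q n).app ⊤).hom)))).trans ?_
    exact res_unitA (S.q n) le_top
  have ext : ∀ {D : X.Modules}, FlatMod.IsFinLocFree D → ∀ φ φ' : D ⟶ E,
      (∀ n, φ ≫ S.θ n = φ' ≫ S.θ n) → φ = φ' := fun {D} hD φ φ' h =>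
    hom_ext_formal S.formal hX hE hD φ φ' h
  refine ⟨{ μ := μ, one := one, comm := ?_, assoc := ?_, one_mul := ?_ }, hm, hone⟩
  · intro U a b
    have h := ext hEE (TMul.commHom E E ≫ μ) μ fun n => TMul.hom_ext fun V c d => by
      change (S.θ n).app V (μ.app V ((TMul.commHom E E).app V (TMul.tm c d))) = (S.θ n).app V (μ.app V (TMul.tm c d))
      rw [TMul.commHom_tm, hm, hm]
      exact mulA_comm _ _ _
    have h' := congrArg (fun g : CohB1.tensorMod E E ⟶ E => g.app U (TMul.tm b a)) h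
    rw [← h']
    change μ.app U (TMul.tm a b) = μ.app U ((TMul.commHom E E).app U (TMul.tm b a))
    rw [TMul.commHom_tm]
  · intro U a b c
    let b1 : ∀ U : X.Opens, Γ(CohB1.tensorMod E E, U) →ₗ[Γ(X, U)] Γ(E, U) →ₗ[Γ(X, U)] Γ(E, U) := fun U =>
      LinearMap.mk₂ _ (fun d c => μ.app U (TMul.tm (μ.app U d) c))
        (fun d d' c => by rw [map_add, TMul.tm_add, map_add])
        (fun r d c => by rw [TMul.app_smul, TMul.smul_tm, TMul.app_smul])
        (fun d c c' => by rw [TMul.add_tm, map_add])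
        (fun r d c => by rw [TMul.tm_smul, TMul.app_smul])
    let b2 : ∀ U : X.Opens, Γ(E, U) →ₗ[Γ(X, U)] Γ(CohB1.tensorMod E E, U) →ₗ[Γ(X, U)] Γ(E, U) := fun U =>
      LinearMap.mk₂ _ (fun c d => μ.app U (TMul.tm c (μ.app U d)))
        (fun c c' d => by rw [TMul.tm_add, map_add])
        (fun r c d => by rw [TMul.smul_tm, TMul.app_smul])
        (fun c d d' => by rw [map_add, TMul.add_tm, map_add])
        (fun r c d => by rw [TMul.app_smul, TMul.tm_smul, TMul.app_smul])
    have hb1 : ∀ {V U : X.Opens} (h : V ≤ U) (d : Γ(CohB1.tensorMod E E, U)) (c : Γ(E, U)),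
        res E h (b1 U d c) = b1 V (res _ h d) (res E h c) := fun h d c => by
      simp only [b1, LinearMap.mk₂_apply]
      rw [app_res, TMul.res_tm, app_res]
    have hb2 : ∀ {V U : X.Opens} (h : V ≤ U) (c : Γ(E, U)) (d : Γ(CohB1.tensorMod E E, U)),
        res E h (b2 U c d) = b2 V (res E h c) (res _ h d) := fun h c d => by
      simp only [b2, LinearMap.mk₂_apply]
      rw [app_res, TMul.res_tm, app_res]
    have e1 : ∀ (V : X.Opens) (x y z : Γ(E, V)), (TMul.lift b1 hb1).app V (TMul.tm (TMul.tm x y) z) =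
        μ.app V (TMul.tm (μ.app V (TMul.tm x y)) z) := fun V x y z => TMul.lift_tm b1 hb1 _ _
    have e2 : ∀ (V : X.Opens) (x y z : Γ(E, V)),
        (TMul.assocHom E E E ≫ TMul.lift b2 hb2).app V (TMul.tm (TMul.tm x y) z) =
          μ.app V (TMul.tm x (μ.app V (TMul.tm y z))) := fun V x y z => by
      change (TMul.lift b2 hb2).app V ((TMul.assocHom E E E).app V (TMul.tm (TMul.tm x y) z)) = _
      rw [TMul.assocHom_tm]
      exact TMul.lift_tm b2 hb2 _ _
    have h := ext (ResDesc.isFinLocFree_tensorMod hEE hE) (TMul.lift b1 hb1)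
      (TMul.assocHom E E E ≫ TMul.lift b2 hb2) fun n => TMul.hom_ext₃ fun V x y z => by
        change (S.θ n).app V ((TMul.lift b1 hb1).app V (TMul.tm (TMul.tm x y) z)) =
          (S.θ n).app V ((TMul.assocHom E E E ≫ TMul.lift b2 hb2).app V (TMul.tm (TMul.tm x y) z))
        rw [e1, e2, hm, hm, hm, hm]
        exact mulA_assoc _ _ _ _
    rw [← e1, ← e2, h]
  · intro U a
    obtain ⟨φ, hφ⟩ := KosExt.exists_hom_affine E E
      (fun V => { toFun := fun c => μ.app V.1 (TMul.tm (res E le_top one) c)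
                  map_add' := fun c c' => by rw [TMul.add_tm, map_add]
                  map_smul' := fun r c => by rw [TMul.tm_smul, TMul.app_smul]; rfl })
      (fun V W h c => by
        change res E h (μ.app V.1 (TMul.tm (res E le_top one) c)) = μ.app W.1 (TMul.tm (res E le_top one) (res E h c))
        rw [app_res, TMul.res_tm, res_res])
    have h := ext hE φ (𝟙 E) fun n => KosExt.hom_ext_affine fun V c => by
      change (S.θ n).app V.1 (φ.app V.1 c) = (S.θ n).app V.1 c
      rw [hφ]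
      change (S.θ n).app V.1 (μ.app V.1 (TMul.tm (res E le_top one) c)) = _
      rw [hm, hone]
      exact unitA_mulA _ _
    refine section_eq_of_locally fun x hx => ?_
    obtain ⟨V, hxV, hV⟩ := KosExt.exists_affine_le hx
    refine ⟨V.1, hV, hxV, ?_⟩
    rw [app_res, TMul.res_tm, res_res]
    refine (hφ V (res E hV a)).symm.trans ?_
    rw [h]
    rfl

end AlgSys

end Groth.Agent.LefEssSurj
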